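import Cfsg.Agent.H880.ClPsuE
import Cfsg.Agent.H749.MonOrd
import Cfsg.Agent.H749.Val
import Cfsg.Agent.S0277

/-!
# The row `PSU_n(q)`, `n ≥ 4`, of radical automorphisms of prime order `p ≥ 5` (for helper459): the end

* `not_dvd_index` : the monomial subgroup of `GU_n(q)` has index prime to `p` if `p ∣ q + 1` is odd;
* `not_irr` : a radical linear automorphism of order `p ∣ q + 1` is not irreducible;
* `clAt_PSU`, `clAt_psu` : **`ClAt r p`** for `PSU_n(q)`, `n ≥ 4`.
-/

set_option autoImplicit false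
set_option linter.unusedSectionVars false

namespace Cfsg.Agent.H880.Cl

open Matrix Subgroup Module Cfsg Cfsg.Agent.H459.Rad Cfsg.Agent.H459.Iface
open Cfsg.Agent.LieClassical.HermBasic Cfsg.Agent.LieClassical.HermSiegel
open Cfsg.Agent.ClassicalGeometry.PSUAutBasic Cfsg.Agent.ClassicalGeometry.HermOrtho
open Cfsg.Agent.ClassicalGeometry.PSUAutCount (toAut gm gm_mul gm_one gm_mul_inv gm_inv_mul semiConj guConj act_guConj
  herm_gm gm_inv_mulVec gm_mulVec_inv herm_map gm_inj sc gm_sc_mul toAut_sc_mul eq_of_toAut_eq)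
open Cfsg.Agent.ClassicalGeometry.GUBasic (guDiag guPerm coe_guDiag coe_guPerm card_rootsOfUnity_eq)

section Data

variable {F : Type*} [Field F] {q n : ℕ}

theorem root_pow (a : rootsOfUnity (q + 1) F) : ((a : Fˣ) : F) ^ (q + 1) = 1 := by
  have h := a.2
  rw [mem_rootsOfUnity] at h
  rw [← Units.val_pow_eq_pow_val, h, Units.val_one]

/-- diagonal matrices -/
def dlt (n : ℕ) (F : Type*) [Field F] (q : ℕ) : (Fin n → rootsOfUnity (q + 1) F) →* GU n F q where
  toFun a := guDiag q (fun i => ((a i : Fˣ) : F)) (fun i => root_pow (a i))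
  map_one' := by
    apply gm_inj
    show Matrix.diagonal _ = 1
    rw [← Matrix.diagonal_one]
    rfl
  map_mul' a b := by
    apply gm_inj
    show Matrix.diagonal _ = Matrix.diagonal _ * Matrix.diagonal _
    rw [Matrix.diagonal_mul_diagonal]
    rfl

/-- permutation matrices -/
def rh (n : ℕ) (F : Type*) [Field F] (q : ℕ) : Equiv.Perm (Fin n) →* GU n F q where
  toFun π := guPerm q π⁻¹
  map_one' := by
    apply gm_inj
    show (1⁻¹ : Equiv.Perm (Fin n)).permMatrix F = 1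
    rw [inv_one, Matrix.permMatrix_one]
  map_mul' π σ := by
    apply gm_inj
    show ((π * σ)⁻¹ : Equiv.Perm (Fin n)).permMatrix F = (π⁻¹).permMatrix F * (σ⁻¹).permMatrix F
    rw [_root_.mul_inv_rev, Matrix.permMatrix_mul]

theorem dlt_mulVec (a : Fin n → rootsOfUnity (q + 1) F) (v : Fin n → F) (i : Fin n) :
    (gm (dlt n F q a) *ᵥ v) i = ((a i : Fˣ) : F) * v i := by
  show (Matrix.diagonal _ *ᵥ v) i = _
  rw [Matrix.mulVec_diagonal]

theorem rh_mulVec (π : Equiv.Perm (Fin n)) (v : Fin n → F) (i : Fin n) :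
    (gm (rh n F q π) *ᵥ v) i = v (π⁻¹ i) := by
  show ((π⁻¹).permMatrix F *ᵥ v) i = _
  rw [Matrix.permMatrix_mulVec]
  rfl

theorem ext_gm {A B : GU n F q} (h : ∀ v, gm A *ᵥ v = gm B *ᵥ v) : A = B :=
  gm_inj (Matrix.ext_of_mulVec_single fun _ => h _)

theorem rh_conj (π : Equiv.Perm (Fin n)) (a : Fin n → rootsOfUnity (q + 1) F) :
    ∃ a' : Fin n → rootsOfUnity (q + 1) F, rh n F q π * dlt n F q a * (rh n F q π)⁻¹ = dlt n F q a' := by
  refine ⟨fun i => a (π⁻¹ i), ?_⟩
  rw [mul_inv_eq_iff_eq_mul]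
  apply ext_gm
  intro v
  rw [gm_mul, gm_mul, ← mulVec_mulVec, ← mulVec_mulVec]
  funext i
  rw [rh_mulVec, dlt_mulVec, dlt_mulVec, rh_mulVec]

theorem mono_mulVec (a : Fin n → rootsOfUnity (q + 1) F) (π : Equiv.Perm (Fin n)) :
    ∀ i, gm (dlt n F q a * rh n F q π) *ᵥ Pi.single i 1 = ((a (π i) : Fˣ) : F) • Pi.single (π i) 1 := by
  intro i
  rw [gm_mul, ← mulVec_mulVec]
  funext j
  rw [dlt_mulVec, rh_mulVec, Pi.smul_apply, smul_eq_mul]
  by_cases h : j = π i
  · have h1 : π⁻¹ (π i) = i := π.symm_apply_apply i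
    rw [h, h1, Pi.single_eq_same, Pi.single_eq_same]
  · have h1 : π⁻¹ j ≠ i := fun h1 => h (by rw [← h1]; exact (π.apply_symm_apply j).symm)
    rw [Pi.single_eq_of_ne h1, Pi.single_eq_of_ne h, mul_zero, mul_zero]

theorem mono_inj (a : Fin n → rootsOfUnity (q + 1) F) (π : Equiv.Perm (Fin n))
    (h : dlt n F q a * rh n F q π = 1) : a = 1 ∧ π = 1 := by
  have h1 : ∀ i, ((a (π i) : Fˣ) : F) • (Pi.single (π i) 1 : Fin n → F) = (1 : F) • Pi.single i 1 := by
    intro i
    rw [← mono_mulVec, h, gm_one, one_mulVec, one_smul]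
  have hπ : π = 1 := by
    ext1 i
    refine single_smul_inj (h1 i) ?_
    rw [h1, one_smul]
    exact single_ne i
  refine ⟨?_, hπ⟩
  funext i
  have h2 := congrFun (h1 i) i
  rw [hπ] at h2
  simp only [Equiv.Perm.coe_one, id_eq, Pi.smul_apply, Pi.single_eq_same, smul_eq_mul, mul_one] at h2
  exact Subtype.ext (Units.ext h2)

/-- the monomial subgroup of `GU` -/
def MonG (n : ℕ) (F : Type*) [Field F] (q : ℕ) : Subgroup (GU n F q) :=
  H749.prodSub (dlt n F q) (rh n F q) rh_conj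

theorem mem_MonG {A : GU n F q} : A ∈ MonG n F q ↔ ∃ a π, A = dlt n F q a * rh n F q π := Iff.rfl

end Data

section Index

variable {F : Type*} [Field F] [Fintype F] {q n : ℕ}

theorem card_MonG (hF : Fintype.card F = q ^ 2) : Nat.card (MonG n F q) = (q + 1) ^ n * n.factorial := by
  rw [MonG, H749.card_prodSub (dlt n F q) (rh n F q) rh_conj mono_inj, Nat.card_fun, card_rootsOfUnity_eq hF,
    Nat.card_eq_fintype_card, Fintype.card_fin, Nat.card_eq_fintype_card, Fintype.card_perm, Fintype.card_fin]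

theorem fact_card_GU (hF : Fintype.card F = q ^ 2) {p : ℕ} [hp : Fact p.Prime] (hp2 : p ≠ 2) (hpq : p ∣ q + 1)
    (n : ℕ) : (Nat.card (GU n F q)).factorization p =
      n * (q + 1).factorization p + n.factorial.factorization p := by
  have hq2 := two_le hF
  have hpq' : ¬ p ∣ q := by
    intro h
    have h1 := (Nat.dvd_add_right h).1 hpq
    exact hp.out.one_lt.ne' (Nat.dvd_one.1 h1)
  obtain ⟨x, hx⟩ : ∃ x : ℤ, x = -(q : ℤ) := ⟨_, rfl⟩
  have hxpow : ∀ i : ℕ, (x ^ i).natAbs = q ^ i := by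
    intro i
    rw [Int.natAbs_pow, hx, Int.natAbs_neg, Int.natAbs_natCast]
  have hx1 : ∀ i : ℕ, i ≠ 0 → x ^ i ≠ 1 := by
    intro i hi h
    have h1 := hxpow i
    rw [h, Int.natAbs_one] at h1
    have h3 : 1 < q ^ i := Nat.one_lt_pow hi (by omega)
    omega
  have hprod : (∏ i ∈ Finset.range n, (if Even i then q ^ (i + 1) + 1 else q ^ (i + 1) - 1)) =
      (∏ i ∈ Finset.range n, (x ^ (i + 1) - 1)).natAbs := by
    have h1 : (∏ i ∈ Finset.range n, (x ^ (i + 1) - 1)).natAbs =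
        ∏ i ∈ Finset.range n, (x ^ (i + 1) - 1).natAbs := map_prod Int.natAbsHom _ _
    rw [h1]
    refine Finset.prod_congr rfl fun i _ => ?_
    by_cases hi : Even i
    · rw [if_pos hi]
      have h2 : Odd (i + 1) := hi.add_one
      rw [hx, h2.neg_pow]
      have h3 : (-(q : ℤ) ^ (i + 1) - 1) = -((q ^ (i + 1) + 1 : ℕ) : ℤ) := by push_cast; ring
      rw [h3, Int.natAbs_neg, Int.natAbs_natCast]
    · rw [if_neg hi]
      have h2 : Even (i + 1) := (Nat.not_even_iff_odd.1 hi).add_one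
      rw [hx, h2.neg_pow]
      have h4 : 1 ≤ q ^ (i + 1) := Nat.one_le_pow _ _ (by omega)
      have h3 : ((q : ℤ) ^ (i + 1) - 1) = ((q ^ (i + 1) - 1 : ℕ) : ℤ) := by push_cast [h4]; ring
      rw [h3, Int.natAbs_natCast]
  have he : orderOf (x : ZMod p) = 1 := by
    rw [orderOf_eq_one_iff, hx]
    push_cast
    have h1 : ((q + 1 : ℕ) : ZMod p) = 0 := (ZMod.natCast_eq_zero_iff _ _).2 hpq
    push_cast at h1
    linear_combination -h1
  have hv := H749.vp_prod hp2 he hx1 n
  rw [Nat.div_one, pow_one] at hv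
  have hv1 : H749.vp p (x - 1) = (q + 1).factorization p := by
    have h1 : x - 1 = -((q + 1 : ℕ) : ℤ) := by rw [hx]; push_cast; ring
    rw [h1, H749.vp_neg, H749.vp_natCast]
  rw [hv1] at hv
  have h0 : (∏ i ∈ Finset.range n, (x ^ (i + 1) - 1)).natAbs ≠ 0 := by
    rw [Int.natAbs_ne_zero]
    exact Finset.prod_ne_zero_iff.2 fun i _ => sub_ne_zero.2 (hx1 _ (Nat.succ_ne_zero i))
  rw [S0277.result hF n, hprod, Nat.factorization_mul (pow_ne_zero _ (by omega)) h0, Finsupp.add_apply,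
    Nat.factorization_pow, Finsupp.smul_apply, Nat.factorization_eq_zero_of_not_dvd hpq', smul_zero, zero_add]
  exact hv

/-- **The monomial subgroup has index prime to `p`.** -/
theorem not_dvd_index (hF : Fintype.card F = q ^ 2) {p : ℕ} [hp : Fact p.Prime] (hp2 : p ≠ 2) (hpq : p ∣ q + 1) :
    ¬ p ∣ (MonG n F q).index := by
  intro h
  have h1 := (MonG n F q).card_mul_index
  have hi : (MonG n F q).index ≠ 0 := Subgroup.index_ne_zero_of_finite
  have h2 : (Nat.card (MonG n F q) * (MonG n F q).index).factorization p = (Nat.card (GU n F q)).factorization p := by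
    rw [h1]
  rw [card_MonG hF, fact_card_GU hF hp2 hpq,
    Nat.factorization_mul (mul_ne_zero (pow_ne_zero _ (by omega)) (Nat.factorial_ne_zero _)) hi, Finsupp.add_apply,
    Nat.factorization_mul (pow_ne_zero _ (by omega)) (Nat.factorial_ne_zero _), Finsupp.add_apply,
    Nat.factorization_pow, Finsupp.smul_apply, smul_eq_mul] at h2
  have h3 := hp.out.factorization_pos_of_dvd hi h
  omega

/-! ### Transport of `RC` -/

theorem toAut_mul_one (A B : GU n F q) :
    (toAut A 1 * toAut B 1 : MulAut (PSU n F q)) = toAut (A * B) 1 := by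
  rw [CpAutU.Desc.toAut_mul, CpAutU.Desc.mapGU_one, mul_one]

theorem RC.of_conj {A : GU n F q} (h : RC (toAut A 1 : MulAut (PSU n F q))) (g : GU n F q) :
    RC (toAut (g⁻¹ * A * g) 1 : MulAut (PSU n F q)) := by
  have h1 := RC.tr (toAut g⁻¹ 1 : MulAut (PSU n F q)) h
  have h2 : (H459.Rad.tr (toAut g⁻¹ 1 : MulAut (PSU n F q)) (toAut A 1 : MulAut (PSU n F q)) : MulAut (PSU n F q)) =
      toAut g⁻¹ 1 * toAut A 1 * (toAut g⁻¹ 1)⁻¹ := rfl
  have h3 : ((toAut g⁻¹ 1)⁻¹ : MulAut (PSU n F q)) = toAut g 1 := by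
    rw [inv_eq_iff_mul_eq_one, toAut_mul_one, inv_mul_cancel, CpAutU.Desc.toAut_one]
  rw [h2, h3, toAut_mul_one, toAut_mul_one] at h1
  exact h1

theorem GMono.pow {A : GU n F q} {π : Equiv.Perm (Fin n)} (h : GMono A π) (k : ℕ) : GMono (A ^ k) (π ^ k) := by
  induction k with
  | zero =>
    intro i
    exact ⟨1, by rw [pow_zero, pow_zero, gm_one, one_mulVec, one_smul]; rfl⟩
  | succ k ih =>
    intro i
    obtain ⟨a, ha⟩ := h i
    obtain ⟨b, hb⟩ := ih (π i)
    refine ⟨a * b, ?_⟩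
    rw [pow_succ, gm_mul, ← mulVec_mulVec, ha, mulVec_smul, hb, smul_smul, pow_succ]
    rfl

/-- **A radical linear automorphism of order `p ∣ q + 1` is reducible.** -/
theorem not_irr (hF : Fintype.card F = q ^ 2) (hn : 4 ≤ n) {p : ℕ} [hp : Fact p.Prime] (hp5 : 5 ≤ p)
    (hpq : p ∣ q + 1) {A : GU n F q} {c : F} (hA : gm A ^ p = c • (1 : Matrix (Fin n) (Fin n) F))
    (hRC : RC (toAut A 1 : MulAut (PSU n F q)))
    (hs : ∀ W : Submodule F (Fin n → F), (∀ w ∈ W, gm A *ᵥ w ∈ W) → W = ⊥ ∨ W = ⊤) : False := by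
  have hAp : gm (A ^ p) = c • (1 : Matrix (Fin n) (Fin n) F) := by rw [gm_pow, hA]
  have hc : c * c ^ q = 1 := by
    have h1 := herm_gm (A ^ p) (Pi.single (⟨0, by omega⟩ : Fin n) 1) (Pi.single (⟨0, by omega⟩ : Fin n) 1)
    rw [hAp, smul_mulVec, one_mulVec, herm_smul_left, herm_smul_right, single_herm hF, if_pos rfl, mul_one] at h1
    exact h1
  have hcu : c ^ (q + 1) = 1 := by rw [pow_succ', hc]
  have hc0 : c ≠ 0 := by
    rintro rfl
    rw [zero_mul] at hc
    exact zero_ne_one hc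
  let c' : rootsOfUnity (q + 1) F := ⟨Units.mk0 c hc0, by
    rw [mem_rootsOfUnity]
    apply Units.ext
    rw [Units.val_pow_eq_pow_val, Units.val_mk0, hcu, Units.val_one]⟩
  have hAc : A ^ p = dlt n F q (fun _ => c') * rh n F q 1 := by
    rw [map_one, mul_one]
    apply ext_gm
    intro v
    rw [hAp, smul_mulVec, one_mulVec]
    funext i
    rw [dlt_mulVec, Pi.smul_apply, smul_eq_mul]
    rfl
  obtain ⟨g, a, π, hg⟩ := exists_conj_mem (MonG n F q) (not_dvd_index hF (by omega) hpq) (x := A) (by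
    intro g
    refine ⟨fun _ => c', 1, ?_⟩
    rw [← hAc]
    apply gm_inj
    rw [gm_mul, gm_mul, hAp, Matrix.mul_smul, Matrix.smul_mul, Matrix.mul_one, gm_inv_mul])
  set B := g⁻¹ * A * g with hB
  have hBm : GMono B π := by
    intro i
    rw [hg]
    exact ⟨_, mono_mulVec a π i⟩
  have hBRC : RC (toAut B 1 : MulAut (PSU n F q)) := RC.of_conj hRC g
  have hBp : B ^ p = A ^ p := by
    have h1 : B ^ p = g⁻¹ * A ^ p * g := by
      have h2 : B = g⁻¹ * A * (g⁻¹)⁻¹ := by rw [hB, inv_inv]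
      rw [h2, conj_pow, inv_inv]
    rw [h1]
    apply gm_inj
    rw [gm_mul, gm_mul, hAp, Matrix.mul_smul, Matrix.smul_mul, Matrix.mul_one, gm_inv_mul]
  have hπ : π = 1 := by
    by_cases h5 : 5 ≤ n
    · exact perm_eq_one_of_rc hF h5 hBm hBRC
    · have h4 : n = 4 := by omega
      subst h4
      have hπp : π ^ p = 1 := by
        ext1 i
        obtain ⟨b, hb⟩ := hBm.pow p i
        rw [hBp, hAp, smul_mulVec, one_mulVec] at hb
        have h1 := single_smul_inj hb (smul_ne_zero hc0 (single_ne i))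
        exact h1.symm
      have h1 := orderOf_dvd_of_pow_eq_one hπp
      have h2 := orderOf_dvd_natCard π
      rw [Nat.card_eq_fintype_card, Fintype.card_perm, Fintype.card_fin] at h2
      rcases (Nat.dvd_prime hp.out).1 h1 with h3 | h3
      · exact orderOf_eq_one_iff.1 h3
      · exfalso
        rw [h3] at h2
        have h4 := (hp.out.dvd_factorial).1 h2
        omega
  -- the first line of the frame
  obtain ⟨b, hb⟩ := hBm ⟨0, by omega⟩
  rw [hπ] at hb
  have hb' : gm B *ᵥ Pi.single (⟨0, by omega⟩ : Fin n) 1 = b • Pi.single (⟨0, by omega⟩ : Fin n) 1 := hb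
  have hAB : A * g = g * B := by rw [hB]; group
  set w : Fin n → F := gm g *ᵥ Pi.single (⟨0, by omega⟩ : Fin n) 1 with hw
  have hAw : gm A *ᵥ w = b • w := by
    rw [hw, mulVec_mulVec, ← gm_mul, hAB, gm_mul, ← mulVec_mulVec, hb', mulVec_smul]
  have hw0 : w ≠ 0 := by
    intro h
    have h1 := gm_inv_mulVec g (Pi.single (⟨0, by omega⟩ : Fin n) 1)
    rw [← hw, h, mulVec_zero] at h1
    exact single_ne _ h1.symm
  rcases hs (Submodule.span F {w}) (by
    intro v hv
    obtain ⟨k, rfl⟩ := Submodule.mem_span_singleton.mp hv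
    rw [mulVec_smul, hAw, smul_smul]
    exact Submodule.smul_mem _ _ (Submodule.mem_span_singleton_self w)) with h2 | h2
  · rw [Submodule.span_singleton_eq_bot] at h2
    exact hw0 h2
  · have h3 := finrank_span_singleton (K := F) hw0
    rw [h2, finrank_top, finrank_fin_fun] at h3
    omega

theorem exists_root_or (hF : Fintype.card F = q ^ 2) {p : ℕ} (hp : p.Prime) {c : F} (hc : c * c ^ q = 1) :
    (∃ d : F, d * d ^ q = 1 ∧ d ^ p = c) ∨ p ∣ q + 1 := by
  by_cases h : p ∣ q + 1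
  · exact Or.inr h
  left
  have hcu : c ^ (q + 1) = 1 := by rw [pow_succ', hc]
  have hc0 : c ≠ 0 := by
    rintro rfl
    rw [zero_mul] at hc
    exact zero_ne_one hc
  let c' : rootsOfUnity (q + 1) F := ⟨Units.mk0 c hc0, by
    rw [mem_rootsOfUnity]
    apply Units.ext
    rw [Units.val_pow_eq_pow_val, Units.val_mk0, hcu, Units.val_one]⟩
  have hcop : (Nat.card (rootsOfUnity (q + 1) F)).Coprime p := by
    rw [card_rootsOfUnity_eq hF]
    exact ((Nat.Prime.coprime_iff_not_dvd hp).2 h).symm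
  obtain ⟨d, hd⟩ := (powCoprime hcop).surjective c'
  refine ⟨((d : Fˣ) : F), ?_, ?_⟩
  · rw [← pow_succ']
    exact root_pow d
  · have h1 : d ^ p = c' := hd
    have h2 : (((d ^ p : rootsOfUnity (q + 1) F) : Fˣ) : F) = c := by
      rw [h1]
      rfl
    rw [← h2, Subgroup.coe_pow, Units.val_pow_eq_pow_val]

end Index

/-- **The row `PSU_n(q)`, `n ≥ 4`.** -/
theorem clAt_PSU {F : Type} [Field F] [Fintype F] {n q r p : ℕ} [Fact r.Prime] [hp : Fact p.Prime] [CharP F r]
    (hF : Fintype.card F = q ^ 2) (hn : 4 ≤ n) (hp5 : 5 ≤ p) : ClAt r p (PSU n F q) := by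
  intro x hx hRC
  have hq2 := two_le hF
  obtain ⟨A, ρ, rfl⟩ := ClassicalGeometry.PSUAutMain.exists_toAut hF (by omega : 3 ≤ n) (by omega) x
  have hpow : toAut A ρ ^ p = 1 := by rw [← hx, pow_orderOf_eq_one]
  by_cases hρ : ρ = 1
  · subst hρ
    obtain ⟨-, c, hc1, hc⟩ := CpAutU.Desc.exists_scalar hF (by omega : 3 ≤ n) hpow
    have hgm : gm A ^ p = c • (1 : Matrix (Fin n) (Fin n) F) := by
      rw [← gm_pow]
      have h1 : ∀ k : ℕ, ∀ v, (CpAut.Psl.perm (A : GL (Fin n) F) 1 ^ k) v = gm (A ^ k) *ᵥ v := by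
        intro k
        induction k with
        | zero => intro v; rw [pow_zero, pow_zero, gm_one, one_mulVec]; rfl
        | succ k ih =>
          intro v
          rw [pow_succ, Equiv.Perm.mul_apply, ih, pow_succ, gm_mul, ← mulVec_mulVec]
          rfl
      apply Matrix.ext_of_mulVec_single
      intro i
      rw [← h1, hc, Matrix.smul_mulVec, one_mulVec]
    rcases exists_root_or hF hp.out hc1 with ⟨d, hd, hdc⟩ | hpq
    · have hgm' : gm A ^ p = d ^ p • (1 : Matrix (Fin n) (Fin n) F) := by rw [hdc, hgm]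
      rcases irr_or_fix hF hn (r := r) hp.out hp5 hRC (Or.inr ⟨d, hd, hgm'⟩) with h | h
      · exact Or.inl h
      · exact Or.inr (cyc_of_irr (by omega) hd hgm' h)
    · have hq4 : 4 ≤ q := by
        have h1 := Nat.le_of_dvd (by omega) hpq
        omega
      rcases irr_or_fix hF hn (r := r) hp.out hp5 hRC (Or.inl hq4) with h | h
      · exact Or.inl h
      · exact (not_irr hF hn hp5 hpq hgm hRC h).elim
  · exact Or.inl (fixR_field hF (by omega) hp.out (by omega) hρ hpow)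

/-- **The row `PSU_n(q)`, `n ≥ 4`, up to isomorphism.** -/
theorem clAt_psu {K : Type*} [Group K] [Finite K] [IsSimpleGroup K] {F : Type} [Field F] [Fintype F] {n q r p : ℕ}
    [Fact r.Prime] [Fact p.Prime] [CharP F r] (hF : Fintype.card F = q ^ 2) (hn : 4 ≤ n)
    (e : Nonempty (K ≃* PSU n F q)) (hp : 5 ≤ p) (_hpr : p ≠ r) : ClAt r p K := by
  obtain ⟨e⟩ := e
  exact (clAt_PSU hF hn hp).congr e

end Cfsg.Agent.H880.Cl
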