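import Cfsg.Agent.H880.ClPsuA

/-!
# The row `PSU_n(q)`: invariant non-degenerate subspaces (for helper459)

* `mem_range_ext` : an element of `SU_n` fixing the basis vectors outside a block lies in the block;
* `exists_phi` : the pointwise stabiliser `fixP q W` of `W^⊥` is a copy of `SU (dim W)`;
* `fixR_of_quasi` : a radical linear automorphism with a proper invariant non-degenerate subspace `W`, `SU(W)`
  quasisimple, has an invariant singular vector.
-/

set_option autoImplicit false
set_option linter.unusedSectionVars false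

namespace Cfsg.Agent.H880.Cl

open Matrix Subgroup Module Cfsg Cfsg.Agent.H459.Rad Cfsg.Agent.H459.Iface
open Cfsg.Agent.LieClassical.HermBasic Cfsg.Agent.LieClassical.HermSiegel
open Cfsg.Agent.ClassicalGeometry.PSUAutBasic Cfsg.Agent.ClassicalGeometry.HermOrtho
open Cfsg.Agent.ClassicalGeometry.PSUAutCount (toAut gm gm_mul gm_one gm_mul_inv gm_inv_mul semiConj guConj act_guConj
  herm_gm gm_inv_mulVec gm_mulVec_inv herm_map gm_inj)

section Block

variable {F : Type*} [Field F] [Fintype F] {q n l : ℕ}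

theorem mem_range_ext (hF : Fintype.card F = q ^ 2) {e : Fin l → Fin n} (he : Function.Injective e) {g : SU n F q}
    (hg : ∀ x, x ∉ Set.range e → act g (Pi.single x 1) = Pi.single x 1) :
    ∃ a : SU l F q, Phan.ext hF e he a = g := by
  classical
  have hrow : ∀ x, x ∉ Set.range e → ∀ v, act g v x = v x := by
    intro x hx v
    have h1 := herm_act g v (Pi.single x 1)
    rw [hg x hx, herm_single_right hF, herm_single_right hF, one_pow, mul_one, mul_one] at h1
    exact h1
  have hM : ∀ i j, (i ∉ Set.range e ∨ j ∉ Set.range e) → (mat g - 1) i j = 0 := by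
    intro i j hij
    have h1 : (mat g - 1) i j = act g (Pi.single j 1) i - (Pi.single j 1 : Fin n → F) i := by
      rw [act_single, Matrix.sub_apply, Matrix.one_apply, Pi.single_apply]
    rw [h1]
    rcases hij with h | h
    · rw [hrow i h, sub_self]
    · rw [hg j h, sub_self]
  have hPM : Phan.inc F e * (Phan.inc F e)ᵀ * (mat g - 1) * (Phan.inc F e * (Phan.inc F e)ᵀ) = mat g - 1 := by
    rw [GenPsu.proj_eq F he]
    ext i j
    rw [Matrix.mul_diagonal, Matrix.diagonal_mul]
    by_cases hi : i ∈ Set.range e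
    · by_cases hj : j ∈ Set.range e
      · rw [if_pos hi, if_pos hj, one_mul, mul_one]
      · rw [hM i j (Or.inr hj), mul_zero, zero_mul]
    · rw [hM i j (Or.inl hi), mul_zero, zero_mul]
  set b : Matrix (Fin l) (Fin l) F := (Phan.inc F e)ᵀ * mat g * Phan.inc F e with hb
  have hbB : Phan.extM e b = mat g := by
    have h3 : b - 1 = (Phan.inc F e)ᵀ * (mat g - 1) * Phan.inc F e := by
      rw [Matrix.mul_sub, Matrix.sub_mul, Matrix.mul_one, Phan.incT_mul_inc he]
    have h4 : Phan.inc F e * ((Phan.inc F e)ᵀ * (mat g - 1) * Phan.inc F e) * (Phan.inc F e)ᵀ =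
        Phan.inc F e * (Phan.inc F e)ᵀ * (mat g - 1) * (Phan.inc F e * (Phan.inc F e)ᵀ) := by
      simp only [Matrix.mul_assoc]
    rw [Phan.extM, h3, h4, hPM]
    abel
  have hbd : b.det = 1 := by rw [← Phan.extM_det he, hbB]; exact det_mat g
  have hbi : ∀ u v : Fin l → F, hermForm l F q (b *ᵥ u) (b *ᵥ v) = hermForm l F q u v := by
    intro u v
    rw [← Phan.herm_inc he, ← Phan.extM_inc he, ← Phan.extM_inc he, hbB, ← act_def, ← act_def, herm_act,
      Phan.herm_inc he]
  refine ⟨Phan.mk b hbd hbi, Phan.mat_inj ?_⟩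
  rw [Phan.mat_ext, Phan.mat_mk, hbB]
  rfl

/-- The elements of `SU` that fix `W^⊥` pointwise. -/
def fixP (q : ℕ) (W : Submodule F (Fin n → F)) : Subgroup (SU n F q) where
  carrier := {g | ∀ v ∈ hermPerp q (W : Set (Fin n → F)), act g v = v}
  one_mem' := fun v _ => act_one v
  mul_mem' := by
    intro g h hg hh v hv
    rw [act_mul, hh v hv, hg v hv]
  inv_mem' := by
    intro g hg v hv
    symm
    rw [← act_eq_iff]
    exact hg v hv

theorem guConj_inv_apply (A : GU n F q) (g : SU n F q) : guConj A (guConj A⁻¹ g) = g := by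
  apply ext_act
  intro v
  rw [act_guConj, act_guConj, gm_inv_mulVec, gm_mulVec_inv]

/-- **The pointwise stabiliser of `W^⊥` is a copy of `SU (dim W)`.** -/
theorem exists_phi (hF : Fintype.card F = q ^ 2) {W : Submodule F (Fin n → F)}
    (hW : ∀ u ∈ W, (∀ v ∈ W, hermForm n F q u v = 0) → u = 0) {m : ℕ} (hm : finrank F W = m) :
    ∃ φ : SU m F q →* SU n F q, Function.Injective φ ∧ φ.range = fixP q W := by
  have hmn : m ≤ n := by
    have h1 := Submodule.finrank_le W
    rwa [hm, finrank_fin_fun] at h1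
  obtain ⟨k, rfl⟩ := Nat.exists_eq_add_of_le hmn
  let e0 : Fin m ⊕ Fin k ≃ Fin (m + k) := finSumFinEquiv
  obtain ⟨P, hP, hPx⟩ := exists_GU_adapted hF e0 W hW hm
  let P' : GU (m + k) F q := ⟨P, hP⟩
  have hPx' : ∀ x, gm P' *ᵥ x ∈ W ↔ ∀ j : Fin k, x (e0 (.inr j)) = 0 := hPx
  let e : Fin m → Fin (m + k) := fun i => e0 (.inl i)
  have he : Function.Injective e := fun i j h => Sum.inl_injective (e0.injective h)
  have hran : ∀ x, x ∉ Set.range e → ∃ j, x = e0 (.inr j) := by
    intro x hx
    obtain ⟨s, rfl⟩ := e0.surjective x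
    rcases s with i | j
    · exact absurd ⟨i, rfl⟩ hx
    · exact ⟨j, rfl⟩
  refine ⟨(guConj P').toMonoidHom.comp (Phan.ext hF e he), ?_, ?_⟩
  · exact (guConj P').injective.comp (Phan.ext_injective hF he)
  · ext g
    constructor
    · rintro ⟨a, rfl⟩ v hv
      show act (guConj P' (Phan.ext hF e he a)) v = v
      rw [act_guConj]
      have hy : ∀ i, (gm P'⁻¹ *ᵥ v) (e i) = 0 := by
        intro i
        have h1 : hermForm (m + k) F q (gm P'⁻¹ *ᵥ v) (Pi.single (e i) 1) = 0 := by
          rw [← herm_gm P', gm_mulVec_inv]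
          refine hv _ ?_
          rw [SetLike.mem_coe, hPx']
          intro j
          rw [Pi.single_eq_of_ne]
          intro h
          exact absurd (e0.injective h) (by simp)
        rwa [herm_single_right hF, one_pow, mul_one] at h1
      have h2 : act (Phan.ext hF e he a) (gm P'⁻¹ *ᵥ v) = gm P'⁻¹ *ᵥ v := by
        funext x
        by_cases hx : x ∈ Set.range e
        · obtain ⟨i, rfl⟩ := hx
          have h3 : act (Phan.ext hF e he a) (gm P'⁻¹ *ᵥ v) (e i) = (Phan.mat a *ᵥ ((gm P'⁻¹ *ᵥ v) ∘ e)) i :=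
            Phan.extM_mulVec he _ _ _
          have h4 : (gm P'⁻¹ *ᵥ v) ∘ e = 0 := funext hy
          rw [h3, h4, mulVec_zero, hy]
          rfl
        · exact Phan.extM_mulVec_of_notMem (fun i hi => hx ⟨i, hi.symm⟩) _ _
      rw [h2, gm_mulVec_inv]
    · intro hg
      obtain ⟨a, ha⟩ : ∃ a : SU m F q, Phan.ext hF e he a = guConj P'⁻¹ g := by
        apply mem_range_ext hF he
        intro x hx
        obtain ⟨j, rfl⟩ := hran x hx
        have h1 : gm P' *ᵥ (Pi.single (e0 (.inr j)) 1 : Fin (m + k) → F) ∈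
            hermPerp q (W : Set (Fin (m + k) → F)) := by
          intro w hw
          have h2 : (gm P'⁻¹ *ᵥ w) (e0 (.inr j)) = 0 := by
            refine (hPx' _).1 ?_ j
            rw [gm_mulVec_inv]
            exact hw
          rw [← gm_mulVec_inv P' w, herm_gm, herm_single_left, h2, zero_pow_q hF, mul_zero]
        rw [act_guConj, inv_inv, hg _ h1, gm_inv_mulVec]
      refine ⟨a, ?_⟩
      show guConj P' (Phan.ext hF e he a) = g
      rw [ha, guConj_inv_apply]

/-- **Invariant non-degenerate subspaces.** -/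
theorem fixR_of_quasi (hF : Fintype.card F = q ^ 2) (hn : 3 ≤ n) {r : ℕ} [Fact r.Prime] [CharP F r] {A : GU n F q}
    (hRC : RC (toAut A 1 : MulAut (PSU n F q))) {W : Submodule F (Fin n → F)}
    (hW : ∀ u ∈ W, (∀ v ∈ W, hermForm n F q u v = 0) → u = 0) (hAW : ∀ w ∈ W, gm A *ᵥ w ∈ W)
    {m : ℕ} (hm : finrank F W = m) (h2 : 2 ≤ m) (hlt : m < n)
    (hq : IsQuasisimple (SU m F q)) : FixR r (toAut A 1 : MulAut (PSU n F q)) := by
  obtain ⟨φ, hφ, hran⟩ := exists_phi hF hW hm
  have hWp : hermPerp q (W : Set (Fin n → F)) ≠ ⊥ := by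
    intro h
    have h1 := finrank_hermPerp_of_nondeg hF W hW
    rw [h, finrank_bot] at h1
    omega
  have hWb : W ≠ ⊥ := by
    intro h
    rw [h, finrank_bot] at hm
    omega
  obtain ⟨v₀, hv₀, hv₀1⟩ := exists_norm_one_vector hF _ (hermPerp_nondeg hF W hW) hWp
  obtain ⟨w₀, hw₀, hw₀1⟩ := exists_norm_one_vector hF W hW hWb
  have hv₀0 : v₀ ≠ 0 := by
    rintro rfl
    rw [herm_zero_left] at hv₀1
    exact zero_ne_one hv₀1
  obtain ⟨μ, hμ0, hμ⟩ := exists_trace_zero_ne hF
  obtain ⟨c₀, hc₀⟩ := exists_norm_eq hF (c := -1) (by rw [neg_pow_q hF, one_pow])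
  -- elements of the image act as scalars on `W^⊥`
  have hscal : ∀ g f : SU n F q, f ∈ fixP q W → pr n F q f = pr n F q g →
      ∃ c : F, ∀ v ∈ hermPerp q (W : Set (Fin n → F)), act g v = c • v := by
    intro g f hf h
    obtain ⟨z, hz, rfl⟩ := exists_center_mul h
    obtain ⟨c, -, -, hc⟩ := exists_scalar_of_mem_center hF hn hz
    exact ⟨c, fun v hv => by rw [act_mul, hc, act_smul, hf v hv]⟩
  have hinj : Function.Injective ((pr n F q).comp φ) := by
    rw [injective_iff_map_eq_one]
    intro a ha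
    have h1 : φ a ∈ fixP q W := hran ▸ ⟨a, rfl⟩
    have h3 : pr n F q (φ a) = 1 := ha
    rw [pr_eq_one_iff] at h3
    obtain ⟨c, -, -, hc⟩ := exists_scalar_of_mem_center hF hn h3
    have h4 := h1 v₀ hv₀
    rw [hc] at h4
    have h5 : (c - 1) • v₀ = 0 := by rw [sub_smul, one_smul, h4, sub_self]
    have h6 : c = 1 := by
      rcases smul_eq_zero.mp h5 with h | h
      · exact sub_eq_zero.mp h
      · exact absurd h hv₀0
    apply hφ
    rw [map_one]
    apply ext_act
    intro v
    rw [hc, h6, one_smul, act_one]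
  set M : Subgroup (PSU n F q) := ((pr n F q).comp φ).range with hM
  have hMmem : ∀ x, x ∈ M ↔ ∃ f ∈ fixP q W, pr n F q f = x := by
    intro x
    constructor
    · rintro ⟨a, rfl⟩
      exact ⟨φ a, hran ▸ ⟨a, rfl⟩, rfl⟩
    · rintro ⟨f, hf, rfl⟩
      rw [← hran] at hf
      obtain ⟨a, rfl⟩ := hf
      exact ⟨a, rfl⟩
  have hMq : IsQuasisimple M :=
    SignalizersComponents.Components.isQuasisimple_of_mulEquiv (MonoidHom.ofInjective hinj) hq
  have hMtop : M ≠ ⊤ := by
    intro htop
    -- the transvection with centre `v₀ + c₀ w₀`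
    have hvw : hermForm n F q v₀ w₀ = 0 := hv₀ w₀ hw₀
    have hwv : hermForm n F q w₀ v₀ = 0 := herm_eq_zero_swap hF hvw
    have hu : hermForm n F q (v₀ + c₀ • w₀) (v₀ + c₀ • w₀) = 0 := by
      rw [herm_add_left, herm_add_right hF, herm_add_right hF, herm_smul_left, herm_smul_right, herm_smul_left,
        herm_smul_right, hv₀1, hw₀1, hvw, hwv]
      linear_combination hc₀
    have hvu : hermForm n F q v₀ (v₀ + c₀ • w₀) = 1 := by
      rw [herm_add_right hF, herm_smul_right, hv₀1, hvw, mul_zero, add_zero]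
    have hmem : pr n F q (transv hF _ hu μ hμ) ∈ M := by rw [htop]; exact mem_top _
    obtain ⟨f, hf, hfe⟩ := (hMmem _).1 hmem
    obtain ⟨c, hc⟩ := hscal _ f hf hfe
    have h1 := hc v₀ hv₀
    rw [act_transv, hvu, mul_one] at h1
    -- pair with `w₀`
    have h3 := congrArg (fun v => hermForm n F q v w₀) h1
    simp only [herm_add_left, herm_smul_left, hvw, hw₀1] at h3
    have hc₀0 : c₀ ≠ 0 := by
      rintro rfl
      rw [zero_mul] at hc₀
      exact one_ne_zero (neg_eq_zero.mp hc₀.symm)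
    have h4 : μ * c₀ = 0 := by linear_combination h3
    exact (mul_ne_zero hμ0 hc₀0) h4
  have hMinv : ∀ x ∈ M, toAut A 1 x ∈ M := by
    intro x hx
    rw [hMmem] at hx ⊢
    obtain ⟨f, hf, rfl⟩ := hx
    refine ⟨guConj A f, fun v hv => ?_, rfl⟩
    rw [act_guConj, hf, gm_mulVec_inv]
    intro w hw
    rw [← herm_gm A, gm_mulVec_inv]
    exact hv _ (hAW w hw)
  have hfix : ∀ f ∈ fixP q W, pr n F q (guConj A f) = pr n F q f := by
    intro f hf
    exact hRC.eq_of_quasisimple hMtop hMinv hMq ((hMmem _).2 ⟨f, hf, rfl⟩)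
  -- a singular vector of `W`
  obtain ⟨b, hbW, hb⟩ := exists_orthonormal hF W hW hm
  have hij : (⟨0, by omega⟩ : Fin m) ≠ ⟨1, by omega⟩ := by simp
  set u := b ⟨0, by omega⟩ + c₀ • b ⟨1, by omega⟩ with hu_def
  have huW : u ∈ W := W.add_mem (hbW _) (W.smul_mem _ (hbW _))
  have hu0 : u ≠ 0 := by
    intro h0
    have h1 : hermForm n F q u (b ⟨0, by omega⟩) = 0 := by rw [h0, herm_zero_left]
    rw [hu_def, herm_add_left, herm_smul_left, hb, hb, if_pos rfl, if_neg (Ne.symm hij), mul_zero, add_zero] at h1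
    exact one_ne_zero h1
  have huu : hermForm n F q u u = 0 := by
    rw [hu_def, herm_add_left, herm_add_right hF, herm_add_right hF, herm_smul_left, herm_smul_right, herm_smul_left,
      herm_smul_right, hb, hb, hb, hb, if_pos rfl, if_pos rfl, if_neg hij, if_neg (Ne.symm hij)]
    linear_combination hc₀
  have ht : transv hF u huu μ hμ ∈ fixP q W := by
    intro v hv
    rw [act_transv, hv u huW, mul_zero, zero_smul, add_zero]
  obtain ⟨k, hk⟩ := siegel_pow_prime_pow hF r (isSiegel_zero huu hμ)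
  have hk' : transv hF u huu μ hμ ^ r ^ k = 1 := hk
  have hcomm : guConj A (transv hF u huu μ hμ) = transv hF u huu μ hμ :=
    eq_of_pr_eq hF hn (k := k) (l := k) (by rw [← map_pow, hk', map_one]) hk' (hfix _ ht)
  obtain ⟨v, hv⟩ := exists_herm_ne_zero hF hu0
  have hv' : hermForm n F q v u ≠ 0 := fun h1 => hv (herm_eq_zero_swap hF h1)
  have h5 : act (guConj A (transv hF u huu μ hμ)) (gm A *ᵥ v) = act (transv hF u huu μ hμ) (gm A *ᵥ v) := by
    rw [hcomm]
  rw [act_guConj, gm_inv_mulVec, act_transv, act_transv, mulVec_add, mulVec_smul] at h5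
  have h6 := add_left_cancel h5
  have h7 : gm A *ᵥ u = ((μ * hermForm n F q v u)⁻¹ * (μ * hermForm n F q (gm A *ᵥ v) u)) • u := by
    rw [← smul_smul, ← h6, inv_smul_smul₀ (mul_ne_zero hμ0 hv')]
  exact fixR_vec hF hn hu0 huu h7

end Block

end Cfsg.Agent.H880.Cl
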