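import Cfsg.Agent.H880.ClPsuC
import Cfsg.Agent.H469.IrrCyc
import Cfsg.Agent.Schreier.PSU

/-!
# Irreducible elements of order `p` have cyclic Sylow subgroups (for helper459)

* `isCyclic_of_comm` : a finite group of linear maps commuting with an irreducible linear map is cyclic;
* `sylow_cyclic_of_irr` : a finite linear group with an irreducible element of order `p` has cyclic Sylow `p`-subgroups;
* `cyc_of_irr` : `PSU_n(q)`: `Cyc p (toAut A 1)` if `A` is irreducible and `A ^ p` the `p`-th power of a scalar of norm one.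
-/

set_option autoImplicit false
set_option linter.unusedSectionVars false

namespace Cfsg.Agent.H880.Cl

open Matrix Subgroup Module Cfsg Cfsg.Agent.H459.Rad Cfsg.Agent.H459.Iface
open Cfsg.Agent.LieClassical.HermBasic Cfsg.Agent.LieClassical.HermSiegel
open Cfsg.Agent.ClassicalGeometry.PSUAutBasic Cfsg.Agent.ClassicalGeometry.HermOrtho
open Cfsg.Agent.ClassicalGeometry.PSUAutCount (toAut gm gm_mul gm_one gm_mul_inv gm_inv_mul semiConj guConj act_guConj
  herm_gm gm_inv_mulVec gm_mulVec_inv herm_map gm_inj sc gm_sc_mul toAut_sc_mul)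

section Cyclic

variable {K V : Type*} [Field K] [AddCommGroup V] [Module K V]

open scoped IsMulCommutative in
/-- A finite group of linear maps commuting with an irreducible linear map is cyclic. -/
theorem isCyclic_of_comm [Nontrivial V] (T : Module.End K V)
    (hs : ∀ W : Submodule K V, (∀ w ∈ W, T w ∈ W) → W = ⊥ ∨ W = ⊤) {H : Type*} [Group H] [Finite H]
    (f : H →* Module.End K V) (hf : Function.Injective f) (hT : ∀ h, f h * T = T * f h) : IsCyclic H := by
  obtain ⟨w, hw⟩ := exists_ne (0 : V)
  have hcomm : ∀ S : Module.End K V, S * T = T * S → ∀ k : Polynomial K,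
      S * Polynomial.aeval T k = Polynomial.aeval T k * S := by
    intro S hS k
    refine (Algebra.commute_of_mem_adjoin_singleton_of_commute (R := K) (a := S) (b := T) ?_ hS).eq
    rw [Algebra.adjoin_singleton_eq_range_aeval]
    exact ⟨k, rfl⟩
  have hmem : ∀ S : Module.End K V, S * T = T * S → S ∈ Algebra.adjoin K {T} := by
    intro S hS
    obtain ⟨g, hg⟩ := H469.IrrCyc.orbMap_surjective T hs hw (S w)
    have h1 : S = Polynomial.aeval T g := by
      ext u
      obtain ⟨k, rfl⟩ := H469.IrrCyc.orbMap_surjective T hs hw u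
      show (S * Polynomial.aeval T k) w = (Polynomial.aeval T g * Polynomial.aeval T k) w
      rw [hcomm S hS, ← map_mul, mul_comm g k, map_mul, Module.End.mul_apply, Module.End.mul_apply, ← hg]
      rfl
    rw [h1, Algebra.adjoin_singleton_eq_range_aeval]
    exact ⟨g, rfl⟩
  have hcm : IsMulCommutative (Algebra.adjoin K ({T} : Set (Module.End K V))) :=
    Algebra.isMulCommutative_adjoin K (by simp)
  have hdom : IsDomain (Algebra.adjoin K ({T} : Set (Module.End K V))) := by
    have h1 : NoZeroDivisors (Algebra.adjoin K ({T} : Set (Module.End K V))) := by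
      refine ⟨?_⟩
      rintro ⟨a, ha⟩ ⟨b, hb⟩ hab
      have hab' : a * b = 0 := congrArg Subtype.val hab
      by_cases ha0 : a = 0
      · left; exact Subtype.ext ha0
      right
      have hTa : T * a = a * T := (Algebra.commute_of_mem_adjoin_self ha).eq
      have hker : LinearMap.ker a = ⊥ := by
        rcases hs (LinearMap.ker a) (by
          intro v hv
          rw [LinearMap.mem_ker] at hv ⊢
          have h2 : (a * T) v = (T * a) v := by rw [hTa]
          rw [Module.End.mul_apply, Module.End.mul_apply, hv, map_zero] at h2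
          exact h2) with h | h
        · exact h
        · exact absurd (LinearMap.ker_eq_top.1 h) ha0
      apply Subtype.ext
      show b = 0
      ext v
      have h2 : (a * b) v = 0 := by rw [hab']; rfl
      have h3 : b v ∈ LinearMap.ker a := h2
      rw [hker, Submodule.mem_bot] at h3
      rw [h3]
      rfl
    exact NoZeroDivisors.to_isDomain _
  let f' : H →* Algebra.adjoin K ({T} : Set (Module.End K V)) :=
    { toFun := fun h => ⟨f h, hmem _ (hT h)⟩
      map_one' := Subtype.ext (map_one f)
      map_mul' := fun a b => Subtype.ext (map_mul f a b) }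
  exact isCyclic_of_injective_ringHom f' fun a b h => hf (congrArg Subtype.val h)

/-- Elements of order dividing `p` in a cyclic group. -/
theorem mem_zpowers_of_cyclic {C : Type*} [Group C] [Finite C] [IsCyclic C] {x z : C} {p : ℕ} (hp : 0 < p)
    (hx : x ^ p = 1) (hz : orderOf z = p) : x ∈ zpowers z := by
  classical
  have : Fintype C := Fintype.ofFinite C
  have h1 := IsCyclic.card_pow_eq_one_le (α := C) hp
  have h2 : (zpowers z : Set C).toFinset ⊆ Finset.univ.filter fun a : C => a ^ p = 1 := by
    intro a ha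
    rw [Set.mem_toFinset] at ha
    obtain ⟨k, rfl⟩ := ha
    rw [Finset.mem_filter]
    refine ⟨Finset.mem_univ _, ?_⟩
    show (z ^ k) ^ p = 1
    rw [← zpow_natCast, ← _root_.zpow_mul, mul_comm, _root_.zpow_mul, zpow_natCast, ← hz, pow_orderOf_eq_one, _root_.one_zpow]
  have h3 : (zpowers z : Set C).toFinset.card = p := by
    rw [Set.toFinset_card, ← Nat.card_eq_fintype_card]
    exact (Nat.card_zpowers z).trans hz
  have h4 := Finset.eq_of_subset_of_card_le h2 (by rw [h3]; exact h1)
  have h5 : x ∈ (zpowers z : Set C).toFinset := by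
    rw [h4, Finset.mem_filter]
    exact ⟨Finset.mem_univ _, hx⟩
  exact Set.mem_toFinset.1 h5

/-- **A finite linear group with an irreducible element of order `p` has cyclic Sylow `p`-subgroups.** -/
theorem sylow_cyclic_of_irr [Nontrivial V] {G : Type*} [Group G] [Finite G]
    (f : G →* Module.End K V) (hf : Function.Injective f) {p : ℕ} [hp : Fact p.Prime] {x : G} (hx : orderOf x = p)
    (hs : ∀ W : Submodule K V, (∀ w ∈ W, f x w ∈ W) → W = ⊥ ∨ W = ⊤) (P : Sylow p G) :
    IsCyclic (P : Subgroup G) := by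
  have hC : IsCyclic (centralizer ({x} : Set G)) := by
    refine isCyclic_of_comm (f x) hs (f.comp (centralizer ({x} : Set G)).subtype)
      (hf.comp Subtype.val_injective) ?_
    rintro ⟨g, hg⟩
    rw [mem_centralizer_singleton_iff] at hg
    show f g * f x = f x * f g
    rw [← map_mul, hg, map_mul]
  have hxp : IsPGroup p (zpowers x) := by
    refine IsPGroup.of_card (n := 1) ?_
    rw [Nat.card_zpowers, hx, pow_one]
  obtain ⟨Q, hQ⟩ := hxp.exists_le_sylow
  have hxQ : x ∈ (Q : Subgroup G) := hQ (mem_zpowers x)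
  have hx1 : x ≠ 1 := by
    intro h
    rw [h, orderOf_one] at hx
    exact hp.out.one_lt.ne hx
  have hQn : Nontrivial (Q : Subgroup G) := ⟨⟨⟨x, hxQ⟩, 1, fun h => hx1 (congrArg Subtype.val h)⟩⟩
  have hcn : Nontrivial (center (Q : Subgroup G)) := Q.isPGroup'.center_nontrivial
  have hcp : IsPGroup p (center (Q : Subgroup G)) := Q.isPGroup'.to_subgroup _
  obtain ⟨k, hk, hkc⟩ := hcp.nontrivial_iff_card.1 hcn
  obtain ⟨z, hz⟩ := exists_prime_orderOf_dvd_card' (G := center (Q : Subgroup G)) p
    (by rw [hkc]; exact dvd_pow_self p (by omega))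
  have hz' : orderOf ((z : (Q : Subgroup G)) : G) = p := by
    rw [Subgroup.orderOf_coe, Subgroup.orderOf_coe, hz]
  have hzQ : ∀ g ∈ (Q : Subgroup G), g * ((z : (Q : Subgroup G)) : G) = ((z : (Q : Subgroup G)) : G) * g := by
    intro g hg
    have h1 := mem_center_iff.1 z.2 ⟨g, hg⟩
    exact congrArg Subtype.val h1
  have hzC : ((z : (Q : Subgroup G)) : G) ∈ centralizer ({x} : Set G) := by
    rw [mem_centralizer_singleton_iff]
    exact (hzQ x hxQ).symm
  have hxC : x ∈ centralizer ({x} : Set G) := mem_centralizer_singleton_iff.2 rfl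
  have h1 := mem_zpowers_of_cyclic (C := centralizer ({x} : Set G)) (x := ⟨x, hxC⟩)
    (z := ⟨((z : (Q : Subgroup G)) : G), hzC⟩) hp.out.pos
    (Subtype.ext (by rw [Subgroup.coe_pow, ← hx, pow_orderOf_eq_one]; rfl))
    (by rw [← Subgroup.orderOf_coe]; exact hz')
  obtain ⟨k, hk⟩ := h1
  have hk' : ((z : (Q : Subgroup G)) : G) ^ k = x := congrArg Subtype.val hk
  have hQC : (Q : Subgroup G) ≤ centralizer ({x} : Set G) := by
    intro g hg
    rw [mem_centralizer_singleton_iff]
    have h2 : Commute g ((z : (Q : Subgroup G)) : G) := hzQ g hg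
    have h3 := h2.zpow_right k
    rw [hk'] at h3
    exact h3
  have hQc : IsCyclic (Q : Subgroup G) := isCyclic_of_injective (Subgroup.inclusion hQC) (Subgroup.inclusion_injective hQC)
  exact isCyclic_of_surjective (Sylow.equiv Q P) (Sylow.equiv Q P).surjective

end Cyclic

section Basic

variable {F : Type*} [Field F] [Fintype F] {q n : ℕ}

/-- the action as linear maps -/
def toEnd (n : ℕ) (F : Type*) [Field F] (q : ℕ) : SU n F q →* Module.End F (Fin n → F) where
  toFun g := Matrix.mulVecLin (mat g)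
  map_one' := by rw [mat_one, Matrix.mulVecLin_one]; rfl
  map_mul' g h := by rw [mat_mul, Matrix.mulVecLin_mul]; rfl

theorem toEnd_apply (g : SU n F q) (v : Fin n → F) : toEnd n F q g v = act g v := rfl

theorem toEnd_injective : Function.Injective (toEnd n F q) := by
  intro g h e
  apply ext_act
  intro v
  rw [← toEnd_apply, e, toEnd_apply]

theorem gm_pow (A : GU n F q) (k : ℕ) : gm (A ^ k) = gm A ^ k := by
  induction k with
  | zero => rw [pow_zero, pow_zero, gm_one]
  | succ k ih => rw [pow_succ, pow_succ, gm_mul, ih]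

/-- **Irreducible with `A ^ p = d ^ p`: inner, cyclic Sylow subgroups.** -/
theorem cyc_of_irr (hn : 2 ≤ n) {p : ℕ} [hp : Fact p.Prime] {A : GU n F q} {d : F}
    (hd : d * d ^ q = 1) (hA : gm A ^ p = d ^ p • (1 : Matrix (Fin n) (Fin n) F))
    (hs : ∀ W : Submodule F (Fin n → F), (∀ w ∈ W, gm A *ᵥ w ∈ W) → W = ⊥ ∨ W = ⊤) :
    Cyc p (toAut A 1 : MulAut (PSU n F q)) := by
  classical
  have hd0 : d ≠ 0 := by
    rintro rfl
    rw [zero_mul] at hd
    exact zero_ne_one hd
  have hdi : d⁻¹ * (d⁻¹) ^ q = 1 := by rw [inv_pow, ← mul_inv, hd, inv_one]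
  obtain ⟨B, hB⟩ : ∃ B : GU n F q, B = sc n ⟨d⁻¹, hdi⟩ * A := ⟨_, rfl⟩
  have hgB : gm B = d⁻¹ • gm A := by rw [hB, gm_sc_mul]
  have hBp : (gm B) ^ p = 1 := by
    rw [hgB, smul_pow, hA, smul_smul, ← mul_pow, inv_mul_cancel₀ hd0, one_pow, one_smul]
  have hirr : ∀ W : Submodule F (Fin n → F), (∀ w ∈ W, gm B *ᵥ w ∈ W) → W = ⊥ ∨ W = ⊤ := by
    intro W hW
    apply hs W
    intro w hw
    have h1 := W.smul_mem d (hW w hw)
    rwa [hgB, smul_mulVec, smul_smul, mul_inv_cancel₀ hd0, one_smul] at h1
  have : Nonempty (Fin n) := ⟨⟨0, by omega⟩⟩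
  set T : Module.End F (Fin n → F) := Matrix.mulVecLin (gm B) with hT
  have hTs : ∀ W : Submodule F (Fin n → F), (∀ w ∈ W, T w ∈ W) → W = ⊥ ∨ W = ⊤ := hirr
  have hdeg := H469.IrrCyc.finrank_eq T hTs
  have hmin := H469.IrrCyc.minpoly_irreducible T hTs
  rw [finrank_fin_fun] at hdeg
  have hTp : T ^ p = 1 := by
    have h1 : ∀ k : ℕ, T ^ k = Matrix.mulVecLin (gm B ^ k) := by
      intro k
      induction k with
      | zero => rw [pow_zero, pow_zero, Matrix.mulVecLin_one]; rfl
      | succ k ih => rw [pow_succ, pow_succ, Matrix.mulVecLin_mul, ih]; rfl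
    rw [h1, hBp, Matrix.mulVecLin_one]
    rfl
  have hdvd : minpoly F T ∣ (Polynomial.X ^ p - 1 : Polynomial F) := by
    apply minpoly.dvd
    rw [map_sub, map_pow, Polynomial.aeval_X, map_one, hTp, sub_self]
  -- `p` does not divide `q ^ 2 - 1`
  have hpq : ¬ p ∣ Nat.card Fˣ := by
    intro h
    obtain ⟨ζ, hζ⟩ := exists_prime_orderOf_dvd_card' (G := Fˣ) p h
    have hprim : IsPrimitiveRoot (ζ : F) p := by
      rw [← hζ]
      exact (IsPrimitiveRoot.orderOf ζ).map_of_injective (f := Units.coeHom F) Units.val_injective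
    rw [Polynomial.X_pow_sub_one_eq_prod hp.out.pos hprim] at hdvd
    obtain ⟨a, -, ha⟩ := (Prime.dvd_finsetProd_iff hmin.prime _).1 hdvd
    have h2 := Polynomial.natDegree_le_of_dvd ha (Polynomial.X_sub_C_ne_zero a)
    rw [Polynomial.natDegree_X_sub_C] at h2
    omega
  have hdet : (gm B).det = 1 := by
    have h1 : (gm B).det ^ p = 1 := by rw [← det_pow, hBp, det_one]
    have h0 : (gm B).det ≠ 0 := by
      intro h
      rw [h, zero_pow hp.out.ne_zero] at h1
      exact zero_ne_one h1
    have h2 : (Units.mk0 _ h0) ^ p = 1 := Units.ext (by rw [Units.val_pow_eq_pow_val, Units.val_mk0, h1]; rfl)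
    have h3 : (Units.mk0 _ h0) ^ Nat.card Fˣ = 1 := pow_card_eq_one'
    have h4 := pow_gcd_eq_one.2 ⟨h2, h3⟩
    rw [(Nat.Prime.coprime_iff_not_dvd hp.out).2 hpq, pow_one] at h4
    exact congrArg Units.val h4
  let g : SU n F q := mkSU (gm B) hdet (fun u v => herm_gm _ u v)
  have hgm : mat g = gm B := rfl
  have hAB : (toAut A 1 : MulAut (PSU n F q)) = toAut B 1 := by rw [hB, toAut_sc_mul]
  have hgp : g ^ p = 1 := by
    apply mat_injective
    have h1 : ∀ k : ℕ, mat (g ^ k) = gm B ^ k := by
      intro k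
      induction k with
      | zero => rw [pow_zero, pow_zero, mat_one]
      | succ k ih => rw [pow_succ, pow_succ, mat_mul, ih, hgm]
    rw [h1, hBp, mat_one]
  have hg1 : g ≠ 1 := by
    intro h
    have h1 : gm B = 1 := by rw [← hgm, h, mat_one]
    rcases hirr (Submodule.span F {Pi.single ⟨0, by omega⟩ 1}) (fun w hw => by rw [h1, one_mulVec]; exact hw) with h2 | h2
    · rw [Submodule.span_singleton_eq_bot] at h2
      have h3 := congrFun h2 ⟨0, by omega⟩
      rw [Pi.single_eq_same] at h3
      exact one_ne_zero h3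
    · have h3 := finrank_span_singleton (K := F) (v := (Pi.single ⟨0, by omega⟩ 1 : Fin n → F)) (by
        intro h2
        have h3 := congrFun h2 ⟨0, by omega⟩
        rw [Pi.single_eq_same] at h3
        exact one_ne_zero h3)
      rw [h2, finrank_top, finrank_fin_fun] at h3
      omega
  have hord : orderOf g = p := orderOf_eq_prime hgp hg1
  refine ⟨⟨pr n F q g, ?_⟩, ?_⟩
  · rw [hAB]
    exact Cfsg.Agent.Schreier.PSU.f₁_eq_conj B g rfl
  · intro P
    obtain ⟨Q, rfl⟩ := Sylow.mapSurjective_surjective (pr_surjective (n := n) (F := F) (q := q)) p P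
    have hQ : IsCyclic (Q : Subgroup (SU n F q)) := sylow_cyclic_of_irr (toEnd n F q) toEnd_injective hord hirr Q
    rw [Sylow.coe_mapSurjective]
    exact isCyclic_of_surjective ((pr n F q).subgroupMap (Q : Subgroup (SU n F q)))
      ((pr n F q).subgroupMap_surjective _)

end Basic

end Cfsg.Agent.H880.Cl
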