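import Cfsg.Prelude.Def_GeometricClasses

/-!
Coordinates for tensor decompositions: the linear isomorphism `Phi e P` from `n₁ × n₂` matrices to `F^ι`, the action of
`tensorProductSubgroup n₁ n₂ e P` as `X ↦ a X bᵀ`, and the form of an `IsTensorFormStructure` on rank one matrices.
-/

set_option autoImplicit false

namespace Cfsg.Agent.H880

open Matrix Cfsg.Geo
open scoped Kronecker

variable {ι : Type} [Fintype ι] [DecidableEq ι] {F : Type*} [Field F] {n₁ n₂ : ℕ}

/-- The isomorphism `X ↦ P (X ∘ e)` from `n₁ × n₂` matrices to `F^ι`. -/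
def Phi (e : ι ≃ Fin n₁ × Fin n₂) (P : GL ι F) : Matrix (Fin n₁) (Fin n₂) F ≃ₗ[F] (ι → F) where
  toFun X := (P : Matrix ι ι F) *ᵥ (fun i => X (e i).1 (e i).2)
  invFun u := fun a b => (((P⁻¹ : GL ι F) : Matrix ι ι F) *ᵥ u) (e.symm (a, b))
  map_add' X Y := by
    rw [← Matrix.mulVec_add]; rfl
  map_smul' c X := by
    rw [RingHom.id_apply, ← Matrix.mulVec_smul]; rfl
  left_inv X := by
    funext a b
    simp only [Matrix.mulVec_mulVec]
    rw [← Units.val_mul, inv_mul_cancel, Units.val_one, Matrix.one_mulVec]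
    simp
  right_inv u := by
    have h : (fun i => (((P⁻¹ : GL ι F) : Matrix ι ι F) *ᵥ u) (e.symm ((e i).1, (e i).2)))
        = ((P⁻¹ : GL ι F) : Matrix ι ι F) *ᵥ u := by
      funext i; simp
    simp only [h]
    rw [Matrix.mulVec_mulVec, ← Units.val_mul, mul_inv_cancel, Units.val_one, Matrix.one_mulVec]

theorem Phi_apply (e : ι ≃ Fin n₁ × Fin n₂) (P : GL ι F) (X : Matrix (Fin n₁) (Fin n₂) F) :
    Phi e P X = (P : Matrix ι ι F) *ᵥ (fun i => X (e i).1 (e i).2) := rfl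

theorem kron_mulVec (A : Matrix (Fin n₁) (Fin n₁) F) (B : Matrix (Fin n₂) (Fin n₂) F)
    (X : Matrix (Fin n₁) (Fin n₂) F) (p : Fin n₁ × Fin n₂) :
    ((A ⊗ₖ B) *ᵥ (fun p => X p.1 p.2)) p = (A * X * Bᵀ) p.1 p.2 := by
  simp only [Matrix.mulVec, dotProduct, Fintype.sum_prod_type, Matrix.kroneckerMap_apply, Matrix.mul_apply,
    Matrix.transpose_apply, Finset.sum_mul]
  rw [Finset.sum_comm]
  refine Finset.sum_congr rfl fun j _ => Finset.sum_congr rfl fun i _ => ?_
  ring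

/-- Membership in the tensor product subgroup: `g` acts as `X ↦ a X bᵀ`. -/
theorem mem_tensorProductSubgroup_iff (e : ι ≃ Fin n₁ × Fin n₂) (P : GL ι F) (g : GL ι F) :
    g ∈ tensorProductSubgroup n₁ n₂ e P ↔ ∃ (a : GL (Fin n₁) F) (b : GL (Fin n₂) F),
      ∀ X : Matrix (Fin n₁) (Fin n₂) F, (g : Matrix ι ι F) *ᵥ (Phi e P X) =
        Phi e P ((a : Matrix (Fin n₁) (Fin n₁) F) * X * (b : Matrix (Fin n₂) (Fin n₂) F)ᵀ) := by
  have key : ∀ (k : GL (Fin n₁ × Fin n₂) F) (Y : Matrix (Fin n₁) (Fin n₂) F),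
      ((P * glReindex e.symm k * P⁻¹ : GL ι F) : Matrix ι ι F) *ᵥ (Phi e P Y) =
        Phi e P (Matrix.of fun a b => ((k : Matrix (Fin n₁ × Fin n₂) (Fin n₁ × Fin n₂) F) *ᵥ
          (fun p : Fin n₁ × Fin n₂ => Y p.1 p.2)) (a, b)) := by
    intro k Y
    show ((P * glReindex e.symm k * P⁻¹ : GL ι F) : Matrix ι ι F) *ᵥ
        ((P : Matrix ι ι F) *ᵥ (fun i => Y (e i).1 (e i).2)) =
      (P : Matrix ι ι F) *ᵥ (fun i => ((k : Matrix (Fin n₁ × Fin n₂) (Fin n₁ × Fin n₂) F) *ᵥ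
          (fun p : Fin n₁ × Fin n₂ => Y p.1 p.2)) ((e i).1, (e i).2))
    rw [Units.val_mul, Units.val_mul, Matrix.mulVec_mulVec, Matrix.mul_assoc,
      ← Units.val_mul P⁻¹ P, inv_mul_cancel, Units.val_one, Matrix.mul_one, ← Matrix.mulVec_mulVec]
    congr 1
    funext i
    have h : ((glReindex e.symm k : GL ι F) : Matrix ι ι F)
        = Matrix.reindex e.symm e.symm (k : Matrix (Fin n₁ × Fin n₂) (Fin n₁ × Fin n₂) F) := rfl
    rw [h]
    simp only [Matrix.reindex_apply, Equiv.symm_symm, Matrix.mulVec, dotProduct, Matrix.submatrix_apply]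
    rw [← Equiv.sum_comp e]
  constructor
  · rintro ⟨_, ⟨k, ⟨a, b, hk⟩, rfl⟩, rfl⟩
    refine ⟨a, b, fun X => ?_⟩
    have h1 := key k X
    have h2 : (MulAut.conj P).toMonoidHom ((glReindex e.symm).toMonoidHom k)
        = P * glReindex e.symm k * P⁻¹ := rfl
    rw [h2, h1]
    congr 1
    funext i j
    rw [hk]
    exact kron_mulVec _ _ X (i, j)
  · rintro ⟨a, b, h⟩
    let ab : GL (Fin n₁ × Fin n₂) F :=
      ⟨(a : Matrix _ _ F) ⊗ₖ (b : Matrix _ _ F),
        ((a⁻¹ : GL (Fin n₁) F) : Matrix _ _ F) ⊗ₖ ((b⁻¹ : GL (Fin n₂) F) : Matrix _ _ F),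
        by rw [← Matrix.mul_kronecker_mul, ← Units.val_mul, ← Units.val_mul, mul_inv_cancel, mul_inv_cancel,
          Units.val_one, Units.val_one, Matrix.one_kronecker_one],
        by rw [← Matrix.mul_kronecker_mul, ← Units.val_mul, ← Units.val_mul, inv_mul_cancel, inv_mul_cancel,
          Units.val_one, Units.val_one, Matrix.one_kronecker_one]⟩
    refine ⟨glReindex e.symm ab, ⟨ab, ⟨a, b, rfl⟩, rfl⟩, ?_⟩
    show P * glReindex e.symm ab * P⁻¹ = g
    apply Units.ext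
    apply Matrix.mulVec_injective
    funext u
    obtain ⟨X, rfl⟩ := (Phi e P).surjective u
    rw [h X, key ab X]
    congr 1
    funext i j
    exact kron_mulVec _ _ X (i, j)

/-- A bilinear (`σ = id`) form is given by its Gram matrix. -/
theorem bilinear_eq_gram {n : ℕ} {f : (Fin n → F) → (Fin n → F) → F} (hf : IsBilinearForm f)
    (x y : Fin n → F) : f x y = ∑ a, ∑ b, x a * gramMatrix f a b * y b := by
  have hx : ∀ (z : Fin n → F) (s : Finset (Fin n)) (g : Fin n → (Fin n → F)),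
      f (∑ a ∈ s, g a) z = ∑ a ∈ s, f (g a) z := by
    intro z s g
    induction s using Finset.induction_on with
    | empty =>
      have := hf.smul_left 0 0 z
      simpa using this
    | insert a s ha ih => rw [Finset.sum_insert ha, Finset.sum_insert ha, hf.add_left, ih]
  have hy : ∀ (z : Fin n → F) (s : Finset (Fin n)) (g : Fin n → (Fin n → F)),
      f z (∑ a ∈ s, g a) = ∑ a ∈ s, f z (g a) := by
    intro z s g
    induction s using Finset.induction_on with
    | empty =>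
      have := hf.smul_right 0 z 0
      simpa using this
    | insert a s ha ih => rw [Finset.sum_insert ha, Finset.sum_insert ha, hf.add_right, ih]
  have ex : ∀ z : Fin n → F, z = ∑ a, z a • (Pi.single a (1 : F) : Fin n → F) := by
    intro z
    exact pi_eq_sum_univ' z
  conv_lhs => rw [ex x, ex y]
  rw [hx]
  refine Finset.sum_congr rfl fun a _ => ?_
  rw [hy]
  refine Finset.sum_congr rfl fun b _ => ?_
  rw [hf.smul_left, hf.smul_right, gramMatrix]
  ring

/-- The form of a bilinear tensor structure on rank one matrices. -/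
theorem form_rankone {f : (ι → F) → (ι → F) → F} {f₁ : (Fin n₁ → F) → (Fin n₁ → F) → F}
    {f₂ : (Fin n₂ → F) → (Fin n₂ → F) → F} (hf₁ : IsBilinearForm f₁) (hf₂ : IsBilinearForm f₂)
    (e : ι ≃ Fin n₁ × Fin n₂) (P : GL ι F) {c : F}
    (hc : ∀ x y : Fin n₁ × Fin n₂ → F, f ((P : Matrix ι ι F) *ᵥ (x ∘ e)) ((P : Matrix ι ι F) *ᵥ (y ∘ e)) =
      c * formOfGram id (gramMatrix f₁ ⊗ₖ gramMatrix f₂) x y)
    (x y : Fin n₁ → F) (v w : Fin n₂ → F) :
    f (Phi e P (vecMulVec x v)) (Phi e P (vecMulVec y w)) = c * (f₁ x y * f₂ v w) := by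
  have h := hc (fun p => x p.1 * v p.2) (fun p => y p.1 * w p.2)
  have h1 : (P : Matrix ι ι F) *ᵥ ((fun p : Fin n₁ × Fin n₂ => x p.1 * v p.2) ∘ e) = Phi e P (vecMulVec x v) := rfl
  have h2 : (P : Matrix ι ι F) *ᵥ ((fun p : Fin n₁ × Fin n₂ => y p.1 * w p.2) ∘ e) = Phi e P (vecMulVec y w) := rfl
  rw [h1, h2] at h
  rw [h]
  congr 1
  rw [bilinear_eq_gram hf₁, bilinear_eq_gram hf₂, formOfGram]
  simp only [Fintype.sum_prod_type, Matrix.kroneckerMap_apply, id]
  rw [Finset.sum_mul]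
  refine Finset.sum_congr rfl fun a _ => ?_
  rw [Finset.mul_sum]
  refine Finset.sum_congr rfl fun b _ => ?_
  rw [Finset.sum_mul]
  refine Finset.sum_congr rfl fun a' _ => ?_
  rw [Finset.mul_sum]
  refine Finset.sum_congr rfl fun b' _ => ?_
  ring

end Cfsg.Agent.H880
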