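import Cfsg.Agent.H880.UMain
import Cfsg.Agent.H880.Tensor
import Cfsg.Agent.H930.UnitaryTensor
import Cfsg.Agent.H956.UnitSim
import Cfsg.Agent.H918.UProper

/-!
**The stabiliser of a tensor decomposition into unitary spaces of dimensions `2 ≤ n₁ < n₂`, `n₂ ≥ 4`,
`(n₁, q) ≠ (2, 2)`, is maximal in `SU_n(q)`** (`tensor_maximal`).
-/

set_option autoImplicit false
set_option linter.unusedSectionVars false

namespace Cfsg.Agent.H880

open Module Matrix Cfsg.Geo Cfsg.Agent.LieClassical.HermBasic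
open scoped Kronecker

section GLMap

variable {F : Type*} [Field F] {ι : Type} [Fintype ι] [DecidableEq ι] {V : Type*} [AddCommGroup V] [Module F V]

/-- A linear isomorphism `V ≃ F^ι` transports automorphisms of `V` to `GL`. -/
def ofMat (Ψ : V ≃ₗ[F] (ι → F)) : (V ≃ₗ[F] V) →* Matrix.GeneralLinearGroup ι F where
  toFun k := ⟨LinearMap.toMatrix' ((Ψ.symm.trans (k.trans Ψ) : (ι → F) ≃ₗ[F] (ι → F)) : (ι → F) →ₗ[F] (ι → F)),
    LinearMap.toMatrix' ((Ψ.symm.trans (k.symm.trans Ψ) : (ι → F) ≃ₗ[F] (ι → F)) : (ι → F) →ₗ[F] (ι → F)),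
    by
      rw [← LinearMap.toMatrix'_comp]
      have : ((Ψ.symm.trans (k.trans Ψ) : (ι → F) ≃ₗ[F] (ι → F)) : (ι → F) →ₗ[F] (ι → F)) ∘ₗ
          ((Ψ.symm.trans (k.symm.trans Ψ) : (ι → F) ≃ₗ[F] (ι → F)) : (ι → F) →ₗ[F] (ι → F)) = LinearMap.id := by
        apply LinearMap.ext; intro x; simp
      rw [this, LinearMap.toMatrix'_id],
    by
      rw [← LinearMap.toMatrix'_comp]
      have : ((Ψ.symm.trans (k.symm.trans Ψ) : (ι → F) ≃ₗ[F] (ι → F)) : (ι → F) →ₗ[F] (ι → F)) ∘ₗ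
          ((Ψ.symm.trans (k.trans Ψ) : (ι → F) ≃ₗ[F] (ι → F)) : (ι → F) →ₗ[F] (ι → F)) = LinearMap.id := by
        apply LinearMap.ext; intro x; simp
      rw [this, LinearMap.toMatrix'_id]⟩
  map_one' := by
    apply Units.ext
    show LinearMap.toMatrix' _ = 1
    have : ((Ψ.symm.trans ((1 : V ≃ₗ[F] V).trans Ψ) : (ι → F) ≃ₗ[F] (ι → F)) : (ι → F) →ₗ[F] (ι → F))
        = LinearMap.id := by
      apply LinearMap.ext; intro x
      show Ψ (Ψ.symm x) = x
      simp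
    rw [this, LinearMap.toMatrix'_id]
  map_mul' g h := by
    apply Units.ext
    show LinearMap.toMatrix' _ = LinearMap.toMatrix' _ * LinearMap.toMatrix' _
    rw [← LinearMap.toMatrix'_comp]
    congr 1
    apply LinearMap.ext; intro x
    show Ψ (g (h (Ψ.symm x))) = Ψ (g (Ψ.symm (Ψ (h (Ψ.symm x)))))
    simp

theorem ofMat_mulVec (Ψ : V ≃ₗ[F] (ι → F)) (k : V ≃ₗ[F] V) (X : V) :
    ((ofMat Ψ k : Matrix.GeneralLinearGroup ι F) : Matrix ι ι F) *ᵥ (Ψ X) = Ψ (k X) := by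
  show (LinearMap.toMatrix' _) *ᵥ _ = _
  rw [LinearMap.toMatrix'_mulVec]
  show Ψ (k (Ψ.symm (Ψ X))) = _
  rw [LinearEquiv.symm_apply_apply]

theorem ofMat_det (Ψ : V ≃ₗ[F] (ι → F)) (k : V ≃ₗ[F] V) :
    ((ofMat Ψ k : Matrix.GeneralLinearGroup ι F) : Matrix ι ι F).det = LinearMap.det (k : V →ₗ[F] V) := by
  show (LinearMap.toMatrix' _).det = _
  rw [LinearMap.det_toMatrix', ← LinearMap.det_conj (k : V →ₗ[F] V) Ψ]
  rfl

theorem ofMat_surjective (Ψ : V ≃ₗ[F] (ι → F)) (g : Matrix.GeneralLinearGroup ι F) : ∃ k, ofMat Ψ k = g := by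
  refine ⟨Ψ.trans ((H872.glEquiv g).trans Ψ.symm), ?_⟩
  apply Units.ext
  apply Matrix.mulVec_injective
  funext x
  obtain ⟨X, rfl⟩ := Ψ.surjective x
  rw [ofMat_mulVec]
  show Ψ (Ψ.symm (H872.glEquiv g (Ψ X))) = _
  rw [LinearEquiv.apply_symm_apply]
  rfl

end GLMap

section Final

variable {F : Type*} [Field F] [Fintype F] {n q : ℕ}

/-- The hermitian form with arguments exchanged. -/
theorem herm_eq_stB (hF : Fintype.card F = q ^ 2) {m : ℕ} (u v : Fin m → F) :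
    Cfsg.hermForm m F q u v = stB ((conj hF : F ≃+* F) : F →+* F) m v u := by
  rw [stB_apply, herm_def]
  refine Finset.sum_congr rfl fun i _ => ?_
  rw [mul_comm]
  rfl

/-- Standard coordinates for a tensor decomposition. -/
theorem exists_coords (hF : Fintype.card F = q ^ 2) {n₁ n₂ : ℕ} (h1 : 0 < n₁) (h2 : 0 < n₂)
    (e : Fin n ≃ Fin n₁ × Fin n₂) (P : Matrix.GeneralLinearGroup (Fin n) F)
    (f₁ : (Fin n₁ → F) → (Fin n₁ → F) → F) (f₂ : (Fin n₂ → F) → (Fin n₂ → F) → F)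
    (hf₁ : IsUnitaryFormPow q f₁) (hf₂ : IsUnitaryFormPow q f₂)
    (hT : IsTensorFormStructure (fun x : F => x ^ q) (Cfsg.hermForm n F q) f₁ f₂ e P) :
    ∃ Ψ : Mat n₁ n₂ F ≃ₗ[F] (Fin n → F),
      (∀ X Y, Cfsg.hermForm n F q (Ψ X) (Ψ Y) = BV ((conj hF : F ≃+* F) : F →+* F) n₁ n₂ Y X) ∧
      (∀ k : Mat n₁ n₂ F ≃ₗ[F] Mat n₁ n₂ F, IsTens k → ofMat Ψ k ∈ tensorProductSubgroup n₁ n₂ e P) := by
  set σ : F →+* F := ((conj hF : F ≃+* F) : F →+* F) with hσ_def
  have hσx : ∀ x, σ x = x ^ q := fun x => rfl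
  have hσ : σ ≠ RingHom.id F := by
    intro h
    obtain ⟨x, hx⟩ := exists_not_fixed hF
    exact hx (by rw [← hσx, h]; rfl)
  have hσ2 : ∀ x, σ (σ x) = x := fun x => by rw [hσx, hσx, pow_q_pow_q hF]
  obtain ⟨A₁, hA₁⟩ := H956.UnitSim.exists_frame hF hf₁
  obtain ⟨A₂, hA₂⟩ := H956.UnitSim.exists_frame hF hf₂
  obtain ⟨c, hc0, hc⟩ := H930.form_tv hF hf₁ hf₂ hT
  have hA : ∀ u u' w w', Cfsg.hermForm n F q (Phi e P (vecMulVec (H872.glEquiv A₁ u) (H872.glEquiv A₂ w)))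
      (Phi e P (vecMulVec (H872.glEquiv A₁ u') (H872.glEquiv A₂ w'))) =
      c * BV σ n₁ n₂ (vecMulVec u' w') (vecMulVec u w) := by
    intro u u' w w'
    have h := hc (H872.glEquiv A₁ u) (H872.glEquiv A₁ u') (H872.glEquiv A₂ w) (H872.glEquiv A₂ w')
    have h3 : f₁ (H872.glEquiv A₁ u) (H872.glEquiv A₁ u') = stB σ n₁ u' u := by
      rw [← herm_eq_stB hF, ← hA₁]; rfl
    have h4 : f₂ (H872.glEquiv A₂ w) (H872.glEquiv A₂ w') = stB σ n₂ w' w := by
      rw [← herm_eq_stB hF, ← hA₂]; rfl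
    rw [h3, h4] at h
    rw [BV_pure]
    exact h
  have hcσ : σ c = c := by
    have h := hA (Pi.single ⟨0, h1⟩ 1) (Pi.single ⟨0, h1⟩ 1) (Pi.single ⟨0, h2⟩ 1) (Pi.single ⟨0, h2⟩ 1)
    rw [BV_pure, stB_single_left, stB_single_left, Pi.single_eq_same, Pi.single_eq_same, mul_one, mul_one] at h
    rw [hσx, ← h, herm_self_pow hF]
  obtain ⟨d, hd0, hd⟩ := Cfsg.Agent.ClassicalGeometry.HermWitt.norm_surj σ hσ hσ2 c hcσ hc0
  have hσd : σ d ≠ 0 := by simpa using hd0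
  let Ψ : Mat n₁ n₂ F ≃ₗ[F] (Fin n → F) :=
    (((rowE n₁ (H872.glEquiv A₂)).trans (colE n₂ (H872.glEquiv A₁))).trans
      (LinearEquiv.smulOfNeZero F _ d⁻¹ (inv_ne_zero hd0))).trans (Phi e P)
  have hΨ : ∀ u w, Ψ (vecMulVec u w) = d⁻¹ • Phi e P (vecMulVec (H872.glEquiv A₁ u) (H872.glEquiv A₂ w)) := by
    intro u w
    show Phi e P (d⁻¹ • colE n₂ (H872.glEquiv A₁) (rowE n₁ (H872.glEquiv A₂) (vecMulVec u w))) = _
    rw [rowE_pure, colE_pure, map_smul]
  refine ⟨Ψ, ?_, ?_⟩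
  · -- the form
    have h3 : ∀ u w Y, Cfsg.hermForm n F q (Ψ (vecMulVec u w)) (Ψ Y) = BV σ n₁ n₂ Y (vecMulVec u w) := by
      intro u w Y
      rw [herm_eq_stB hF]
      conv_lhs => rw [sum_rows Y]
      conv_rhs => rw [sum_rows Y]
      rw [map_sum, map_sum, map_sum, LinearMap.sum_apply, LinearMap.sum_apply]
      refine Finset.sum_congr rfl fun i _ => ?_
      rw [← herm_eq_stB hF, hΨ, hΨ, herm_smul_left, herm_smul_right, hA, ← hσx, map_inv₀, ← hd]
      field_simp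
    intro X Y
    rw [herm_eq_stB hF]
    conv_lhs => rw [sum_rows X]
    conv_rhs => rw [sum_rows X]
    rw [map_sum, map_sum, map_sum]
    refine Finset.sum_congr rfl fun i _ => ?_
    rw [← herm_eq_stB hF, h3]
  · rintro k ⟨y, z, hyz⟩
    rw [mem_tensorProductSubgroup_iff]
    refine ⟨A₁ * ofMat (LinearEquiv.refl F _) y * A₁⁻¹, A₂ * ofMat (LinearEquiv.refl F _) z * A₂⁻¹, ?_⟩
    have hy : ∀ u, ((A₁ * ofMat (LinearEquiv.refl F _) y * A₁⁻¹ : GL (Fin n₁) F) : Matrix (Fin n₁) (Fin n₁) F) *ᵥ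
        (H872.glEquiv A₁ u) = H872.glEquiv A₁ (y u) := by
      intro u
      show _ *ᵥ ((A₁ : Matrix (Fin n₁) (Fin n₁) F) *ᵥ u) = (A₁ : Matrix (Fin n₁) (Fin n₁) F) *ᵥ (y u)
      rw [Matrix.mulVec_mulVec, ← Units.val_mul, inv_mul_cancel_right, Units.val_mul, ← Matrix.mulVec_mulVec]
      congr 1
      exact ofMat_mulVec (LinearEquiv.refl F _) y u
    have hz : ∀ u, ((A₂ * ofMat (LinearEquiv.refl F _) z * A₂⁻¹ : GL (Fin n₂) F) : Matrix (Fin n₂) (Fin n₂) F) *ᵥ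
        (H872.glEquiv A₂ u) = H872.glEquiv A₂ (z u) := by
      intro u
      show _ *ᵥ ((A₂ : Matrix (Fin n₂) (Fin n₂) F) *ᵥ u) = (A₂ : Matrix (Fin n₂) (Fin n₂) F) *ᵥ (z u)
      rw [Matrix.mulVec_mulVec, ← Units.val_mul, inv_mul_cancel_right, Units.val_mul, ← Matrix.mulVec_mulVec]
      congr 1
      exact ofMat_mulVec (LinearEquiv.refl F _) z u
    set a := (A₁ * ofMat (LinearEquiv.refl F _) y * A₁⁻¹ : GL (Fin n₁) F)
    set b := (A₂ * ofMat (LinearEquiv.refl F _) z * A₂⁻¹ : GL (Fin n₂) F)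
    let T : Mat n₁ n₂ F →ₗ[F] Mat n₁ n₂ F :=
      { toFun := fun X => (a : Matrix (Fin n₁) (Fin n₁) F) * X * (b : Matrix (Fin n₂) (Fin n₂) F)ᵀ
        map_add' := fun X Y => by rw [Matrix.mul_add, Matrix.add_mul]
        map_smul' := fun c X => by rw [Matrix.mul_smul, Matrix.smul_mul]; rfl }
    have hTp : ∀ u w, T (vecMulVec u w) = vecMulVec ((a : Matrix (Fin n₁) (Fin n₁) F) *ᵥ u)
        ((b : Matrix (Fin n₂) (Fin n₂) F) *ᵥ w) := by
      intro u w
      show (a : Matrix (Fin n₁) (Fin n₁) F) * vecMulVec u w * (b : Matrix (Fin n₂) (Fin n₂) F)ᵀ = _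
      rw [Matrix.mul_vecMulVec, Matrix.vecMulVec_mul, Matrix.vecMul_transpose]
    have hEq : (Matrix.toLin' ((ofMat Ψ k : GL (Fin n) F) : Matrix (Fin n) (Fin n) F)) ∘ₗ
        (Phi e P : Mat n₁ n₂ F →ₗ[F] (Fin n → F)) = (Phi e P : Mat n₁ n₂ F →ₗ[F] (Fin n → F)) ∘ₗ T := by
      apply ext_pure
      intro u w
      obtain ⟨u, rfl⟩ := (H872.glEquiv A₁).surjective u
      obtain ⟨w, rfl⟩ := (H872.glEquiv A₂).surjective w
      show Matrix.toLin' _ (Phi e P _) = Phi e P (T _)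
      rw [Matrix.toLin'_apply, hTp, hy, hz]
      have h3 := ofMat_mulVec Ψ k (vecMulVec u w)
      rw [hΨ, hyz, hΨ, Matrix.mulVec_smul] at h3
      exact smul_right_injective _ (inv_ne_zero hd0) h3
    intro X
    have h4 := LinearMap.congr_fun hEq X
    rw [LinearMap.comp_apply, Matrix.toLin'_apply] at h4
    exact h4

/-- **Maximality of the stabilisers of tensor decompositions in `SU_n(q)`.** -/
theorem tensor_maximal (hF : Fintype.card F = q ^ 2) {n₁ n₂ : ℕ} (h1 : 2 ≤ n₁) (h12 : n₁ < n₂) (h4 : 4 ≤ n₂)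
    (hex : ¬ (n₁ = 2 ∧ q = 2)) (e : Fin n ≃ Fin n₁ × Fin n₂) (P : Matrix.GeneralLinearGroup (Fin n) F)
    (f₁ : (Fin n₁ → F) → (Fin n₁ → F) → F) (f₂ : (Fin n₂ → F) → (Fin n₂ → F) → F)
    (hf₁ : IsUnitaryFormPow q f₁) (hf₂ : IsUnitaryFormPow q f₂)
    (hT : IsTensorFormStructure (fun x : F => x ^ q) (Cfsg.hermForm n F q) f₁ f₂ e P) :
    IsMaximalIn (Cfsg.GU n F q ⊓ Cfsg.Geo.specialLinear (Fin n) F)
      (tensorProductSubgroup n₁ n₂ e P ⊓ (Cfsg.GU n F q ⊓ Cfsg.Geo.specialLinear (Fin n) F)) := by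
  set σ : F →+* F := ((conj hF : F ≃+* F) : F →+* F) with hσ_def
  have hσx : ∀ x, σ x = x ^ q := fun x => rfl
  have hσ : σ ≠ RingHom.id F := by
    intro h
    obtain ⟨x, hx⟩ := exists_not_fixed hF
    exact hx (by rw [← hσx, h]; rfl)
  have hσ2 : ∀ x, σ (σ x) = x := fun x => by rw [hσx, hσx, pow_q_pow_q hF]
  have hn : 8 ≤ n := by
    have h := Fintype.card_congr e
    rw [Fintype.card_prod, Fintype.card_fin, Fintype.card_fin, Fintype.card_fin] at h
    rw [h]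
    calc 8 = 2 * 4 := by norm_num
      _ ≤ n₁ * n₂ := Nat.mul_le_mul h1 h4
  obtain ⟨Ψ, hΨ, hΨT⟩ := exists_coords hF (by omega) (by omega) e P f₁ f₂ hf₁ hf₂ hT
  have hq : 3 ≤ n₁ ∨ ∃ ρ : F, σ ρ = ρ ∧ ρ ≠ 0 ∧ ρ ≠ 1 := by
    by_cases h3 : 3 ≤ n₁
    · exact Or.inl h3
    · right
      have hq3 : 3 ≤ q := by
        have := two_le hF
        by_contra hlt
        exact hex ⟨by omega, by omega⟩
      by_contra hcon
      push Not at hcon
      have hcard := card_fixed hF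
      have hle : Nat.card {x : F // x ^ q = x} ≤ 2 := by
        classical
        have hsub : ∀ x : {x : F // x ^ q = x}, (x : F) = 0 ∨ (x : F) = 1 := by
          intro x
          by_cases h0 : (x : F) = 0
          · exact Or.inl h0
          · exact Or.inr (hcon x x.2 h0)
        let φ : {x : F // x ^ q = x} → Bool := fun x => decide ((x : F) = 0)
        have hφ : Function.Injective φ := by
          intro x y hxy
          have h5 : ((x : F) = 0) ↔ ((y : F) = 0) := by simpa [φ] using hxy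
          apply Subtype.ext
          rcases hsub x with hx | hx
          · rw [hx, h5.mp hx]
          · rcases hsub y with hy | hy
            · rw [h5.mpr hy] at hx
              exact absurd hx zero_ne_one
            · rw [hx, hy]
        have := Nat.card_le_card_of_injective φ hφ
        simpa using this
      omega
  refine ⟨lt_of_le_of_ne inf_le_right ?_, ?_⟩
  · intro h
    have h5 : H918.SUg n F q ≤ tensorProductSubgroup n₁ n₂ e P := by
      have h6 : H918.SUg n F q = tensorProductSubgroup n₁ n₂ e P ⊓ (Cfsg.GU n F q ⊓ Cfsg.Geo.specialLinear (Fin n) F) := h.symm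
      rw [h6]
      exact inf_le_left
    exact H918.SUg_not_le_tensorProductSubgroup hF (by omega) h1 (by omega) e P h5
  · intro M hHM hM
    let M' : Subgroup (Mat n₁ n₂ F ≃ₗ[F] Mat n₁ n₂ F) := M.comap (ofMat Ψ)
    have hM'mem : ∀ k, k ∈ M' ↔ ofMat Ψ k ∈ M := fun k => Iff.rfl
    have hOver : Over σ M' :=
      { iso := fun k hk X Y => by
          have h5 := (H918.mem_SUg.mp (hM ((hM'mem k).mp hk))).1 (Ψ Y) (Ψ X)
          rw [ofMat_mulVec, ofMat_mulVec, hΨ, hΨ] at h5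
          exact h5
        det := fun k hk => by
          have h5 := (H918.mem_SUg.mp (hM ((hM'mem k).mp hk))).2
          rw [ofMat_det] at h5
          exact h5
        ge := fun k h5 h6 h7 => by
          rw [hM'mem]
          apply hHM
          refine ⟨hΨT k h7, H918.mem_SUg.mpr ⟨fun u v => ?_, by rw [ofMat_det, h6]⟩⟩
          obtain ⟨X, rfl⟩ := Ψ.surjective u
          obtain ⟨Y, rfl⟩ := Ψ.surjective v
          rw [ofMat_mulVec, ofMat_mulVec, hΨ, hΨ, h5] }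
    rcases main_tens hσ hσ2 h1 h12 h4 hq hOver with hl | hr
    · left
      refine le_antisymm (fun g hg => ⟨?_, hM hg⟩) hHM
      obtain ⟨k, rfl⟩ := ofMat_surjective Ψ g
      exact hΨT k (hl k hg)
    · right
      refine le_antisymm hM ?_
      apply H918.SUg_le_of_tv hF (by omega)
      intro v c hv hc
      obtain ⟨X, rfl⟩ := Ψ.surjective v
      obtain ⟨k, hk, hkx⟩ := (hr X (by rw [← hΨ]; exact hv)).2 c (by rw [hσx]; exact hc)
      have h5 : ofMat Ψ k = H918.tv hF (Ψ X) c hv hc := by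
        apply Units.ext
        apply Matrix.mulVec_injective
        funext x
        obtain ⟨Y, rfl⟩ := Ψ.surjective x
        rw [ofMat_mulVec, hkx, H918.tv_mulVec, map_add, map_smul, hΨ]
      rw [← h5]
      exact hk

end Final

end Cfsg.Agent.H880
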