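import Cfsg.Agent.H459.Iface
import Cfsg.Agent.CpAutU.Fixed
import Cfsg.Agent.ClassicalGeometry.PSUAutMain
import Cfsg.Agent.ClassicalGeometry.HermOrtho
import Cfsg.Agent.GenPsu.Psu

/-!
# The row `PSU_n(q)`, `n ≥ 4`, of radical automorphisms of prime order `p ≥ 5` (for helper459): invariant `r`-subgroups

* `FixR.conj`, `fixR_field` : automorphisms of field type;
* `fixR_sing` : linear automorphisms with an invariant totally singular subspace;
* `fixR_of_quasi` : a radical linear automorphism with an invariant non-degenerate subspace `W` such that `SU(W)` is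
  quasisimple has an invariant singular vector.
-/

set_option autoImplicit false
set_option linter.unusedSectionVars false

namespace Cfsg.Agent.H880.Cl

open Matrix Subgroup Module Cfsg Cfsg.Agent.H459.Rad Cfsg.Agent.H459.Iface
open Cfsg.Agent.LieClassical.HermBasic Cfsg.Agent.LieClassical.HermSiegel
open Cfsg.Agent.ClassicalGeometry.PSUAutBasic Cfsg.Agent.ClassicalGeometry.HermOrtho
open Cfsg.Agent.ClassicalGeometry.PSUAutCount (toAut gm gm_mul gm_one gm_mul_inv gm_inv_mul semiConj guConj act_guConj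
  herm_gm gm_inv_mulVec gm_mulVec_inv herm_map gm_inj)
open Cfsg.Agent.CpAut.Psl (fixf)

/-- `FixR` is invariant under conjugation. -/
theorem FixR.conj {K : Type*} [Group K] {r : ℕ} {x : MulAut K} (a : MulAut K) (h : FixR r x) :
    FixR r (a * x * a⁻¹) := by
  obtain ⟨R, hR, hRr, hx⟩ := h
  refine ⟨R.map a.toMonoidHom, ?_, hRr.map _, ?_⟩
  · intro h0
    apply hR
    rw [Subgroup.map_eq_bot_iff] at h0
    rw [eq_bot_iff]
    intro b hb
    have h1 := h0 hb
    rw [MonoidHom.mem_ker] at h1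
    exact a.injective (h1.trans (map_one a).symm)
  · rintro _ ⟨b, hb, rfl⟩
    refine ⟨x b, hx b hb, ?_⟩
    show a (x b) = a (x (a⁻¹ (a b)))
    rw [MulAut.inv_apply_self]

section Basic

variable {F : Type*} [Field F] [Fintype F] {q n : ℕ}

theorem toAut_pr (A : GU n F q) (ρ : F ≃+* F) (g : SU n F q) :
    toAut A ρ (pr n F q g) = pr n F q (semiConj A ρ g) := rfl

theorem toAut_pr_one (A : GU n F q) (g : SU n F q) :
    toAut A 1 (pr n F q g) = pr n F q (guConj A g) := rfl

/-- `r`-elements of the kernel are trivial. -/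
theorem eq_one_of_pr (hF : Fintype.card F = q ^ 2) (hn : 3 ≤ n) {r : ℕ} [Fact r.Prime] [CharP F r] {a : SU n F q}
    {k : ℕ} (ha : a ^ r ^ k = 1) (h : pr n F q a = 1) : a = 1 :=
  eq_of_pr_eq hF hn ha (b := 1) (l := 0) (one_pow _) (by rw [h, map_one])

theorem transv_ne_one (hF : Fintype.card F = q ^ 2) {u : Fin n → F} (hu : hermForm n F q u u = 0) (hu0 : u ≠ 0)
    {μ : F} (hμ0 : μ ≠ 0) (hμ : μ + μ ^ q = 0) : transv hF u hu μ hμ ≠ 1 := by
  intro h
  obtain ⟨v, hv⟩ := exists_herm_ne_zero hF hu0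
  have hv' : hermForm n F q v u ≠ 0 := fun h1 => hv (herm_eq_zero_swap hF h1)
  have h1 := act_transv hF hu hμ v
  rw [h, act_one] at h1
  have h2 : (μ * hermForm n F q v u) • u = 0 := by
    have h3 : v + 0 = v + (μ * hermForm n F q v u) • u := by rw [add_zero]; exact h1
    exact (add_left_cancel h3).symm
  rcases smul_eq_zero.mp h2 with h3 | h3
  · exact (mul_ne_zero hμ0 hv') h3
  · exact hu0 h3

theorem single_herm (hF : Fintype.card F = q ^ 2) (i j : Fin n) :
    hermForm n F q (Pi.single i 1) (Pi.single j 1) = if i = j then 1 else 0 := by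
  rw [herm_single_left, one_mul]
  by_cases hij : i = j
  · subst hij; simp
  · rw [if_neg hij, Pi.single_eq_of_ne hij, zero_pow_q hF]

theorem iso_pair (hF : Fintype.card F = q ^ 2) {i j : Fin n} (hij : i ≠ j) {m : F} (hm : m * m ^ q = -1) :
    hermForm n F q (Pi.single i 1 + m • Pi.single j 1) (Pi.single i 1 + m • Pi.single j 1) = 0 := by
  rw [herm_add_left, herm_add_right hF, herm_add_right hF, herm_smul_left, herm_smul_right, herm_smul_left,
    herm_smul_right, single_herm hF, single_herm hF, single_herm hF, single_herm hF, if_pos rfl, if_pos rfl,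
    if_neg hij, if_neg (Ne.symm hij)]
  linear_combination hm

theorem pair_ne {i j : Fin n} (hij : i ≠ j) (m : F) : (Pi.single i 1 + m • Pi.single j 1 : Fin n → F) ≠ 0 := by
  intro h0
  have h1 := congrFun h0 i
  rw [Pi.add_apply, Pi.smul_apply, Pi.single_eq_same, Pi.single_eq_of_ne hij, smul_zero, add_zero, Pi.zero_apply] at h1
  exact one_ne_zero h1

/-- **Field type.** -/
theorem fixR_field (hF : Fintype.card F = q ^ 2) (hn : 3 ≤ n) {r : ℕ} [Fact r.Prime] [CharP F r] {p : ℕ}
    (hp : p.Prime) (hp2 : p ≠ 2) {A : GU n F q} {ρ : F ≃+* F} (h1 : ρ ≠ 1) (h : toAut A ρ ^ p = 1) :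
    FixR r (toAut A ρ) := by
  obtain ⟨hord, M, hM⟩ := CpAutU.Desc.exists_conj hF hn hp hp2 h h1
  rw [hM]
  apply FixR.conj
  have hodd := hp.odd_of_ne_two hp2
  obtain ⟨s, -, hs, hq⟩ := CpAutU.Fld.exists_s' hF hord hodd
  have hfin : Fintype ↥(fixf ρ) := Fintype.ofFinite _
  have hF₀ : Fintype.card ↥(fixf ρ) = s ^ 2 := by rw [← Nat.card_eq_fintype_card, hs]
  have hpow : ∀ a ∈ fixf ρ, a ^ q = a ^ s := fun a ha => CpAutU.Fld.pow_q hodd hs hq ha
  obtain ⟨m, hm⟩ := exists_norm_eq hF₀ (c := -1) (by rw [neg_pow_q hF₀, one_pow])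
  obtain ⟨μ, hμ0, hμ⟩ := exists_trace_zero_ne hF₀
  have hm' : (m : F) * (m : F) ^ q = -1 := by
    rw [hpow _ m.2]
    exact congrArg Subtype.val hm
  have hμ' : (μ : F) + (μ : F) ^ q = 0 := by
    rw [hpow _ μ.2]
    exact congrArg Subtype.val hμ
  have hμ0' : (μ : F) ≠ 0 := fun h => hμ0 (Subtype.ext h)
  have hij : (⟨0, by omega⟩ : Fin n) ≠ ⟨1, by omega⟩ := by simp
  have hv := iso_pair hF hij hm'
  set v : Fin n → F := Pi.single ⟨0, by omega⟩ 1 + (m : F) • Pi.single ⟨1, by omega⟩ 1 with hv_def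
  have hv0 : v ≠ 0 := pair_ne hij _
  have hρv : (fun i => ρ (v i)) = v := by
    have hρm : ρ (m : F) = m := m.2
    funext i
    rw [hv_def, Pi.add_apply, Pi.smul_apply, map_add, smul_eq_mul, map_mul, hρm]
    congr 1
    · by_cases h0 : i = ⟨0, by omega⟩
      · subst h0; rw [Pi.single_eq_same, map_one]
      · rw [Pi.single_eq_of_ne h0, map_zero]
    · congr 1
      by_cases h0 : i = ⟨1, by omega⟩
      · subst h0; rw [Pi.single_eq_same, map_one]
      · rw [Pi.single_eq_of_ne h0, map_zero]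
  set t := transv hF v hv (μ : F) hμ' with ht
  obtain ⟨k, hk⟩ := siegel_pow_prime_pow hF r (isSiegel_zero hv hμ')
  have hk' : t ^ r ^ k = 1 := hk
  refine FixR.of_mem (v := pr n F q t) ?_ ?_ ⟨k, by rw [← map_pow, hk', map_one]⟩
  · intro h2
    exact transv_ne_one hF hv hv0 hμ0' hμ' (eq_one_of_pr hF hn hk' h2)
  · rw [toAut_pr]
    congr 1
    apply ext_act
    intro x
    have hx : x = gm (1 : GU n F q) *ᵥ fun i => ρ ((fun j => ρ.symm (x j)) i) := by
      rw [gm_one, one_mulVec]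
      funext i
      simp
    rw [hx]
    generalize (fun j => ρ.symm (x j)) = y
    rw [ClassicalGeometry.PSUAutCount.act_semiConj, gm_one, one_mulVec, one_mulVec, ht, act_transv, act_transv]
    funext i
    rw [Pi.add_apply, Pi.smul_apply, Pi.add_apply, Pi.smul_apply, smul_eq_mul, smul_eq_mul, map_add, map_mul, map_mul]
    have h3 : hermForm n F q (fun i => ρ (y i)) v = ρ (hermForm n F q y v) := by
      conv_lhs => rw [← hρv]
      exact herm_map ρ y v
    have h4 : ρ (μ : F) = μ := μ.2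
    have h5 : ρ (v i) = v i := congrFun hρv i
    rw [h3, h4, h5]

/-! ### Invariant totally singular subspaces -/

/-- The elements of `SU` that act trivially on `U^⊥` and on `V / U`. -/
def radU (q : ℕ) (U : Submodule F (Fin n → F)) : Subgroup (SU n F q) where
  carrier := {g | (∀ v, act g v - v ∈ U) ∧ ∀ v, (∀ u ∈ U, hermForm n F q v u = 0) → act g v = v}
  one_mem' := ⟨fun v => by rw [act_one, sub_self]; exact U.zero_mem, fun v _ => act_one v⟩
  mul_mem' := by
    rintro g h ⟨hg, hg'⟩ ⟨hh, hh'⟩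
    refine ⟨fun v => ?_, fun v hv => ?_⟩
    · have h1 : act (g * h) v - v = (act g (act h v) - act h v) + (act h v - v) := by rw [act_mul]; abel
      rw [h1]
      exact U.add_mem (hg _) (hh _)
    · rw [act_mul, hh' v hv, hg' v hv]
  inv_mem' := by
    rintro g ⟨hg, hg'⟩
    refine ⟨fun v => ?_, fun v hv => ?_⟩
    · have h1 := hg (act g⁻¹ v)
      rw [act_act_inv] at h1
      have h2 : act g⁻¹ v - v = -(v - act g⁻¹ v) := by abel
      rw [h2]
      exact U.neg_mem h1
    · symm
      rw [← act_eq_iff]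
      exact hg' v hv

theorem act_pow_radU {U : Submodule F (Fin n → F)} (hU : ∀ u ∈ U, ∀ v ∈ U, hermForm n F q u v = 0) {g : SU n F q}
    (hg : g ∈ radU q U) (k : ℕ) (v : Fin n → F) : act (g ^ k) v = v + k • (act g v - v) := by
  induction k with
  | zero => rw [pow_zero, act_one, zero_smul, add_zero]
  | succ k ih =>
    have h1 : act g (act g v - v) = act g v - v := hg.2 _ (fun u hu => hU _ (hg.1 v) u hu)
    have h2 : act g (k • (act g v - v)) = k • (act g v - v) := by
      rw [← Nat.cast_smul_eq_nsmul F, act_smul, h1]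
    rw [pow_succ', act_mul, ih, act_add, h2, succ_nsmul]
    abel

theorem radU_pow {U : Submodule F (Fin n → F)} (hU : ∀ u ∈ U, ∀ v ∈ U, hermForm n F q u v = 0) {r : ℕ} [CharP F r]
    {g : SU n F q} (hg : g ∈ radU q U) : g ^ r = 1 := by
  apply ext_act
  intro v
  rw [act_pow_radU hU hg, act_one, ← Nat.cast_smul_eq_nsmul F, CharP.cast_eq_zero, zero_smul, add_zero]

/-- **Invariant totally singular subspaces.** -/
theorem fixR_sing (hF : Fintype.card F = q ^ 2) (hn : 3 ≤ n) {r : ℕ} [Fact r.Prime] [CharP F r] {A : GU n F q}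
    {U : Submodule F (Fin n → F)} (hU : ∀ u ∈ U, ∀ v ∈ U, hermForm n F q u v = 0) (hU0 : U ≠ ⊥)
    (hAU : ∀ u ∈ U, gm A *ᵥ u ∈ U) : FixR r (toAut A 1) := by
  have hpow : ∀ g ∈ radU q U, g ^ r ^ 1 = 1 := fun g hg => by rw [pow_one]; exact radU_pow hU hg
  obtain ⟨u, hu, hu0⟩ := Submodule.exists_mem_ne_zero_of_ne_bot hU0
  obtain ⟨μ, hμ0, hμ⟩ := exists_trace_zero_ne hF
  have htm : transv hF u (hU u hu u hu) μ hμ ∈ radU q U := by
    refine ⟨fun v => ?_, fun v hv => ?_⟩
    · rw [act_transv, add_sub_cancel_left]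
      exact U.smul_mem _ hu
    · rw [act_transv, hv u hu, mul_zero, zero_smul, add_zero]
  refine ⟨(radU q U).map (pr n F q), ?_, ?_, ?_⟩
  · intro h0
    rw [Subgroup.map_eq_bot_iff] at h0
    have h1 := h0 htm
    rw [MonoidHom.mem_ker] at h1
    exact transv_ne_one hF (hU u hu u hu) hu0 hμ0 hμ (eq_one_of_pr hF hn (hpow _ htm) h1)
  · apply IsPGroup.map
    rintro ⟨g, hg⟩
    exact ⟨1, Subtype.ext (hpow g hg)⟩
  · rintro _ ⟨g, hg, rfl⟩
    refine ⟨guConj A g, ⟨fun v => ?_, fun v hv => ?_⟩, rfl⟩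
    · have h1 : act (guConj A g) v - v = gm A *ᵥ (act g (gm A⁻¹ *ᵥ v) - gm A⁻¹ *ᵥ v) := by
        rw [act_guConj, mulVec_sub, gm_mulVec_inv]
      rw [h1]
      exact hAU _ (hg.1 _)
    · rw [act_guConj, hg.2, gm_mulVec_inv]
      intro w hw
      rw [← herm_gm A, gm_mulVec_inv]
      exact hv _ (hAU w hw)

/-- An invariant singular point. -/
theorem fixR_vec (hF : Fintype.card F = q ^ 2) (hn : 3 ≤ n) {r : ℕ} [Fact r.Prime] [CharP F r] {A : GU n F q}
    {u : Fin n → F} (hu0 : u ≠ 0) (hu : hermForm n F q u u = 0) {c : F} (hc : gm A *ᵥ u = c • u) :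
    FixR r (toAut A 1) := by
  refine fixR_sing hF hn (U := Submodule.span F {u}) ?_ ?_ ?_
  · intro v hv w hw
    obtain ⟨a, rfl⟩ := Submodule.mem_span_singleton.mp hv
    obtain ⟨b, rfl⟩ := Submodule.mem_span_singleton.mp hw
    rw [herm_smul_left, herm_smul_right, hu, mul_zero, mul_zero]
  · rw [Ne, Submodule.span_singleton_eq_bot]
    exact hu0
  · intro v hv
    obtain ⟨a, rfl⟩ := Submodule.mem_span_singleton.mp hv
    rw [mulVec_smul, hc, smul_smul]
    exact Submodule.smul_mem _ _ (Submodule.mem_span_singleton_self u)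

end Basic

end Cfsg.Agent.H880.Cl
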