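import Cfsg.Agent.H880.ClPsuD

/-!
# The image of the monomial group in `PSU_n(q)` (for helper459)

* `exists_conj_mem` : conjugation into a subgroup of index prime to `p`;
* `rad_perm` : the symmetric groups of degree `≥ 5` have trivial solvable radical;
* `Mon` : the monomial subgroup of `PSU_n(q)`, `theta` : its action on the frame;
* `not_irr_of_mono` : a radical automorphism induced by a monomial matrix is not irreducible.
-/

set_option autoImplicit false
set_option linter.unusedSectionVars false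

namespace Cfsg.Agent.H880.Cl

open Matrix Subgroup Module Cfsg Cfsg.Agent.H459.Rad Cfsg.Agent.H459.Iface
open Cfsg.Agent.LieClassical.HermBasic Cfsg.Agent.LieClassical.HermSiegel
open Cfsg.Agent.ClassicalGeometry.PSUAutBasic Cfsg.Agent.ClassicalGeometry.HermOrtho
open Cfsg.Agent.ClassicalGeometry.PSUAutCount (toAut gm gm_mul gm_one gm_mul_inv gm_inv_mul semiConj guConj act_guConj
  herm_gm gm_inv_mulVec gm_mulVec_inv herm_map gm_inj sc gm_sc_mul toAut_sc_mul)

/-! ### General groups -/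

/-- Conjugation into a subgroup of index prime to `p`. -/
theorem exists_conj_mem {G : Type*} [Group G] [Finite G] {p : ℕ} [hp : Fact p.Prime] (H : Subgroup G)
    (hH : ¬ p ∣ H.index) {x : G} (hx : ∀ g : G, g⁻¹ * x ^ p * g ∈ H) : ∃ g : G, g⁻¹ * x * g ∈ H := by
  classical
  have : Fintype (G ⧸ H) := Fintype.ofFinite _
  let σ : Equiv.Perm (G ⧸ H) := MulAction.toPerm x
  have hσ : σ ^ p ^ 1 = 1 := by
    have h1 : ∀ k, σ ^ k = MulAction.toPerm (x ^ k) := fun k => (map_pow (MulAction.toPermHom G (G ⧸ H)) x k).symm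
    rw [pow_one, h1]
    ext1 y
    obtain ⟨g, rfl⟩ := QuotientGroup.mk_surjective y
    show x ^ p • (QuotientGroup.mk g : G ⧸ H) = QuotientGroup.mk g
    rw [MulAction.Quotient.smul_mk, smul_eq_mul, eq_comm, QuotientGroup.eq, ← mul_assoc]
    exact hx g
  obtain ⟨y, hy⟩ := Equiv.Perm.exists_fixed_point_of_prime (p := p) (n := 1)
    (by rw [← Nat.card_eq_fintype_card]; exact hH) hσ
  obtain ⟨g, rfl⟩ := QuotientGroup.mk_surjective y
  have h2 : x • (QuotientGroup.mk g : G ⧸ H) = QuotientGroup.mk g := hy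
  rw [MulAction.Quotient.smul_mk, smul_eq_mul, eq_comm, QuotientGroup.eq, ← mul_assoc] at h2
  exact ⟨g, h2⟩

/-- Permutations commuting with all permutations. -/
theorem perm_eq_one {n : ℕ} (hn : 3 ≤ n) {π : Equiv.Perm (Fin n)} (h : ∀ σ : Equiv.Perm (Fin n), π * σ = σ * π) :
    π = 1 := by
  ext1 i
  by_contra hi
  have hi' : π i ≠ i := hi
  obtain ⟨k, hk1, hk2⟩ : ∃ k : Fin n, k ≠ i ∧ k ≠ π i := by
    by_contra hc
    push Not at hc
    have h1 : (Finset.univ : Finset (Fin n)) ⊆ {i, π i} := by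
      intro l _
      by_cases h1 : l = i
      · simp [h1]
      simp [hc l h1]
    have h2 := (Finset.card_le_card h1).trans Finset.card_le_two
    rw [Finset.card_univ, Fintype.card_fin] at h2
    omega
  have h1 := congrArg (fun τ : Equiv.Perm (Fin n) => τ i) (h (Equiv.swap (π i) k))
  simp only [Equiv.Perm.mul_apply, Equiv.swap_apply_left] at h1
  rw [Equiv.swap_apply_of_ne_of_ne hi'.symm hk1.symm] at h1
  exact hk2 h1.symm

/-- **The symmetric groups of degree at least five have trivial solvable radical.** -/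
theorem rad_perm {n : ℕ} (hn : 5 ≤ n) : solvableRadical (Equiv.Perm (Fin n)) = ⊥ := by
  classical
  obtain ⟨-, hsol, -⟩ := rad_spec (Equiv.Perm (Fin n))
  have hN := rad_normal (Equiv.Perm (Fin n))
  set N := solvableRadical (Equiv.Perm (Fin n)) with hNdef
  have hsimple : IsSimpleGroup (alternatingGroup (Fin n)) := alternatingGroup.isSimpleGroup (by simpa using hn)
  have hnorm : (N.subgroupOf (alternatingGroup (Fin n))).Normal := inferInstance
  rcases hnorm.eq_bot_or_eq_top with h | h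
  · rw [eq_bot_iff]
    intro x hx
    rw [mem_bot]
    apply perm_eq_one (by omega)
    intro y
    have h1 : x * y * x⁻¹ * y⁻¹ ∈ N := by
      have h2 := hN.conj_mem _ (N.inv_mem hx) y
      have h3 := N.mul_mem hx h2
      have h4 : x * (y * x⁻¹ * y⁻¹) = x * y * x⁻¹ * y⁻¹ := by group
      rwa [h4] at h3
    have h2 : x * y * x⁻¹ * y⁻¹ ∈ alternatingGroup (Fin n) := by
      rw [Equiv.Perm.mem_alternatingGroup, map_mul, map_mul, map_mul, map_inv, map_inv]
      rw [mul_comm (Equiv.Perm.sign x), mul_inv_cancel_right, mul_inv_cancel]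
    have h3 : (⟨x * y * x⁻¹ * y⁻¹, h2⟩ : alternatingGroup (Fin n)) ∈ N.subgroupOf (alternatingGroup (Fin n)) :=
      mem_subgroupOf.2 h1
    rw [h, mem_bot] at h3
    have h4 : x * y * x⁻¹ * y⁻¹ = 1 := congrArg Subtype.val h3
    rw [mul_inv_eq_one, mul_inv_eq_iff_eq_mul] at h4
    exact h4
  · exfalso
    have h1 : alternatingGroup (Fin n) ≤ N := Subgroup.subgroupOf_eq_top.1 h
    have h2 : Group.IsSolvable (Equiv.Perm (Fin n)) := by
      refine Group.isSolvable_of_ker_le_range (f := N.subtype) (g := Equiv.Perm.sign) ?_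
      rw [range_subtype]
      exact h1
    exact Equiv.Perm.not_isSolvable (Fin n) (by
      rw [Cardinal.mk_fin]
      exact_mod_cast hn) h2

section Mono

variable {F : Type*} [Field F] {q n : ℕ}

/-- `g` maps the `i`-th coordinate line to the `π i`-th -/
def SMono (g : SU n F q) (π : Equiv.Perm (Fin n)) : Prop :=
  ∀ i, ∃ a : F, act g (Pi.single i 1) = a • Pi.single (π i) 1

/-- the same for `GU` -/
def GMono (A : GU n F q) (π : Equiv.Perm (Fin n)) : Prop :=
  ∀ i, ∃ a : F, gm A *ᵥ Pi.single i 1 = a • Pi.single (π i) 1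

theorem single_ne (i : Fin n) : (Pi.single i 1 : Fin n → F) ≠ 0 := by
  intro h
  have h3 := congrFun h i
  rw [Pi.single_eq_same] at h3
  exact one_ne_zero h3

theorem single_smul_inj {i j : Fin n} {a b : F} (h : a • (Pi.single i 1 : Fin n → F) = b • Pi.single j 1)
    (h0 : a • (Pi.single i 1 : Fin n → F) ≠ 0) : i = j := by
  by_contra hij
  have h1 := congrFun h i
  rw [Pi.smul_apply, Pi.smul_apply, Pi.single_eq_same, Pi.single_eq_of_ne hij, smul_zero, smul_eq_mul, mul_one] at h1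
  apply h0
  rw [h1, zero_smul]

theorem SMono.one : SMono (1 : SU n F q) 1 := fun i => ⟨1, by rw [act_one, one_smul]; rfl⟩

theorem SMono.mul {g h : SU n F q} {π σ : Equiv.Perm (Fin n)} (hg : SMono g π) (hh : SMono h σ) :
    SMono (g * h) (π * σ) := by
  intro i
  obtain ⟨b, hb⟩ := hh i
  obtain ⟨a, ha⟩ := hg (σ i)
  exact ⟨b * a, by rw [act_mul, hb, act_smul, ha, smul_smul]; rfl⟩

theorem SMono.inv {g : SU n F q} {π : Equiv.Perm (Fin n)} (hg : SMono g π) : SMono g⁻¹ π⁻¹ := by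
  intro i
  obtain ⟨a, ha⟩ := hg (π⁻¹ i)
  have hi : π (π⁻¹ i) = i := π.apply_symm_apply i
  rw [hi] at ha
  have ha0 : a ≠ 0 := by
    rintro rfl
    rw [zero_smul, act_eq_zero] at ha
    exact single_ne _ ha
  refine ⟨a⁻¹, ?_⟩
  have h1 : act g⁻¹ (a • (Pi.single i 1 : Fin n → F)) = Pi.single (π⁻¹ i) 1 := by rw [← ha, act_inv_act]
  rw [act_smul] at h1
  rw [← h1, smul_smul, inv_mul_cancel₀ ha0, one_smul]

theorem SMono.uniq {g : SU n F q} {π σ : Equiv.Perm (Fin n)} (hg : SMono g π) (hg' : SMono g σ) : π = σ := by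
  ext1 i
  obtain ⟨a, ha⟩ := hg i
  obtain ⟨b, hb⟩ := hg' i
  have h0 : a • (Pi.single (π i) 1 : Fin n → F) ≠ 0 := by
    rw [← ha, Ne, act_eq_zero]
    exact single_ne _
  exact single_smul_inj (ha.symm.trans hb) h0

theorem SMono.scalar {g : SU n F q} {π : Equiv.Perm (Fin n)} (hg : SMono g π) {z : SU n F q} {c : F}
    (hz : ∀ v, act z v = c • v) : SMono (g * z) π := by
  intro i
  obtain ⟨a, ha⟩ := hg i
  exact ⟨c * a, by rw [act_mul, hz, act_smul, ha, smul_smul]⟩

variable [Fintype F]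

/-- the relation in `PSU` -/
def PMono (x : PSU n F q) (π : Equiv.Perm (Fin n)) : Prop := ∃ g : SU n F q, pr n F q g = x ∧ SMono g π

theorem PMono.mul {x y : PSU n F q} {π σ : Equiv.Perm (Fin n)} (hx : PMono x π) (hy : PMono y σ) :
    PMono (x * y) (π * σ) := by
  obtain ⟨g, rfl, hg⟩ := hx
  obtain ⟨h, rfl, hh⟩ := hy
  exact ⟨g * h, map_mul _ _ _, hg.mul hh⟩

theorem PMono.uniq (hF : Fintype.card F = q ^ 2) (hn : 3 ≤ n) {x : PSU n F q} {π σ : Equiv.Perm (Fin n)}
    (hx : PMono x π) (hy : PMono x σ) : π = σ := by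
  obtain ⟨g, rfl, hg⟩ := hx
  obtain ⟨h, he, hh⟩ := hy
  obtain ⟨z, hz, rfl⟩ := exists_center_mul he
  obtain ⟨c, -, -, hc⟩ := exists_scalar_of_mem_center hF hn hz
  exact hg.uniq (hh.scalar hc)

/-- the monomial subgroup of `PSU` -/
def Mon (n : ℕ) (F : Type*) [Field F] (q : ℕ) : Subgroup (PSU n F q) where
  carrier := {x | ∃ (π : Equiv.Perm (Fin n)) (g : SU n F q), pr n F q g = x ∧ SMono g π}
  one_mem' := ⟨1, 1, map_one _, SMono.one⟩
  mul_mem' := by
    rintro _ _ ⟨π, g, rfl, hg⟩ ⟨σ, h, rfl, hh⟩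
    exact ⟨π * σ, g * h, map_mul _ _ _, hg.mul hh⟩
  inv_mem' := by
    rintro _ ⟨π, g, rfl, hg⟩
    exact ⟨π⁻¹, g⁻¹, map_inv _ _, hg.inv⟩

theorem mem_Mon {x : PSU n F q} : x ∈ Mon n F q ↔ ∃ π, PMono x π := Iff.rfl

/-- the action of the monomial subgroup on the frame -/
noncomputable def theta (hF : Fintype.card F = q ^ 2) (hn : 3 ≤ n) : Mon n F q →* Equiv.Perm (Fin n) where
  toFun x := (mem_Mon.1 x.2).choose
  map_one' := PMono.uniq hF hn (mem_Mon.1 (1 : Mon n F q).2).choose_spec ⟨1, map_one _, SMono.one⟩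
  map_mul' x y := PMono.uniq hF hn (mem_Mon.1 (x * y).2).choose_spec
    ((mem_Mon.1 x.2).choose_spec.mul (mem_Mon.1 y.2).choose_spec)

theorem theta_spec (hF : Fintype.card F = q ^ 2) (hn : 3 ≤ n) (x : Mon n F q) : PMono x.1 (theta hF hn x) :=
  (mem_Mon.1 x.2).choose_spec

theorem theta_eq (hF : Fintype.card F = q ^ 2) (hn : 3 ≤ n) {x : Mon n F q} {π : Equiv.Perm (Fin n)}
    (h : PMono x.1 π) : theta hF hn x = π := PMono.uniq hF hn (theta_spec hF hn x) h

/-- monomial elements of `SU` with given permutation -/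
theorem exists_smono (hF : Fintype.card F = q ^ 2) (hn : 1 ≤ n) (π : Equiv.Perm (Fin n)) :
    ∃ g : SU n F q, SMono g π := by
  classical
  set s : F := (((Equiv.Perm.sign π : ℤˣ) : ℤ) : F) with hs
  have hss : s * s = 1 := by
    rw [hs, ← Int.cast_mul, ← Units.val_mul, Int.units_mul_self]
    simp
  have hs1 : s = 1 ∨ s = -1 := mul_self_eq_one_iff.1 hss
  have hsq : s * s ^ q = 1 := by
    rcases hs1 with h | h <;> rw [h]
    · rw [one_pow, mul_one]
    · rw [neg_pow_q hF, one_pow]; ring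
  let i₀ : Fin n := ⟨0, hn⟩
  let D : Fin n → F := fun i => if i = i₀ then s else 1
  have hD : ∀ i, D i * D i ^ q = 1 := by
    intro i
    by_cases h : i = i₀
    · simp only [D, if_pos h]; exact hsq
    · simp only [D, if_neg h]; rw [one_pow, mul_one]
  let M : Matrix (Fin n) (Fin n) F := Matrix.diagonal D * (π⁻¹).permMatrix F
  have hMv : ∀ v i, (M *ᵥ v) i = D i * v (π⁻¹ i) := by
    intro v i
    show ((Matrix.diagonal D * (π⁻¹).permMatrix F) *ᵥ v) i = _
    rw [← mulVec_mulVec, mulVec_diagonal, Matrix.permMatrix_mulVec]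
    rfl
  have hdet : M.det = 1 := by
    show (Matrix.diagonal D * (π⁻¹).permMatrix F).det = 1
    rw [det_mul, det_diagonal, det_permutation, Equiv.Perm.sign_inv, Finset.prod_ite_eq' Finset.univ i₀ (fun _ => s),
      if_pos (Finset.mem_univ _)]
    exact hss
  have hM : ∀ u v, hermForm n F q (M *ᵥ u) (M *ᵥ v) = hermForm n F q u v := by
    intro u v
    rw [herm_def, herm_def, ← Equiv.sum_comp π]
    refine Finset.sum_congr rfl fun i _ => ?_
    rw [hMv, hMv]
    have h1 : π⁻¹ (π i) = i := π.symm_apply_apply i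
    rw [h1, mul_pow]
    linear_combination (u i * v i ^ q) * hD (π i)
  refine ⟨mkSU M hdet hM, fun i => ⟨D (π i), ?_⟩⟩
  rw [act_def, mat_mkSU]
  funext j
  rw [hMv, Pi.smul_apply, smul_eq_mul]
  by_cases h : j = π i
  · have h1 : π⁻¹ (π i) = i := π.symm_apply_apply i
    rw [h, h1, Pi.single_eq_same, Pi.single_eq_same]
  · have h1 : π⁻¹ j ≠ i := fun h1 => h (by rw [← h1]; exact (π.apply_symm_apply j).symm)
    rw [Pi.single_eq_of_ne h1, Pi.single_eq_of_ne h, mul_zero, mul_zero]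

theorem theta_surjective (hF : Fintype.card F = q ^ 2) (hn : 3 ≤ n) : Function.Surjective (theta (F := F) hF hn) := by
  intro π
  obtain ⟨g, hg⟩ := exists_smono hF (by omega : 1 ≤ n) π
  exact ⟨⟨pr n F q g, π, g, rfl, hg⟩, theta_eq hF hn ⟨g, rfl, hg⟩⟩

/-- the monomial subgroup is proper -/
theorem Mon_ne_top (hF : Fintype.card F = q ^ 2) (hn : 4 ≤ n) : Mon n F q ≠ ⊤ := by
  intro htop
  obtain ⟨μ, hμ0, hμ⟩ := exists_trace_zero_ne hF
  obtain ⟨c, hc⟩ := exists_norm_eq hF (c := -1) (by rw [neg_pow_q hF, one_pow])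
  have hc0 : c ≠ 0 := by
    rintro rfl
    rw [zero_mul] at hc
    exact one_ne_zero (neg_eq_zero.mp hc.symm)
  let i0 : Fin n := ⟨0, by omega⟩
  let i1 : Fin n := ⟨1, by omega⟩
  let i2 : Fin n := ⟨2, by omega⟩
  let i3 : Fin n := ⟨3, by omega⟩
  have h01 : i0 ≠ i1 := by simp [i0, i1]
  have h02 : i0 ≠ i2 := by simp [i0, i2]
  have h03 : i0 ≠ i3 := by simp [i0, i3]
  have h12 : i1 ≠ i2 := by simp [i1, i2]
  have h13 : i1 ≠ i3 := by simp [i1, i3]
  have h23 : i2 ≠ i3 := by simp [i2, i3]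
  set u : Fin n → F := Pi.single i0 1 + c • Pi.single i1 1 + (Pi.single i2 1 + c • Pi.single i3 1) with hu
  have huu : hermForm n F q u u = 0 := by
    rw [hu]
    simp only [herm_add_left, herm_add_right hF, herm_smul_left, herm_smul_right, single_herm hF, if_true,
      if_neg h01, if_neg h02, if_neg h03, if_neg h12, if_neg h13, if_neg h23, if_neg h01.symm, if_neg h02.symm,
      if_neg h03.symm, if_neg h12.symm, if_neg h13.symm, if_neg h23.symm]
    linear_combination 2 * hc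
  have hu1 : u i1 = c := by
    rw [hu]
    simp [Pi.single_eq_of_ne h01.symm, Pi.single_eq_of_ne h12, Pi.single_eq_of_ne h13]
  have hu2 : u i2 = 1 := by
    rw [hu]
    simp [Pi.single_eq_of_ne h02.symm, Pi.single_eq_of_ne h12.symm, Pi.single_eq_of_ne h23]
  have hu0 : hermForm n F q (Pi.single i0 1) u = 1 := by
    rw [herm_single_left, one_mul]
    have h1 : u i0 = 1 := by
      rw [hu]
      simp [Pi.single_eq_of_ne h01, Pi.single_eq_of_ne h02, Pi.single_eq_of_ne h03]
    rw [h1, one_pow]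
  have hmem : pr n F q (transv hF u huu μ hμ) ∈ Mon n F q := by rw [htop]; exact mem_top _
  obtain ⟨π, g, hg, hgm⟩ := hmem
  obtain ⟨z, hz, he⟩ := exists_center_mul hg
  obtain ⟨d, -, -, hd⟩ := exists_scalar_of_mem_center hF (by omega) hz
  have h1 : SMono (transv hF u huu μ hμ) π := by
    rw [he]
    exact hgm.scalar hd
  obtain ⟨a, ha⟩ := h1 i0
  rw [act_transv, hu0, mul_one] at ha
  have hv1 := congrFun ha i1
  have hv2 := congrFun ha i2
  rw [Pi.add_apply, Pi.smul_apply, Pi.smul_apply, hu1, Pi.single_eq_of_ne h01.symm, zero_add, smul_eq_mul,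
    smul_eq_mul] at hv1
  rw [Pi.add_apply, Pi.smul_apply, Pi.smul_apply, hu2, Pi.single_eq_of_ne h02.symm, zero_add, smul_eq_mul,
    smul_eq_mul] at hv2
  by_cases hp : π i0 = i1
  · rw [hp, Pi.single_eq_of_ne h12.symm, mul_zero, mul_one] at hv2
    exact hμ0 hv2
  · rw [Pi.single_eq_of_ne (fun h => hp h.symm), mul_zero] at hv1
    exact (mul_ne_zero hμ0 hc0) hv1

/-- **A radical automorphism induced by a monomial matrix fixes the lines of the frame.** -/
theorem perm_eq_one_of_rc (hF : Fintype.card F = q ^ 2) (hn : 5 ≤ n) {A : GU n F q} {π : Equiv.Perm (Fin n)}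
    (hA : GMono A π) (hRC : RC (toAut A 1 : MulAut (PSU n F q))) : π = 1 := by
  have hAinv : ∀ i, ∃ a : F, gm A⁻¹ *ᵥ Pi.single i 1 = a • Pi.single (π⁻¹ i) 1 := by
    intro i
    obtain ⟨a, ha⟩ := hA (π⁻¹ i)
    have hi : π (π⁻¹ i) = i := π.apply_symm_apply i
    rw [hi] at ha
    have h1 : gm A⁻¹ *ᵥ (a • (Pi.single i 1 : Fin n → F)) = Pi.single (π⁻¹ i) 1 := by rw [← ha, gm_inv_mulVec]
    have ha0 : a ≠ 0 := by
      rintro rfl
      rw [zero_smul, mulVec_zero] at h1
      exact single_ne _ h1.symm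
    rw [mulVec_smul] at h1
    exact ⟨a⁻¹, by rw [← h1, smul_smul, inv_mul_cancel₀ ha0, one_smul]⟩
  have hconj : ∀ (g : SU n F q) (σ : Equiv.Perm (Fin n)), SMono g σ → SMono (guConj A g) (π * σ * π⁻¹) := by
    intro g σ hg i
    obtain ⟨a, ha⟩ := hAinv i
    obtain ⟨b, hb⟩ := hg (π⁻¹ i)
    obtain ⟨c, hc⟩ := hA (σ (π⁻¹ i))
    refine ⟨a * (b * c), ?_⟩
    rw [act_guConj, ha, act_smul, hb, mulVec_smul, mulVec_smul, hc, smul_smul, smul_smul, mul_assoc a b c]
    rfl
  have hinv : ∀ m ∈ Mon n F q, toAut A 1 m ∈ Mon n F q := by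
    rintro _ ⟨σ, g, rfl, hg⟩
    exact ⟨_, guConj A g, rfl, hconj g σ hg⟩
  apply perm_eq_one (by omega)
  intro σ
  obtain ⟨x, hx⟩ := theta_surjective (F := F) hF (by omega : 3 ≤ n) σ
  have h1 := hRC.map_eq (Mon_ne_top hF (by omega)) hinv (theta hF (by omega : 3 ≤ n))
    (theta_surjective hF (by omega)) (rad_perm hn) x
  obtain ⟨g, hg, hgm⟩ := theta_spec hF (by omega : 3 ≤ n) x
  have h2 : theta hF (by omega : 3 ≤ n) ⟨toAut A 1 x.1, hinv x.1 x.2⟩ =
      π * theta hF (by omega : 3 ≤ n) x * π⁻¹ := by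
    apply theta_eq hF
    refine ⟨guConj A g, ?_, hconj g _ hgm⟩
    show pr n F q (guConj A g) = toAut A 1 x.1
    rw [← hg]
    rfl
  rw [h2, hx, mul_inv_eq_iff_eq_mul] at h1
  exact h1

end Mono

end Cfsg.Agent.H880.Cl
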