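import Mathlib
import Cfsg.Agent.ClassicalGeometry.HermWitt

/-!
Hermitian spaces over a finite field, conventions of `ClassicalGeometry.HermWitt`: `B : V →ₛₗ[σ] V →ₗ[F] F` is
`σ`-semilinear in the first and linear in the second variable, `B.IsSymm` means `σ (B x y) = B y x`.

* `HasT`: `v` is isotropic and all unitary transvections `x ↦ x + l B(v,x) v`, `l + σ l = 0`, lie in the group `M`;
* `exists_isotropic`, `exists_vec` (vectors with prescribed product with `v ≠ 0` and prescribed norm),
  `exists_unit_perp_of_ne`.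
* `det_eq_one_of_nilpotent`.
-/

set_option autoImplicit false

namespace Cfsg.Agent.H880

open Module Cfsg.Agent.ClassicalGeometry

section Det

variable {F V : Type*} [Field F] [Finite F] [AddCommGroup V] [Module F V]

/-- Unipotent maps have determinant one and `p`-power order. -/
theorem pow_eq_one_of_nilpotent {p : ℕ} [hp : Fact p.Prime] [CharP F p] (g : V →ₗ[F] V) {k : ℕ}
    (h : (g - 1) ^ k = 0) : g ^ p ^ k = 1 := by
  have : CharP (V →ₗ[F] V) p ∨ Subsingleton V := by
    rcases subsingleton_or_nontrivial V with h | h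
    · exact Or.inr h
    · left
      exact charP_of_injective_algebraMap (algebraMap F (Module.End F V)).injective p
  rcases this with hc | hs
  · have := hc
    have h1 : g = 1 + (g - 1) := by abel
    have h2 : Commute (1 : V →ₗ[F] V) (g - 1) := Commute.one_left _
    have h3 : (1 + (g - 1)) ^ p ^ k = 1 ^ p ^ k + (g - 1) ^ p ^ k := add_pow_char_pow_of_commute p k h2
    rw [h1, h3, one_pow]
    have h4 : (g - 1) ^ p ^ k = 0 := by
      have hk : k ≤ p ^ k := (Nat.lt_pow_self hp.out.one_lt).le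
      rw [← Nat.sub_add_cancel hk, pow_add, h, mul_zero]
    rw [h4, add_zero]
  · ext x
    exact Subsingleton.elim _ _

theorem det_eq_one_of_nilpotent [FiniteDimensional F V] (g : V →ₗ[F] V) {k : ℕ} (h : (g - 1) ^ k = 0) :
    LinearMap.det g = 1 := by
  obtain ⟨p, hp⟩ := CharP.exists F
  have := hp
  have : Fact p.Prime := ⟨CharP.char_is_prime F p⟩
  have h1 := pow_eq_one_of_nilpotent (p := p) g h
  have h2 := congrArg LinearMap.det h1
  rw [map_pow, map_one] at h2
  have h3 : (LinearMap.det g) ^ (p ^ k * 1) = 1 := by rw [mul_one]; exact h2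
  have h4 := (ExpChar.pow_prime_pow_mul_eq_one_iff p k 1 (LinearMap.det g)).mp h3
  simpa using h4

end Det

section Basic

variable {F V : Type*} [Field F] [AddCommGroup V] [Module F V]
  {σ : F →+* F} {B : V →ₛₗ[σ] V →ₗ[F] F}

theorem symm_zero (hS : B.IsSymm) {x y : V} (h : B x y = 0) : B y x = 0 := by
  rw [← hS.eq, h, map_zero]

/-- All unitary transvections with centre `v` lie in `M`. -/
def HasT (B : V →ₛₗ[σ] V →ₗ[F] F) (M : Subgroup (V ≃ₗ[F] V)) (v : V) : Prop :=
  B v v = 0 ∧ ∀ l : F, l + σ l = 0 → ∃ g ∈ M, ∀ x, g x = x + (l * B v x) • v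

theorem HasT.map {M : Subgroup (V ≃ₗ[F] V)} {v : V} (h : HasT B M v) {g : V ≃ₗ[F] V} (hg : g ∈ M)
    (hB : ∀ x y, B (g x) (g y) = B x y) : HasT B M (g v) := by
  refine ⟨by rw [hB]; exact h.1, fun l hl => ?_⟩
  obtain ⟨t, ht, htx⟩ := h.2 l hl
  refine ⟨g * t * g⁻¹, M.mul_mem (M.mul_mem hg ht) (M.inv_mem hg), fun x => ?_⟩
  show g (t (g.symm x)) = _
  rw [htx, map_add, map_smul, LinearEquiv.apply_symm_apply]
  have : B (g v) x = B v (g.symm x) := by
    rw [← hB v (g.symm x), LinearEquiv.apply_symm_apply]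
  rw [this]

theorem HasT.smul (hσ2 : ∀ a : F, σ (σ a) = a) {M : Subgroup (V ≃ₗ[F] V)} {v : V} (h : HasT B M v) (c : F) :
    HasT B M (c • v) := by
  refine ⟨by rw [LinearMap.map_smulₛₗ₂, map_smul, h.1]; simp, fun l hl => ?_⟩
  obtain ⟨t, ht, htx⟩ := h.2 (l * (c * σ c)) (by
    rw [map_mul, map_mul, hσ2]; linear_combination (c * σ c) * hl)
  refine ⟨t, ht, fun x => ?_⟩
  rw [htx, LinearMap.map_smulₛₗ₂, smul_smul, smul_eq_mul]
  congr 2
  ring

/-- Two centres `v, v'` not orthogonal: the isotropic sum is a centre. -/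
theorem HasT.add (hS : B.IsSymm) {M : Subgroup (V ≃ₗ[F] V)}
    (hM : ∀ g ∈ M, ∀ x y, B (g x) (g y) = B x y) {v v' : V} (h : HasT B M v)
    (h' : HasT B M v') (hne : B v' v ≠ 0) (hiso : B (v + v') (v + v') = 0) : HasT B M (v + v') := by
  have h0 : B v' v + B v v' = 0 := by
    simp only [map_add, LinearMap.add_apply, h.1, h'.1] at hiso
    linear_combination hiso
  have hs : σ (B v' v) = B v v' := hS.eq _ _
  have hl : (B v' v)⁻¹ + σ (B v' v)⁻¹ = 0 := by
    rw [map_inv₀, hs]
    have h1 : B v v' = - B v' v := by linear_combination h0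
    rw [h1, inv_neg]; ring
  obtain ⟨t, ht, htx⟩ := h'.2 _ hl
  have h1 : t v = v + v' := by
    rw [htx, inv_mul_cancel₀ hne, one_smul]
  rw [← h1]
  exact h.map ht (hM t ht)

end Basic

section Exist

variable {F V : Type*} [Field F] [Finite F] [AddCommGroup V] [Module F V] [FiniteDimensional F V]
  {σ : F →+* F} {B : V →ₛₗ[σ] V →ₗ[F] F}

/-- A subspace of dimension at least two contains a non-zero isotropic vector. -/
theorem exists_isotropic (hσ : σ ≠ RingHom.id F) (hσ2 : ∀ a : F, σ (σ a) = a) (hS : B.IsSymm)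
    (X : Submodule F V) (hX : 2 ≤ finrank F X) : ∃ v ∈ X, v ≠ 0 ∧ B v v = 0 := by
  by_contra hcon
  push Not at hcon
  have h1 : 0 < finrank F X := by omega
  obtain ⟨⟨x, hx⟩, hx0⟩ := Module.finrank_pos_iff_exists_ne_zero.mp h1
  have hx0' : x ≠ 0 := fun h => hx0 (Subtype.ext h)
  have hxx := hcon x hx hx0'
  obtain ⟨y, hy, hyx⟩ : ∃ y ∈ X, y ∉ Submodule.span F {x} := by
    by_contra hn
    push Not at hn
    have h2 : X ≤ Submodule.span F {x} := hn
    have h3 := Submodule.finrank_mono h2
    have h4 : finrank F (Submodule.span F {x}) = 1 := finrank_span_singleton hx0'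
    omega
  let y' := y - (B x y / B x x) • x
  have hy' : y' ∈ X := X.sub_mem hy (X.smul_mem _ hx)
  have hy'0 : y' ≠ 0 := by
    intro h
    apply hyx
    rw [Submodule.mem_span_singleton]
    exact ⟨_, (sub_eq_zero.mp h).symm⟩
  have hxy' : B x y' = 0 := by
    show B x (y - (B x y / B x x) • x) = 0
    rw [map_sub, map_smul, smul_eq_mul, div_mul_cancel₀ _ hxx, sub_self]
  have hy'x : B y' x = 0 := symm_zero hS hxy'
  have hyy := hcon y' hy' hy'0
  obtain ⟨c, hc0, hc⟩ := HermWitt.norm_surj σ hσ hσ2 (-(B y' y') / B x x)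
    (by rw [map_div₀, map_neg, hS.eq, hS.eq]) (div_ne_zero (neg_ne_zero.mpr hyy) hxx)
  have hv : c • x + y' ∈ X := X.add_mem (X.smul_mem _ hx) hy'
  refine hcon _ hv ?_ ?_
  · intro h
    have h5 : B x (c • x + y') = 0 := by rw [h, map_zero]
    rw [map_add, map_smul, hxy', add_zero, smul_eq_mul] at h5
    exact mul_ne_zero hc0 hxx h5
  · simp only [map_add, LinearMap.add_apply, LinearMap.map_smulₛₗ₂, map_smul, smul_eq_mul, hxy', hy'x, mul_zero,
      add_zero, zero_add]
    have h6 : σ c * (c * B x x) = -(B y' y') := by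
      have : σ c * (c * B x x) = (c * σ c) * B x x := by ring
      rw [this, hc, div_mul_cancel₀ _ hxx]
    linear_combination h6

/-- The orthogonal complement of a finite set. -/
def perp (B : V →ₛₗ[σ] V →ₗ[F] F) (S : Set V) : Submodule F V where
  carrier := {v | ∀ x ∈ S, B x v = 0}
  add_mem' := fun {a b} ha hb x hx => by rw [map_add, ha x hx, hb x hx, add_zero]
  zero_mem' := fun x _ => map_zero _
  smul_mem' := fun c a ha x hx => by rw [map_smul, ha x hx, smul_zero]

omit [Finite F] [FiniteDimensional F V] in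
theorem mem_perp {S : Set V} {v : V} : v ∈ perp B S ↔ ∀ x ∈ S, B x v = 0 := Iff.rfl

omit [Finite F] in
/-- `dim S^⊥ ≥ dim V - |S|` for a finite family. -/
theorem finrank_perp_range {ι : Type*} [Fintype ι] (s : ι → V) :
    finrank F V ≤ finrank F (perp B (Set.range s)) + Fintype.card ι := by
  let L : V →ₗ[F] (ι → F) := LinearMap.pi fun i => B (s i)
  have h1 : LinearMap.ker L = perp B (Set.range s) := by
    ext v
    rw [LinearMap.mem_ker, mem_perp]
    constructor
    · rintro h _ ⟨i, rfl⟩
      exact congrFun h i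
    · intro h
      funext i
      exact h _ ⟨i, rfl⟩
  have h2 := LinearMap.finrank_range_add_finrank_ker L
  have h3 : finrank F (LinearMap.range L) ≤ Fintype.card ι := by
    have := Submodule.finrank_le (LinearMap.range L)
    simpa using this
  rw [h1] at h2
  omega

omit [Finite F] in
theorem finrank_perp_one (v : V) : finrank F V ≤ finrank F (perp B {v}) + 1 := by
  have h := finrank_perp_range (B := B) (fun _ : Fin 1 => v)
  have hr : Set.range (fun _ : Fin 1 => v) = {v} := Set.range_const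
  rw [hr] at h
  simpa using h

/-- In dimension at least three `v^⊥` contains a vector of norm one (`v ≠ 0`). -/
theorem exists_unit_perp_of_ne (hσ : σ ≠ RingHom.id F) (hσ2 : ∀ a : F, σ (σ a) = a) (hS : B.IsSymm)
    (hB : B.SeparatingLeft) (h3 : 3 ≤ finrank F V) (v : V) : ∃ e, B v e = 0 ∧ B e e = 1 := by
  obtain ⟨e, he, hee⟩ := HermWitt.exists_apply_self_eq_one σ B hσ hσ2 hS (perp B {v}) (by
    by_contra hcon
    push Not at hcon
    -- `v^⊥` is totally isotropic of dimension at least two
    have h1 := finrank_perp_one (B := B) v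
    -- then `V → dual of v^⊥` has kernel containing `v^⊥`
    let X := perp B {v}
    have hsub : ∀ x ∈ X, ∃ c : F, ∀ y, B x y = c * B v y := by
      intro x hx
      by_cases hv : v = 0
      · refine ⟨0, fun y => ?_⟩
        rw [zero_mul]
        exact hcon x hx y (by rw [mem_perp]; rintro _ rfl; rw [hv]; simp)
      · obtain ⟨z, hz⟩ : ∃ z, B v z ≠ 0 := by
          by_contra h
          push Not at h
          exact hv (hB _ h)
        refine ⟨B x z / B v z, fun y => ?_⟩
        have h2 : y - (B v y / B v z) • z ∈ X := by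
          rw [mem_perp]
          rintro _ rfl
          rw [map_sub, map_smul, smul_eq_mul, div_mul_cancel₀ _ hz, sub_self]
        have h4 := hcon x hx _ h2
        rw [map_sub, map_smul, smul_eq_mul] at h4
        field_simp
        field_simp at h4
        linear_combination h4
    have h5 : finrank F (perp B {v}) ≤ 1 := by
      rw [finrank_le_one_iff]
      by_cases hX : ∃ x ∈ X, x ≠ 0
      · obtain ⟨x, hx, hx0⟩ := hX
        refine ⟨⟨x, hx⟩, ?_⟩
        rintro ⟨y, hy⟩
        obtain ⟨c, hc⟩ := hsub x hx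
        obtain ⟨d, hd⟩ := hsub y hy
        have hc0 : c ≠ 0 := by
          intro h
          apply hx0
          apply hB
          intro z
          rw [hc, h, zero_mul]
        refine ⟨σ (d / c), Subtype.ext ?_⟩
        show σ (d / c) • x = y
        rw [← sub_eq_zero]
        apply hB
        intro z
        rw [map_sub, LinearMap.sub_apply, LinearMap.map_smulₛₗ₂, hσ2, hc, hd, smul_eq_mul]
        field_simp
        ring
      · push Not at hX
        exact ⟨0, fun w => ⟨0, by rw [smul_zero]; exact Subtype.ext (hX w w.2).symm⟩⟩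
    omega)
  exact ⟨e, he v rfl, hee⟩

/-- Vectors with prescribed product with `v ≠ 0` and prescribed norm (dimension at least three). -/
theorem exists_vec (hσ : σ ≠ RingHom.id F) (hσ2 : ∀ a : F, σ (σ a) = a) (hS : B.IsSymm)
    (hB : B.SeparatingLeft) (h3 : 3 ≤ finrank F V) {v : V} (hv : v ≠ 0) (c n : F) (hn : σ n = n) :
    ∃ x, B v x = c ∧ B x x = n := by
  obtain ⟨z, hz⟩ : ∃ z, B v z ≠ 0 := by
    by_contra h
    push Not at h
    exact hv (hB _ h)
  by_cases hvv : B v v = 0
  · by_cases hc : c = 0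
    · obtain ⟨e, hve, hee⟩ := exists_unit_perp_of_ne hσ hσ2 hS hB h3 v
      by_cases hn0 : n = 0
      · exact ⟨0, by rw [map_zero, hc], by rw [map_zero, hn0]⟩
      · obtain ⟨d, _, hd⟩ := HermWitt.norm_surj σ hσ hσ2 n hn hn0
        refine ⟨d • e, by rw [map_smul, hve, smul_zero, hc], ?_⟩
        rw [LinearMap.map_smulₛₗ₂, map_smul, hee, smul_eq_mul, smul_eq_mul, mul_one, mul_comm, hd]
    · obtain ⟨x0, hx0⟩ : ∃ x0, B v x0 = c :=
        ⟨(c / B v z) • z, by rw [map_smul, smul_eq_mul, div_mul_cancel₀ _ hz]⟩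
      obtain ⟨t, ht⟩ := HermWitt.trace_surj σ hσ hσ2 (n - B x0 x0) (by rw [map_sub, hn, hS.eq])
      refine ⟨x0 + (σ t / σ c) • v, ?_, ?_⟩
      · rw [map_add, map_smul, hvv, smul_zero, add_zero, hx0]
      · have hx0v : B x0 v = σ c := by rw [← hS.eq, hx0]
        have hσc : σ c ≠ 0 := by simpa using hc
        simp only [map_add, LinearMap.add_apply, LinearMap.map_smulₛₗ₂, map_smul, smul_eq_mul, hx0, hx0v, hvv,
          mul_zero, add_zero, map_div₀, hσ2]
        field_simp
        linear_combination ht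
  · obtain ⟨x0, hx0d, hx0⟩ : ∃ x0, x0 = (c / B v v) • v ∧ B v x0 = c :=
      ⟨(c / B v v) • v, rfl, by rw [map_smul, smul_eq_mul, div_mul_cancel₀ _ hvv]⟩
    -- a vector of norm `n - B x0 x0` in `v^⊥`
    obtain ⟨e, hve, hee⟩ := exists_unit_perp_of_ne hσ hσ2 hS hB h3 v
    by_cases hn0 : n - B x0 x0 = 0
    · exact ⟨x0, hx0, by linear_combination -hn0⟩
    · obtain ⟨d, _, hd⟩ := HermWitt.norm_surj σ hσ hσ2 (n - B x0 x0) (by rw [map_sub, hn, hS.eq]) hn0
      have hx0e : B x0 e = 0 := by
        rw [hx0d, LinearMap.map_smulₛₗ₂, hve, smul_zero]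
      have hex0 : B e x0 = 0 := symm_zero hS hx0e
      refine ⟨x0 + d • e, ?_, ?_⟩
      · rw [map_add, map_smul, hve, smul_zero, add_zero, hx0]
      · simp only [map_add, LinearMap.add_apply, LinearMap.map_smulₛₗ₂, map_smul, smul_eq_mul, hx0e, hex0, hee,
          mul_zero, add_zero, mul_one]
        linear_combination hd

end Exist

end Cfsg.Agent.H880
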