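import Cfsg.Agent.H880.UTi

/-!
**The case `b = a + 1`** (`a ≥ 3`): an overgroup `M` of the tensor stabiliser with the TI properties of `UTi` consists
of tensors.
-/

set_option autoImplicit false
set_option linter.unusedSectionVars false

namespace Cfsg.Agent.H880

open Module Cfsg.Agent.ClassicalGeometry Matrix

section Transfer

variable {F : Type*} [Field F] {σ : F →+* F} [Finite F] {a b : ℕ} {M : Subgroup (Mat a b F ≃ₗ[F] Mat a b F)}

/-- The tensors in `M`. -/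
def tensM (M : Subgroup (Mat a b F ≃ₗ[F] Mat a b F)) : Subgroup (Mat a b F ≃ₗ[F] Mat a b F) where
  carrier := {g | g ∈ M ∧ IsTens g}
  mul_mem' := fun {_ _} hg hh => ⟨M.mul_mem hg.1 hh.1, hg.2.mul hh.2⟩
  one_mem' := ⟨M.one_mem, IsTens.one⟩
  inv_mem' := fun {_} hg => ⟨M.inv_mem hg.1, hg.2.inv⟩

theorem mem_tensM {g : Mat a b F ≃ₗ[F] Mat a b F} : g ∈ tensM M ↔ g ∈ M ∧ IsTens g := Iff.rfl

theorem coe_pow_equiv {V : Type*} [AddCommGroup V] [Module F V] (s : V ≃ₗ[F] V) (n : ℕ) :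
    ((s ^ n : V ≃ₗ[F] V) : V →ₗ[F] V) = (s : V →ₗ[F] V) ^ n := by
  induction n with
  | zero => rfl
  | succ n ih =>
    rw [pow_succ, pow_succ, ← ih]
    rfl

theorem pow_eq_one_equiv {V : Type*} [AddCommGroup V] [Module F V] {p : ℕ} [Fact p.Prime] [CharP F p]
    (s : V ≃ₗ[F] V) (h : ∀ x, s (s x - x) = s x - x) : s ^ p ^ 2 = 1 := by
  apply LinearEquiv.toLinearMap_injective
  rw [coe_pow_equiv, pow_eq_one_of_nilpotent (k := 2)]
  · rfl
  · ext1 x
    show s (s x - x) - (s x - x) = 0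
    rw [h, sub_self]

instance finite_matEquiv : Finite (Mat a b F ≃ₗ[F] Mat a b F) := by
  have : Finite (Mat a b F) := inferInstanceAs (Finite (Fin a → Fin b → F))
  exact DFunLike.finite _

/-- **Transfer.** -/
theorem transfer {D : Set (Mat a b F ≃ₗ[F] Mat a b F)}
    (hD : ∀ s ∈ D, s ∈ tensM M ∧ ∀ X, s (s X - X) = s X - X)
    (hTI : ∀ s ∈ D, ∀ g ∈ M, IsTens (g * s * g⁻¹) → IsTens g)
    {s t : Mat a b F ≃ₗ[F] Mat a b F} (hs : s ∈ D) (ht : t ∈ D) {g : Mat a b F ≃ₗ[F] Mat a b F} (hg : g ∈ M)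
    (Z : Set (Mat a b F)) (h1 : ∀ X ∈ Z, t X = X) (h2 : ∀ X ∈ Z, s (g X) = g X) :
    ∃ h ∈ tensM M, ∀ X ∈ Z, g X = h X := by
  obtain ⟨p, hp⟩ := CharP.exists F
  have hpp : p.Prime := CharP.char_is_prime F p
  have : Fact p.Prime := ⟨hpp⟩
  let L : Subgroup (Mat a b F ≃ₗ[F] Mat a b F) :=
    { carrier := {m | ∀ X ∈ Z, m (g X) = g X}
      mul_mem' := fun {m n} hm hn X hX => by
        show m (n (g X)) = g X
        rw [hn X hX, hm X hX]
      one_mem' := fun X _ => rfl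
      inv_mem' := fun {m} hm X hX => by
        show m.symm (g X) = g X
        rw [LinearEquiv.symm_apply_eq, hm X hX] }
  obtain ⟨m, hm, h, hh, e⟩ := ti_transfer_one hpp M (tensM M) (fun x hx => hx.1) D
    (fun s hs => ⟨(hD s hs).1, 2, pow_eq_one_equiv s (hD s hs).2⟩)
    (fun s hs g hg h => ⟨hg, hTI s hs g hg h.2⟩) L hs ht hg h2
    (by
      intro X hX
      show g (t (g.symm (g X))) = g X
      rw [LinearEquiv.symm_apply_apply, h1 X hX])
  refine ⟨h, hh, fun X hX => ?_⟩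
  have h3 : g X = m (h X) := by rw [e]; rfl
  have h4 := hm X hX
  rw [h3] at h4
  have h5 : m (h X) = h X := m.injective h4
  rw [h3, h5]

end Transfer

section ConL

variable {F : Type*} [Field F] {σ : F →+* F} {a b : ℕ}

/-- The contraction with `u` on the left. -/
def conL (σ : F →+* F) (u : Fin a → F) : Mat a b F →ₗ[F] (Fin b → F) :=
  con σ u ∘ₗ (trE a b F : Mat a b F →ₗ[F] Mat b a F)

theorem conL_pure (u u' : Fin a → F) (v : Fin b → F) : conL σ u (vecMulVec u' v) = stB σ a u u' • v := by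
  show con σ u (trE a b F (vecMulVec u' v)) = _
  rw [trE_pure, con_pure]

theorem stB_conL (p : Fin a → F) (x : Fin b → F) (X : Mat a b F) :
    stB σ b x (conL σ p X) = stB σ a p (con σ x X) := stB_con_trE p x X

theorem BV_pure_conL (p : Fin a → F) (x : Fin b → F) (X : Mat a b F) :
    BV σ a b (vecMulVec p x) X = stB σ b x (conL σ p X) := by
  rw [BV_pure_left, stB_conL]

theorem conL_smul (c : F) (u : Fin a → F) (X : Mat a b F) : conL σ (c • u) X = σ c • conL σ u X :=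
  con_smul c u _

/-- Tensor isometries and contractions on the left. -/
theorem conL_tens {h : Mat a b F ≃ₗ[F] Mat a b F} (hi : ∀ X Y, BV σ a b (h X) (h Y) = BV σ a b X Y)
    {y : (Fin a → F) ≃ₗ[F] (Fin a → F)} {z : (Fin b → F) ≃ₗ[F] (Fin b → F)}
    (hyz : ∀ u v, h (vecMulVec u v) = vecMulVec (y u) (z v)) (u : Fin a → F) (X : Mat a b F) :
    conL σ (y u) (h X) = 0 ↔ conL σ u X = 0 := by
  constructor
  · intro h0
    apply stB_eq_of_forall (σ := σ)
    intro v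
    rw [map_zero, ← BV_pure_conL, ← hi, hyz, BV_pure_conL, h0, map_zero]
  · intro h0
    apply stB_eq_of_forall (σ := σ)
    intro v
    obtain ⟨v', rfl⟩ := z.surjective v
    rw [map_zero, ← BV_pure_conL, ← hyz, hi, BV_pure_conL, h0, map_zero]

/-- Tensor isometries and contractions on the right. -/
theorem con_tens {h : Mat a b F ≃ₗ[F] Mat a b F} (hi : ∀ X Y, BV σ a b (h X) (h Y) = BV σ a b X Y)
    {y : (Fin a → F) ≃ₗ[F] (Fin a → F)} {z : (Fin b → F) ≃ₗ[F] (Fin b → F)}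
    (hyz : ∀ u v, h (vecMulVec u v) = vecMulVec (y u) (z v)) (w : Fin b → F) (X : Mat a b F) :
    con σ (z w) (h X) = 0 ↔ con σ w X = 0 := by
  rw [con_eq_zero_iff, con_eq_zero_iff]
  constructor
  · intro h0 u
    rw [← hi, hyz, h0]
  · intro h0 u
    obtain ⟨u', rfl⟩ := y.surjective u
    rw [← hyz, hi, h0]

end ConL

section Adj

variable {F : Type*} [Field F] {σ : F →+* F} [Finite F] {a b : ℕ}

/-- The linear algebra of the normalised case: `g` preserves nothing but what it must. -/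
theorem adj_lattice (hσ : σ ≠ RingHom.id F) (hσ2 : ∀ x : F, σ (σ x) = x) (hb : 4 ≤ b)
    {g : Mat a b F ≃ₗ[F] Mat a b F} {u0 : Fin a → F}
    (hN : ∀ w, w ≠ 0 → stB σ b w w = 0 → ∀ X, conL σ u0 X = 0 → con σ w (g X) = 0 → conL σ u0 (g X) = 0)
    (hF : ∀ X, conL σ u0 X = 0 → conL σ u0 (g X) = 0 → g X = X) (X : Mat a b F) (hX : conL σ u0 X = 0) :
    conL σ u0 (g X) = 0 := by
  have hSa := stB_symm hσ2 a
  have hSb := stB_symm hσ2 b
  by_contra hr
  set r := conL σ u0 (g X) with hr_def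
  -- the subspaces
  let P : Submodule F (Mat a b F) := LinearMap.ker (conL σ u0)
  let Z : Submodule F (Mat a b F) := P ⊓ LinearMap.ker (conL σ u0 ∘ₗ (g : Mat a b F →ₗ[F] Mat a b F))
  let Pw : (Fin b → F) → Submodule F (Mat a b F) := fun w => P ⊓ LinearMap.ker (con σ w)
  have hP : ∀ Y, Y ∈ P ↔ conL σ u0 Y = 0 := fun Y => LinearMap.mem_ker
  have hZ : ∀ Y, Y ∈ Z ↔ conL σ u0 Y = 0 ∧ conL σ u0 (g Y) = 0 := fun Y => Iff.rfl
  have hPw : ∀ w Y, Y ∈ Pw w ↔ conL σ u0 Y = 0 ∧ con σ w Y = 0 := fun w Y => Iff.rfl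
  have hZP : Z ≤ P := inf_le_left
  have hPwP : ∀ w, Pw w ≤ P := fun w => inf_le_left
  -- (1)
  have h1 : ∀ w, w ≠ 0 → stB σ b w w = 0 → finrank F (Pw w) ≤ finrank F (Z ⊓ Pw w : Submodule F (Mat a b F)) + 1 := by
    intro w hw0 hw
    obtain ⟨w', hww'⟩ := exists_one_std (σ := σ) hw0
    let f1 : P →ₗ[F] (Fin a → F) := con σ w ∘ₗ P.subtype
    let f2 : P →ₗ[F] (Fin a → F) := con σ w ∘ₗ (g : Mat a b F →ₗ[F] Mat a b F) ∘ₗ P.subtype
    have e1 : (LinearMap.ker f1).map P.subtype = Pw w := by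
      ext Y
      constructor
      · rintro ⟨Y', hY', rfl⟩
        exact ⟨Y'.2, hY'⟩
      · rintro ⟨h2, h3⟩
        exact ⟨⟨Y, h2⟩, h3, rfl⟩
    have e2 : (LinearMap.ker f2).map P.subtype ≤ Z ⊓ Pw w := by
      rintro _ ⟨Y, hY, rfl⟩
      have h2 : conL σ u0 (Y : Mat a b F) = 0 := Y.2
      have h3 : con σ w (g (Y : Mat a b F)) = 0 := hY
      have h4 := hN w hw0 hw _ h2 h3
      have h5 := hF _ h2 h4
      refine ⟨⟨h2, h4⟩, h2, ?_⟩
      rw [h5] at h3
      exact h3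
    have d1 := LinearMap.finrank_range_add_finrank_ker f1
    have d2 := LinearMap.finrank_range_add_finrank_ker f2
    have d3 : finrank F (LinearMap.ker f1) = finrank F (Pw w) := by
      rw [← e1, Submodule.finrank_map_subtype_eq]
    have d4 : finrank F (LinearMap.ker f2) ≤ finrank F (Z ⊓ Pw w : Submodule F (Mat a b F)) := by
      rw [← Submodule.finrank_map_subtype_eq]
      exact Submodule.finrank_mono e2
    have d5 : finrank F (LinearMap.range f2) ≤ a := by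
      have := Submodule.finrank_le (LinearMap.range f2)
      rwa [finrank_fin_fun] at this
    have d6 : a ≤ finrank F (LinearMap.range f1) + 1 := by
      have h2 := finrank_perp_one (B := stB σ a) u0
      rw [finrank_fin_fun] at h2
      have h3 : perp (stB σ a) {u0} ≤ LinearMap.range f1 := by
        intro e he
        have he' : stB σ a u0 e = 0 := he u0 rfl
        refine ⟨⟨vecMulVec e w', ?_⟩, ?_⟩
        · rw [hP, conL_pure, he', zero_smul]
        · show con σ w (vecMulVec e w') = e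
          rw [con_pure, hww', one_smul]
      have h4 := Submodule.finrank_mono h3
      omega
    omega
  have h1' : ∀ w, w ≠ 0 → stB σ b w w = 0 → finrank F (Z ⊔ Pw w : Submodule F (Mat a b F)) ≤ finrank F Z + 1 := by
    intro w hw0 hw
    have h2 := Submodule.finrank_sup_add_finrank_inf_eq Z (Pw w)
    have h3 := h1 w hw0 hw
    omega
  -- (2)
  have h2 : ∀ w, w ≠ 0 → stB σ b w w = 0 → stB σ b w r = 0 → ¬ P ≤ Z ⊔ Pw w := by
    intro w hw0 hw hwr hle
    obtain ⟨w', hww'⟩ := exists_one_std (σ := σ) hw0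
    have he : stB σ a u0 (con σ w (g X)) = 0 := by rw [← stB_conL, ← hr_def, hwr]
    have hX' : vecMulVec (con σ w (g X)) w' ∈ P := by rw [hP, conL_pure, he, zero_smul]
    obtain ⟨Y, hY, Y', hY', e⟩ := Submodule.mem_sup.mp (hle hX')
    rw [hZ] at hY
    rw [hPw] at hY'
    have hgY := hF Y hY.1 hY.2
    have h3 : con σ w Y = con σ w (g X) := by
      have h4 := congrArg (con σ w) e
      rw [map_add, hY'.2, add_zero, con_pure, hww', one_smul] at h4
      exact h4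
    have h5 := hN w hw0 hw (X - Y) (by rw [map_sub, hX, hY.1, sub_self]) (by
      rw [map_sub, map_sub, hgY, h3, sub_self])
    rw [map_sub, map_sub, hY.2, sub_zero] at h5
    exact hr h5
  -- the three isotropic vectors
  have hdr := finrank_perp_one (B := stB σ b) r
  rw [finrank_fin_fun] at hdr
  obtain ⟨w1, hw1r, hw10, hw1⟩ := exists_isotropic (B := stB σ b) hσ hσ2 hSb (perp (stB σ b) {r}) (by omega)
  obtain ⟨v1, hw1v1⟩ := exists_one_std (σ := σ) hw10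
  have hd2 := finrank_perp_range (B := stB σ b) ![r, v1]
  rw [finrank_fin_fun, Fintype.card_fin] at hd2
  obtain ⟨w2, hw2r, hw20, hw2⟩ := exists_isotropic (B := stB σ b) hσ hσ2 hSb (perp (stB σ b) (Set.range ![r, v1]))
    (by omega)
  have hw2v1 : stB σ b w2 v1 = 0 := symm_zero hSb (hw2r _ ⟨1, rfl⟩)
  obtain ⟨v2', hw2v2'⟩ := exists_one_std (σ := σ) hw20
  obtain ⟨v2, hw1v2, hw2v2⟩ : ∃ v2, stB σ b w1 v2 = 0 ∧ stB σ b w2 v2 = 1 := by
    refine ⟨v2' - stB σ b w1 v2' • v1, ?_, ?_⟩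
    · rw [map_sub, map_smul, hw1v1, smul_eq_mul, mul_one, sub_self]
    · rw [map_sub, map_smul, hw2v1, smul_zero, sub_zero, hw2v2']
  have hd3 := finrank_perp_range (B := stB σ b) ![v1, v2]
  rw [finrank_fin_fun, Fintype.card_fin] at hd3
  obtain ⟨w3, hw3r, hw30, hw3⟩ := exists_isotropic (B := stB σ b) hσ hσ2 hSb (perp (stB σ b) (Set.range ![v1, v2]))
    (by omega)
  have hw3v1 : stB σ b w3 v1 = 0 := symm_zero hSb (hw3r _ ⟨0, rfl⟩)
  have hw3v2 : stB σ b w3 v2 = 0 := symm_zero hSb (hw3r _ ⟨1, rfl⟩)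
  have hcP : ∀ w v Y, Y ∈ P → vecMulVec (con σ w Y) v ∈ P := by
    intro w v Y hY
    rw [hP] at hY ⊢
    rw [conL_pure, ← stB_conL, hY, map_zero, zero_smul]
  have s12 : ∀ w w', stB σ b w v1 = 1 → stB σ b w' v1 = 0 → P ≤ Pw w ⊔ Pw w' := by
    intro w w' hw hw' Y hY
    refine Submodule.mem_sup.mpr ⟨Y - vecMulVec (con σ w Y) v1, ⟨P.sub_mem hY (hcP _ _ _ hY), ?_⟩,
      vecMulVec (con σ w Y) v1, ⟨hcP _ _ _ hY, ?_⟩, by abel⟩
    · show con σ w _ = 0
      rw [map_sub, con_pure, hw, one_smul, sub_self]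
    · show con σ w' _ = 0
      rw [con_pure, hw', zero_smul]
  have s3 : Pw w1 ≤ (Pw w1 ⊓ Pw w2) ⊔ (Pw w1 ⊓ Pw w3) := by
    intro Y hY
    refine Submodule.mem_sup.mpr ⟨Y - vecMulVec (con σ w2 Y) v2, ⟨⟨P.sub_mem hY.1 (hcP _ _ _ hY.1), ?_⟩,
      ⟨P.sub_mem hY.1 (hcP _ _ _ hY.1), ?_⟩⟩, vecMulVec (con σ w2 Y) v2, ⟨⟨hcP _ _ _ hY.1, ?_⟩,
      ⟨hcP _ _ _ hY.1, ?_⟩⟩, by abel⟩
    · show con σ w1 _ = 0
      have : con σ w1 Y = 0 := hY.2
      rw [map_sub, con_pure, hw1v2, zero_smul, sub_zero, this]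
    · show con σ w2 _ = 0
      rw [map_sub, con_pure, hw2v2, one_smul, sub_self]
    · show con σ w1 _ = 0
      rw [con_pure, hw1v2, zero_smul]
    · show con σ w3 _ = 0
      rw [con_pure, hw3v2, zero_smul]
  -- the lattice argument
  let N : (Fin b → F) → Submodule F (Mat a b F) := fun w => Z ⊔ Pw w
  have hNP : ∀ w, N w ≤ P := fun w => sup_le hZP (hPwP w)
  have hZN : ∀ w, Z ≤ N w := fun w => le_sup_left
  have d1 := h1' w1 hw10 hw1
  have d2 := h1' w2 hw20 hw2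
  have d3 := h1' w3 hw30 hw3
  have t1 := h2 w1 hw10 hw1 (symm_zero hSb (hw1r r rfl))
  have t2 := h2 w2 hw20 hw2 (symm_zero hSb (hw2r r ⟨0, rfl⟩))
  have hN12 : N w1 ⊔ N w2 = P := le_antisymm (sup_le (hNP _) (hNP _))
    ((s12 w1 w2 hw1v1 hw2v1).trans (sup_le_sup le_sup_right le_sup_right))
  have hN13 : N w1 ⊔ N w3 = P := le_antisymm (sup_le (hNP _) (hNP _))
    ((s12 w1 w3 hw1v1 hw3v1).trans (sup_le_sup le_sup_right le_sup_right))
  have e12 := Submodule.finrank_sup_add_finrank_inf_eq (N w1) (N w2)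
  have e13 := Submodule.finrank_sup_add_finrank_inf_eq (N w1) (N w3)
  rw [hN12] at e12
  rw [hN13] at e13
  -- `N w1 ≠ Z`
  have hne1 : finrank F Z < finrank F (N w1) := by
    apply Submodule.finrank_lt_finrank_of_lt
    refine lt_of_le_of_ne (hZN _) fun h => t2 ?_
    have h3 : N w1 ≤ N w2 := by rw [← h]; exact hZN _
    rw [← hN12, sup_eq_right.mpr h3]
  have hlt2 : finrank F (N w2) < finrank F P := by
    apply Submodule.finrank_lt_finrank_of_lt
    refine lt_of_le_of_ne (hNP _) fun h => t2 ?_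
    rw [← h]
  have hi12 : Z ≤ N w1 ⊓ N w2 := le_inf (hZN _) (hZN _)
  have hi13 : Z ≤ N w1 ⊓ N w3 := le_inf (hZN _) (hZN _)
  have hlt1 : finrank F (N w1) < finrank F P := by
    apply Submodule.finrank_lt_finrank_of_lt
    refine lt_of_le_of_ne (hNP _) fun h => t1 ?_
    rw [← h]
  have f12 := Submodule.finrank_mono hi12
  have f13 := Submodule.finrank_mono hi13
  change finrank F (N w1) ≤ _ at d1
  change finrank F (N w2) ≤ _ at d2
  change finrank F (N w3) ≤ _ at d3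
  have g12 : N w1 ⊓ N w2 = Z := (Submodule.eq_of_le_of_finrank_le hi12 (by omega)).symm
  have g13 : N w1 ⊓ N w3 = Z := (Submodule.eq_of_le_of_finrank_le hi13 (by omega)).symm
  have k1 : Pw w1 ≤ Z := by
    refine s3.trans (sup_le ?_ ?_)
    · rw [← g12]; exact inf_le_inf le_sup_right le_sup_right
    · rw [← g13]; exact inf_le_inf le_sup_right le_sup_right
  have k2 : N w1 = Z := sup_eq_left.mpr k1
  rw [k2] at hne1
  exact lt_irrefl _ hne1

theorem exists_ker_pure (hab : a < b) (f : Mat a b F →ₗ[F] (Fin a → F)) (u : Fin a → F) :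
    ∃ x : Fin b → F, x ≠ 0 ∧ f (vecMulVec u x) = 0 := by
  by_contra hcon
  push Not at hcon
  have hinj : Function.Injective (f ∘ₗ pureR u) := by
    rw [← LinearMap.ker_eq_bot, LinearMap.ker_eq_bot']
    intro v hv
    by_contra h0
    exact hcon v h0 hv
  have := LinearMap.finrank_le_finrank_of_injective hinj
  rw [finrank_fin_fun, finrank_fin_fun] at this
  omega

theorem isotropic_tens {h : Mat a b F ≃ₗ[F] Mat a b F} (hi : ∀ X Y, BV σ a b (h X) (h Y) = BV σ a b X Y)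
    (ha : 1 ≤ a) {y : (Fin a → F) ≃ₗ[F] (Fin a → F)} {z : (Fin b → F) ≃ₗ[F] (Fin b → F)}
    (hyz : ∀ u v, h (vecMulVec u v) = vecMulVec (y u) (z v)) {w : Fin b → F} (hw : stB σ b w w = 0) :
    stB σ b (z w) (z w) = 0 := by
  have h1 := hi (vecMulVec (y.symm (Pi.single (⟨0, ha⟩ : Fin a) 1)) w)
    (vecMulVec (y.symm (Pi.single (⟨0, ha⟩ : Fin a) 1)) w)
  rw [hyz, BV_pure, BV_pure, hw, mul_zero, LinearEquiv.apply_symm_apply, stB_single_left, Pi.single_eq_same,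
    one_mul] at h1
  exact h1

variable {M : Subgroup (Mat a b F ≃ₗ[F] Mat a b F)}

/-- **The case `b = a + 1`.** -/
theorem adj_main (hσ : σ ≠ RingHom.id F) (hσ2 : ∀ x : F, σ (σ x) = x) (ha : 3 ≤ a) (hab : b = a + 1)
    (hM : Over σ M)
    (hK : ∀ w : Fin b → F, w ≠ 0 → stB σ b w w = 0 → ∀ κ : (Fin a → F) →ₗ[F] (Fin a → F), InK σ M w κ →
      ∃ c : F, ∀ x, κ x = c • x)
    (hK' : ∀ u : Fin a → F, u ≠ 0 → stB σ a u u = 0 → ∀ κ : (Fin b → F) →ₗ[F] (Fin b → F), InK σ (trM M) u κ →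
      ∃ c : F, ∀ x, κ x = c • x)
    {g : Mat a b F ≃ₗ[F] Mat a b F} (hg : g ∈ M) : IsTens g := by
  have hSa := stB_symm hσ2 a
  have hSb := stB_symm hσ2 b
  have hlt : a < b := by omega
  have hb : 4 ≤ b := by omega
  let D : Set (Mat a b F ≃ₗ[F] Mat a b F) := {s | s ∈ tensM M ∧
    ((∃ w l, w ≠ 0 ∧ stB σ b w w = 0 ∧ l ≠ 0 ∧ IsRT σ w l s) ∨
      (∃ u l, u ≠ 0 ∧ stB σ a u u = 0 ∧ l ≠ 0 ∧ IsCT σ u l s))}
  have hD : ∀ s ∈ D, s ∈ tensM M ∧ ∀ X, s (s X - X) = s X - X := by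
    rintro s ⟨hs, hs2⟩
    refine ⟨hs, fun X => ?_⟩
    rcases hs2 with ⟨w, l, _, hw, _, hrt⟩ | ⟨u, l, _, hu, _, hct⟩
    · rw [hrt X, add_sub_cancel_left, hrt, con_pure, hw, zero_smul, smul_zero, zero_pure, add_zero]
    · rw [hct X, add_sub_cancel_left, hct, trE_pure, con_pure, hu, zero_smul, smul_zero, pure_zero, add_zero]
  have hTI : ∀ s ∈ D, ∀ g ∈ M, IsTens (g * s * g⁻¹) → IsTens g := by
    rintro s ⟨_, hs2⟩ g hg h
    rcases hs2 with ⟨w, l, hw0, hw, hl0, hrt⟩ | ⟨u, l, hu0, hu, hl0, hct⟩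
    · exact ti_row hσ hσ2 (by omega) hlt (by omega) hM hK hw0 hw hl0 hrt hg h
    · exact ti_col hσ hσ2 ha hab hM hK' hu0 hu hl0 hct hg h
  obtain ⟨l, hl0, hl⟩ := exists_skew hσ hσ2
  obtain ⟨u0, _, hu00, hu0⟩ := exists_isotropic (B := stB σ a) hσ hσ2 hSa ⊤ (by rw [finrank_top, finrank_fin_fun]; omega)
  obtain ⟨w0, _, hw00, hw0⟩ := exists_isotropic (B := stB σ b) hσ hσ2 hSb ⊤ (by rw [finrank_top, finrank_fin_fun]; omega)
  obtain ⟨t, htM, htt, ht⟩ := exists_ct hσ2 hM hu0 hl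
  have htD : t ∈ D := ⟨⟨htM, htt⟩, Or.inr ⟨u0, l, hu00, hu0, hl0, ht⟩⟩
  have htfix : ∀ X, conL σ u0 X = 0 → t X = X := by
    intro X hX
    have h1 : con σ u0 (trE a b F X) = 0 := hX
    rw [ht, h1, smul_zero, pure_zero, add_zero]
  -- transfer for pairs (`u0`, `w`)
  have hpair : ∀ g ∈ M, ∀ w, w ≠ 0 → stB σ b w w = 0 → ∃ h ∈ tensM M, ∀ X, conL σ u0 X = 0 → con σ w (g X) = 0 →
      g X = h X := by
    intro g hg w hwn0 hw
    obtain ⟨s, hsM, hst, hs⟩ := exists_rt hσ2 hM hw hl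
    obtain ⟨h, hh, hhg⟩ := transfer hD hTI (s := s) (t := t) ⟨⟨hsM, hst⟩, Or.inl ⟨w, l, hwn0, hw, hl0, hs⟩⟩ htD hg
      {X | conL σ u0 X = 0 ∧ con σ w (g X) = 0} (fun X hX => htfix X hX.1) (fun X hX => by
        rw [hs, hX.2, smul_zero, zero_pure, add_zero])
    exact ⟨h, hh, fun X h1 h2 => hhg X ⟨h1, h2⟩⟩
  obtain ⟨h0, hh0, hh0g⟩ := hpair g hg w0 hw00 hw0
  obtain ⟨y0, z0, hyz0⟩ := hh0.2
  have hh0i := hM.iso h0 hh0.1
  -- common image of `u0`
  have hcl : ∀ w, w ≠ 0 → stB σ b w w = 0 → ∀ X, conL σ u0 X = 0 → con σ w (g X) = 0 →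
      conL σ (y0 u0) (g X) = 0 := by
    intro w hwn0 hw X hX hwX
    obtain ⟨h, hh, hhg⟩ := hpair g hg w hwn0 hw
    obtain ⟨y, z, hyz⟩ := hh.2
    have hhi := hM.iso h hh.1
    have hu0x : ∀ x : Fin b → F, conL σ u0 (vecMulVec u0 x) = 0 := fun x => by rw [conL_pure, hu0, zero_smul]
    obtain ⟨x1, hx10, hx1⟩ := exists_ker_pure hlt (con σ w0 ∘ₗ (g : Mat a b F →ₗ[F] Mat a b F)) u0
    obtain ⟨x2, hx20, hx2⟩ := exists_ker_pure hlt (con σ w ∘ₗ (g : Mat a b F →ₗ[F] Mat a b F)) u0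
    have e1 : g (vecMulVec u0 x1) = vecMulVec (y0 u0) (z0 x1) := by rw [hh0g _ (hu0x x1) hx1, hyz0]
    have e2 : g (vecMulVec u0 x2) = vecMulVec (y u0) (z x2) := by rw [hhg _ (hu0x x2) hx2, hyz]
    have hd := finrank_perp_range (B := stB σ b) ![z0 x1, z x2]
    rw [finrank_fin_fun, Fintype.card_fin] at hd
    obtain ⟨w3, hw3r, hw30, hw3⟩ := exists_isotropic (B := stB σ b) hσ hσ2 hSb
      (perp (stB σ b) (Set.range ![z0 x1, z x2])) (by omega)
    have k1 : stB σ b w3 (z0 x1) = 0 := symm_zero hSb (hw3r _ ⟨0, rfl⟩)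
    have k2 : stB σ b w3 (z x2) = 0 := symm_zero hSb (hw3r _ ⟨1, rfl⟩)
    obtain ⟨h3, hh3, hh3g⟩ := hpair g hg w3 hw30 hw3
    obtain ⟨y3, z3, hyz3⟩ := hh3.2
    have f1 : vecMulVec (y0 u0) (z0 x1) = vecMulVec (y3 u0) (z3 x1) := by
      rw [← hyz3, ← hh3g _ (hu0x x1) (by rw [e1, con_pure, k1, zero_smul]), e1]
    have f2 : vecMulVec (y3 u0) (z3 x2) = vecMulVec (y u0) (z x2) := by
      rw [← hyz3, ← hh3g _ (hu0x x2) (by rw [e2, con_pure, k2, zero_smul]), e2]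
    obtain ⟨c1, hc1⟩ := pure_eq_pure f1 ((LinearEquiv.map_ne_zero_iff z0).mpr hx10)
    obtain ⟨c2, hc2⟩ := pure_eq_pure f2 ((LinearEquiv.map_ne_zero_iff z3).mpr hx20)
    rw [hc1, hc2, conL_smul, conL_smul, hhg X hX hwX, (conL_tens hhi hyz u0 X).mpr hX, smul_zero, smul_zero]
  -- first normalisation
  set g1 := h0⁻¹ * g with hg1_def
  have hg1 : g1 ∈ M := M.mul_mem (M.inv_mem hh0.1) hg
  have hh0g1 : ∀ X, h0 (g1 X) = g X := fun X => h0.apply_symm_apply (g X)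
  have hN1 : ∀ w, w ≠ 0 → stB σ b w w = 0 → ∀ X, conL σ u0 X = 0 → con σ w (g1 X) = 0 → conL σ u0 (g1 X) = 0 := by
    intro w hwn0 hw X hX hwX
    have h1 := (con_tens hh0i hyz0 w (g1 X)).mpr hwX
    rw [hh0g1] at h1
    have h2 := hcl (z0 w) ((LinearEquiv.map_ne_zero_iff z0).mpr hwn0) (isotropic_tens hh0i (by omega) hyz0 hw) X hX h1
    rw [← hh0g1] at h2
    exact (conL_tens hh0i hyz0 u0 (g1 X)).mp h2
  -- second normalisation
  obtain ⟨h, hh, hhg⟩ := transfer hD hTI (s := t) (t := t) htD htD hg1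
      {X | conL σ u0 X = 0 ∧ conL σ u0 (g1 X) = 0} (fun X hX => htfix X hX.1) (fun X hX => htfix _ hX.2)
  obtain ⟨y, z, hyz⟩ := hh.2
  have hhi := hM.iso h hh.1
  have hyE : ∀ u, stB σ a u0 u = 0 → stB σ a u0 (y u) = 0 := by
    intro u hu
    obtain ⟨x, hx0, hx⟩ := exists_ker_pure hlt (con σ w0 ∘ₗ (g1 : Mat a b F →ₗ[F] Mat a b F)) u
    have h1 : conL σ u0 (vecMulVec u x) = 0 := by rw [conL_pure, hu, zero_smul]
    have h2 := hN1 w0 hw00 hw0 _ h1 hx
    have h3 : g1 (vecMulVec u x) = vecMulVec (y u) (z x) := by rw [hhg _ ⟨h1, h2⟩, hyz]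
    rw [h3, conL_pure] at h2
    exact (smul_eq_zero.mp h2).resolve_right ((LinearEquiv.map_ne_zero_iff z).mpr hx0)
  obtain ⟨u1, hu1⟩ := exists_one_std (σ := σ) hu00
  have hyc : ∀ u, stB σ a u0 (y u) = stB σ a u0 (y u1) * stB σ a u0 u := by
    intro u
    have h1 := hyE (u - stB σ a u0 u • u1) (by rw [map_sub, map_smul, hu1, smul_eq_mul, mul_one, sub_self])
    rw [map_sub, map_smul, map_sub, map_smul, smul_eq_mul] at h1
    linear_combination h1
  have hc0 : stB σ a u0 (y u1) ≠ 0 := by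
    intro h0
    apply hu00
    apply stB_sepLeft (σ := σ) a
    intro u
    obtain ⟨u', rfl⟩ := y.surjective u
    rw [hyc, h0, zero_mul]
  set c := stB σ a u0 (y u1)
  have hcz : ∀ X, conL σ u0 (h X) = c • z (conL σ u0 X) := by
    intro X
    have h1 : conL σ u0 ∘ₗ (h : Mat a b F →ₗ[F] Mat a b F) =
        c • ((z : (Fin b → F) →ₗ[F] (Fin b → F)) ∘ₗ conL σ u0) := by
      apply ext_pure
      intro u v
      show conL σ u0 (h (vecMulVec u v)) = c • z (conL σ u0 (vecMulVec u v))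
      rw [hyz, conL_pure, conL_pure, hyc, map_smul, smul_smul]
    exact LinearMap.congr_fun h1 X
  set g2 := h⁻¹ * g1 with hg2_def
  have hg2 : g2 ∈ M := M.mul_mem (M.inv_mem hh.1) hg1
  have hhg2 : ∀ X, h (g2 X) = g1 X := fun X => h.apply_symm_apply (g1 X)
  have hN2 : ∀ w, w ≠ 0 → stB σ b w w = 0 → ∀ X, conL σ u0 X = 0 → con σ w (g2 X) = 0 → conL σ u0 (g2 X) = 0 := by
    intro w hwn0 hw X hX hwX
    have h1 := (con_tens hhi hyz w (g2 X)).mpr hwX
    rw [hhg2] at h1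
    have h2 := hN1 (z w) ((LinearEquiv.map_ne_zero_iff z).mpr hwn0) (isotropic_tens hhi (by omega) hyz hw) X hX h1
    rw [← hhg2, hcz] at h2
    exact (LinearEquiv.map_eq_zero_iff z).mp ((smul_eq_zero.mp h2).resolve_left hc0)
  have hF2 : ∀ X, conL σ u0 X = 0 → conL σ u0 (g2 X) = 0 → g2 X = X := by
    intro X hX h2
    have h3 : conL σ u0 (g1 X) = 0 := by rw [← hhg2, hcz, h2, map_zero, smul_zero]
    apply h.injective
    rw [hhg2]
    exact hhg X ⟨hX, h3⟩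
  have hfix : ∀ v, g2 (vecMulVec u0 v) = vecMulVec u0 v := by
    intro v
    have h1 : conL σ u0 (vecMulVec u0 v) = 0 := by rw [conL_pure, hu0, zero_smul]
    exact hF2 _ h1 (adj_lattice hσ hσ2 hb hN2 hF2 _ h1)
  have hfin : IsTens (conT g2) := by
    refine claimD hσ hσ2 (by omega) ha hM.tr hu00 hu0 (hK' u0 hu00 hu0) hg2 (LinearEquiv.refl F _) fun v => ?_
    show trE a b F (g2 (trE b a F (vecMulVec v u0))) = _
    rw [trE_pure, hfix, trE_pure]
    rfl
  have h5 := conT_isTens hfin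
  rw [conT_conT] at h5
  have e1 : g1 = h * g2 := by rw [hg2_def, mul_inv_cancel_left]
  have e0 : g = h0 * g1 := by rw [hg1_def, mul_inv_cancel_left]
  rw [e0, e1]
  exact hh0.2.mul (hh.2.mul h5)

end Adj

end Cfsg.Agent.H880
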