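import Cfsg.Agent.H880.UGen

/-!
Elementary special isometries (transvections, Siegel elements) of hermitian spaces and the calculus of the elements
`X ↦ X + κ(con w X) ⊗ w` of an overgroup `M` of the tensor stabiliser (`InK`).
-/

set_option autoImplicit false
set_option linter.unusedSectionVars false

namespace Cfsg.Agent.H880

open Module Cfsg.Agent.ClassicalGeometry Matrix

section Elem

variable {F : Type*} [Field F] {σ : F →+* F} [Finite F] {V : Type*} [AddCommGroup V] [Module F V]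
  [FiniteDimensional F V] {B : V →ₛₗ[σ] V →ₗ[F] F}

/-- Unitary transvections. -/
theorem exists_tv (hS : B.IsSymm) {v : V} (hv : B v v = 0) {l : F} (hl : l + σ l = 0) :
    ∃ t : V ≃ₗ[F] V, (∀ x, t x = x + (l * B v x) • v) ∧ (∀ x, t.symm x = x - (l * B v x) • v) ∧
      (∀ x y, B (t x) (t y) = B x y) ∧ LinearMap.det (t : V →ₗ[F] V) = 1 := by
  let f : F → V →ₗ[F] V := fun c => LinearMap.id + c • (B v).smulRight v
  have hf : ∀ c x, f c x = x + (c * B v x) • v := fun c x => by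
    show x + c • (B v x • v) = _
    rw [smul_smul]
  have hBf : ∀ c x, B v (f c x) = B v x := fun c x => by
    rw [hf, map_add, map_smul, hv, smul_zero, add_zero]
  have h1 : ∀ c x, f c (f (-c) x) = x := by
    intro c x
    rw [hf, hBf, hf, add_assoc, ← add_smul]
    have : -c * B v x + c * B v x = 0 := by ring
    rw [this, zero_smul, add_zero]
  have e1 : f l ∘ₗ f (-l) = LinearMap.id := LinearMap.ext (h1 l)
  have e2 : f (-l) ∘ₗ f l = LinearMap.id := LinearMap.ext fun x => by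
    have := h1 (-l) x
    rw [neg_neg] at this
    exact this
  refine ⟨LinearEquiv.ofLinear (f l) (f (-l)) e1 e2, fun x => hf l x, fun x => ?_, fun x y => ?_, ?_⟩
  · show f (-l) x = _
    rw [hf, neg_mul, neg_smul, sub_eq_add_neg]
  · show B (f l x) (f l y) = _
    rw [hf, hf]
    simp only [map_add, LinearMap.add_apply, LinearMap.map_smulₛₗ₂, map_smul, smul_eq_mul, hv, mul_zero, add_zero,
      map_mul, hS.eq]
    linear_combination (B x v * B v y) * hl
  · show LinearMap.det (f l) = 1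
    apply det_eq_one_of_nilpotent (k := 2)
    ext x
    show f l (f l x - x) - (f l x - x) = 0
    have h2 : f l x - x = (l * B v x) • v := by rw [hf, add_sub_cancel_left]
    rw [h2, hf, map_smul, hv, smul_zero, mul_zero, zero_smul, add_zero, sub_self]

/-- Siegel elements. -/
theorem exists_siegel (hS : B.IsSymm) {u x : V} (hu : B u u = 0) (hux : B u x = 0) {ν : F}
    (hν : ν + σ ν = B x x) :
    ∃ t : V ≃ₗ[F] V, (∀ v, t v = v + B u v • x - (B x v + ν * B u v) • u) ∧
      (∀ x y, B (t x) (t y) = B x y) ∧ LinearMap.det (t : V →ₗ[F] V) = 1 := by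
  have hxu : B x u = 0 := symm_zero hS hux
  let f : V → F → V →ₗ[F] V := fun x ν => LinearMap.id + (B u).smulRight x - (B x + ν • B u).smulRight u
  have hf : ∀ x ν v, f x ν v = v + B u v • x - (B x v + ν * B u v) • u := fun x ν v => rfl
  have h1 : ∀ x ν ν', B u x = 0 → B x u = 0 → ν + ν' = B x x → ∀ v, f x ν (f (-x) ν' v) = v := by
    intro x ν ν' hux hxu hνν' v
    have e1 : B u (f (-x) ν' v) = B u v := by
      rw [hf, map_sub, map_add, map_smul, map_smul, map_neg, hux, hu]; simp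
    have e2 : B x (f (-x) ν' v) = B x v - B u v * B x x := by
      rw [hf, map_sub, map_add, map_smul, map_smul, map_neg, hxu, smul_zero, smul_eq_mul]; ring
    rw [hf, e1, e2, hf, map_neg, LinearMap.neg_apply, smul_neg, ← hνν']
    module
  have e1 : f x ν ∘ₗ f (-x) (σ ν) = LinearMap.id := LinearMap.ext (h1 x ν (σ ν) hux hxu hν)
  have e2 : f (-x) (σ ν) ∘ₗ f x ν = LinearMap.id := LinearMap.ext fun v => by
    have := h1 (-x) (σ ν) ν (by rw [map_neg, hux, neg_zero]) (by rw [map_neg, LinearMap.neg_apply, hxu, neg_zero])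
      (by rw [map_neg, map_neg, LinearMap.neg_apply, neg_neg, ← hν]; ring) v
    rw [neg_neg] at this
    exact this
  refine ⟨LinearEquiv.ofLinear (f x ν) (f (-x) (σ ν)) e1 e2, fun v => rfl, fun v v' => ?_, ?_⟩
  · show B (f x ν v) (f x ν v') = _
    rw [hf, hf]
    simp only [map_add, map_sub, LinearMap.add_apply, LinearMap.sub_apply, LinearMap.map_smulₛₗ₂, map_smul,
      smul_eq_mul, hu, hux, hxu, mul_zero, add_zero, sub_zero, map_mul, hS.eq]
    linear_combination (-(B v u * B u v')) * hν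
  · show LinearMap.det (f x ν) = 1
    apply det_eq_one_of_nilpotent (k := 3)
    ext v
    show f x ν (f x ν (f x ν v - v) - (f x ν v - v)) - (f x ν (f x ν v - v) - (f x ν v - v)) = 0
    have h2 : ∀ v, f x ν v - v = B u v • x - (B x v + ν * B u v) • u := fun v => by
      rw [hf]; abel
    have h4 : B u (f x ν v - v) = 0 := by
      rw [h2, map_sub, map_smul, map_smul, hux, hu, smul_zero, smul_zero, sub_zero]
    have h3 : ∀ v, f x ν (f x ν v - v) - (f x ν v - v) = -(B u v * B x x) • u := by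
      intro v
      rw [h2 (f x ν v - v), h2]
      simp only [map_sub, map_smul, hux, hu, hxu, smul_eq_mul, mul_zero, sub_zero]
      rw [zero_smul, zero_sub, add_zero, neg_smul]
    rw [h3, h4, zero_mul, neg_zero, zero_smul]

end Elem

section Con

variable {F : Type*} [Field F] {σ : F →+* F} {a b : ℕ}

theorem exists_one_std {n : ℕ} {w : Fin n → F} (hw : w ≠ 0) : ∃ w', stB σ n w w' = 1 := by
  obtain ⟨z, hz⟩ : ∃ z, stB σ n w z ≠ 0 := by
    by_contra h
    push Not at h
    exact hw (stB_sepLeft n w h)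
  exact ⟨(stB σ n w z)⁻¹ • z, by rw [map_smul, smul_eq_mul, inv_mul_cancel₀ hz]⟩

theorem con_surj {w : Fin b → F} (hw : w ≠ 0) (x : Fin a → F) : ∃ X : Mat a b F, con σ w X = x := by
  obtain ⟨w', hw'⟩ := exists_one_std (σ := σ) hw
  exact ⟨vecMulVec x w', by rw [con_pure, hw', one_smul]⟩

theorem con_rowE {z : (Fin b → F) ≃ₗ[F] (Fin b → F)} (hz : ∀ x y, stB σ b (z x) (z y) = stB σ b x y)
    (w : Fin b → F) (X : Mat a b F) : con σ (z w) (rowE a z X) = con σ w X := by
  funext i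
  rw [con_apply, con_apply, rowE_apply, hz]

theorem con_colE (y : (Fin a → F) ≃ₗ[F] (Fin a → F)) (w : Fin b → F) (X : Mat a b F) :
    con σ w (colE b y X) = y (con σ w X) := by
  have h : (con σ w).comp (colE b y : Mat a b F →ₗ[F] Mat a b F) = (y : (Fin a → F) →ₗ[F] (Fin a → F)).comp (con σ w) := by
    apply ext_pure
    intro u x
    show con σ w (colE b y (vecMulVec u x)) = y (con σ w (vecMulVec u x))
    rw [colE_pure, con_pure, con_pure, map_smul]
  exact LinearMap.congr_fun h X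

/-- `con w X = 0` iff `X` is orthogonal to `U ⊗ w`. -/
theorem con_eq_zero_iff (w : Fin b → F) (X : Mat a b F) :
    con σ w X = 0 ↔ ∀ u, BV σ a b (vecMulVec u w) X = 0 := by
  constructor
  · intro h u
    rw [BV_pure_left, h, map_zero]
  · intro h
    apply stB_eq_of_forall (σ := σ)
    intro z
    rw [map_zero, ← BV_pure_left]
    exact h z

end Con

section InK

variable {F : Type*} [Field F] {σ : F →+* F} {a b : ℕ} {M : Subgroup (Mat a b F ≃ₗ[F] Mat a b F)}

/-- The element `X ↦ X + κ(con w X) ⊗ w` lies in `M`. -/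
def InK (σ : F →+* F) (M : Subgroup (Mat a b F ≃ₗ[F] Mat a b F)) (w : Fin b → F)
    (κ : (Fin a → F) →ₗ[F] (Fin a → F)) : Prop :=
  ∃ g ∈ M, ∀ X, g X = X + vecMulVec (κ (con σ w X)) w

theorem InK.add {w : Fin b → F} (hw : stB σ b w w = 0) {κ κ' : (Fin a → F) →ₗ[F] (Fin a → F)}
    (h : InK σ M w κ) (h' : InK σ M w κ') : InK σ M w (κ + κ') := by
  obtain ⟨g, hg, hgx⟩ := h
  obtain ⟨g', hg', hgx'⟩ := h'
  refine ⟨g * g', M.mul_mem hg hg', fun X => ?_⟩
  show g (g' X) = _
  rw [hgx, hgx', map_add, con_pure, hw, zero_smul, add_zero, LinearMap.add_apply, Matrix.add_vecMulVec]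
  abel

theorem InK.congr {w : Fin b → F} {κ κ' : (Fin a → F) →ₗ[F] (Fin a → F)}
    (h : InK σ M w κ) (e : ∀ x, κ' x = κ x) : InK σ M w κ' := by
  have : κ' = κ := LinearMap.ext e
  rw [this]; exact h

/-- Conjugation by `1 ⊗ z`. -/
theorem InK.row {w : Fin b → F} {κ : (Fin a → F) →ₗ[F] (Fin a → F)} (h : InK σ M w κ)
    {z : (Fin b → F) ≃ₗ[F] (Fin b → F)} (hz : ∀ x y, stB σ b (z x) (z y) = stB σ b x y) (hzM : rowE a z ∈ M) :
    InK σ M (z w) κ := by
  obtain ⟨g, hg, hgx⟩ := h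
  refine ⟨rowE a z * g * (rowE a z)⁻¹, M.mul_mem (M.mul_mem hzM hg) (M.inv_mem hzM), fun X => ?_⟩
  obtain ⟨Y, rfl⟩ := (rowE a z).surjective X
  show rowE a z (g ((rowE a z).symm (rowE a z Y))) = _
  rw [LinearEquiv.symm_apply_apply, hgx, map_add, rowE_pure, con_rowE hz]

/-- Conjugation by `y ⊗ 1`. -/
theorem InK.col {w : Fin b → F} {κ : (Fin a → F) →ₗ[F] (Fin a → F)} (h : InK σ M w κ)
    {y : (Fin a → F) ≃ₗ[F] (Fin a → F)} (hyM : colE b y ∈ M) :
    InK σ M w ((y : (Fin a → F) →ₗ[F] (Fin a → F)) ∘ₗ κ ∘ₗ (y.symm : (Fin a → F) →ₗ[F] (Fin a → F))) := by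
  obtain ⟨g, hg, hgx⟩ := h
  refine ⟨colE b y * g * (colE b y)⁻¹, M.mul_mem (M.mul_mem hyM hg) (M.inv_mem hyM), fun X => ?_⟩
  obtain ⟨Y, rfl⟩ := (colE b y).surjective X
  show colE b y (g ((colE b y).symm (colE b y Y))) = _
  rw [LinearEquiv.symm_apply_apply, hgx, map_add, colE_pure, con_colE]
  show _ = colE b y Y + vecMulVec (y (κ (y.symm (y (con σ w Y))))) w
  rw [LinearEquiv.symm_apply_apply]

/-- Scaling by norms. -/
theorem InK.smul [Finite F] (hσ : σ ≠ RingHom.id F) (hσ2 : ∀ x : F, σ (σ x) = x) (hb : 3 ≤ b) (hM : Over σ M)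
    {w : Fin b → F} (hw : stB σ b w w = 0) {κ : (Fin a → F) →ₗ[F] (Fin a → F)} (h : InK σ M w κ)
    {ρ : F} (hρ : σ ρ = ρ) : InK σ M w (ρ • κ) := by
  by_cases hρ0 : ρ = 0
  · subst hρ0
    refine ⟨1, M.one_mem, fun X => ?_⟩
    rw [zero_smul, LinearMap.zero_apply, zero_pure, add_zero]; rfl
  by_cases hw0 : w = 0
  · subst hw0
    refine ⟨1, M.one_mem, fun X => ?_⟩
    rw [pure_zero, add_zero]; rfl
  obtain ⟨c, hc0, hc⟩ := HermWitt.norm_surj σ hσ hσ2 ρ hρ hρ0
  obtain ⟨z, hz, hzd, hzw⟩ := exists_su hσ hσ2 hb hw0 (smul_ne_zero hc0 hw0) (by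
    rw [LinearMap.map_smulₛₗ₂, map_smul, hw, smul_zero, smul_zero])
  obtain ⟨g, hg, hgx⟩ := h.row hz (hM.rowE_mem hz hzd)
  refine ⟨g, hg, fun X => ?_⟩
  rw [hgx, hzw, con_smul, map_smul, LinearMap.smul_apply, Matrix.smul_vecMulVec, Matrix.vecMulVec_smul,
    Matrix.smul_vecMulVec, smul_smul, ← hc, mul_comm (σ c) c]

/-- The maps `κ` are skew. -/
theorem InK.skew (hσ2 : ∀ x : F, σ (σ x) = x) (hM : Over σ M) {w : Fin b → F} (hw0 : w ≠ 0)
    (hw : stB σ b w w = 0) {κ : (Fin a → F) →ₗ[F] (Fin a → F)} (h : InK σ M w κ) (x y : Fin a → F) :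
    stB σ a (κ x) y + stB σ a x (κ y) = 0 := by
  obtain ⟨g, hg, hgx⟩ := h
  obtain ⟨X, rfl⟩ := con_surj (σ := σ) hw0 x
  obtain ⟨Y, rfl⟩ := con_surj (σ := σ) hw0 y
  have h1 := hM.iso g hg X Y
  rw [hgx, hgx, map_add, map_add, LinearMap.add_apply, LinearMap.add_apply, BV_pure_left, BV_pure_right hσ2,
    BV_pure, hw, mul_zero, add_zero] at h1
  linear_combination h1

end InK

end Cfsg.Agent.H880
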