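import Cfsg.Agent.H880.UTrans

/-!
**Generation.** If `M` contains the tensor stabiliser and all unitary transvections with centres `u ⊗ w`, `u, w`
isotropic, then it contains all unitary transvections of `F^a ⊗ F^b` (`a ≥ 2`, `b ≥ 4`).
-/

set_option autoImplicit false

namespace Cfsg.Agent.H880

open Module Cfsg.Agent.ClassicalGeometry Matrix

section

variable {F : Type*} [Field F] {σ : F →+* F}

theorem pure_zero {a b : ℕ} (u : Fin a → F) : vecMulVec u (0 : Fin b → F) = (0 : Mat a b F) := by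
  ext i j; simp [vecMulVec_apply]

theorem zero_pure {a b : ℕ} (w : Fin b → F) : vecMulVec (0 : Fin a → F) w = (0 : Mat a b F) := by
  ext i j; simp [vecMulVec_apply]

/-- A non-zero isotropic vector has an isotropic partner. -/
theorem exists_partner [Finite F] {V : Type*} [AddCommGroup V] [Module F V] {B : V →ₛₗ[σ] V →ₗ[F] F}
    (hσ : σ ≠ RingHom.id F) (hσ2 : ∀ x : F, σ (σ x) = x) (hS : B.IsSymm) {v : V} (hv : B v v = 0)
    {z : V} (hz : B v z ≠ 0) : ∃ (c d : F), B v (c • z + d • v) = 1 ∧ B (c • z + d • v) (c • z + d • v) = 0 := by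
  obtain ⟨z', c, hz'c, hz'⟩ : ∃ z' c, z' = c • z ∧ B v z' = 1 :=
    ⟨(B v z)⁻¹ • z, _, rfl, by rw [map_smul, smul_eq_mul, inv_mul_cancel₀ hz]⟩
  have h1 : B z' v = 1 := by rw [← hS.eq, hz', map_one]
  obtain ⟨t, ht⟩ := HermWitt.trace_surj σ hσ hσ2 (-(B z' z')) (by rw [map_neg, hS.eq])
  refine ⟨c, t, ?_, ?_⟩
  · rw [← hz'c, map_add, map_smul, hv, hz', smul_zero, add_zero]
  · rw [← hz'c]
    simp only [map_add, LinearMap.add_apply, LinearMap.map_smulₛₗ₂, map_smul, smul_eq_mul, hv, hz', h1]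
    linear_combination ht

theorem exists_fix_ne (hσ : σ ≠ RingHom.id F) : ∃ p : F, σ p ≠ p := by
  by_contra h
  push Not at h
  exact hσ (RingHom.ext h)

/-- A non-zero element of trace zero. -/
theorem exists_skew (hσ : σ ≠ RingHom.id F) (hσ2 : ∀ x : F, σ (σ x) = x) : ∃ l : F, l ≠ 0 ∧ l + σ l = 0 := by
  obtain ⟨p, hp⟩ := exists_fix_ne hσ
  refine ⟨p - σ p, fun h => hp (sub_eq_zero.mp h).symm, ?_⟩
  rw [map_sub, hσ2]; ring

/-- A non-zero isotropic vector of `F^n` and an isotropic partner. -/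
theorem exists_partner_std [Finite F] {n : ℕ} (hσ : σ ≠ RingHom.id F) (hσ2 : ∀ x : F, σ (σ x) = x)
    {u : Fin n → F} (hu : u ≠ 0) (huu : stB σ n u u = 0) :
    ∃ u', stB σ n u u' = 1 ∧ stB σ n u' u' = 0 := by
  obtain ⟨z, hz⟩ : ∃ z, stB σ n u z ≠ 0 := by
    by_contra h
    push Not at h
    exact hu (stB_sepLeft n u h)
  obtain ⟨c, d, h1, h2⟩ := exists_partner hσ hσ2 (stB_symm hσ2 n) huu hz
  exact ⟨_, h1, h2⟩

/-- Two orthogonal hyperbolic pairs in `F^n`, `n ≥ 4`. -/
theorem exists_two_pairs [Finite F] {n : ℕ} (hσ : σ ≠ RingHom.id F) (hσ2 : ∀ x : F, σ (σ x) = x) (hn : 4 ≤ n) :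
    ∃ g₁ h₁ g₂ h₂ : Fin n → F, stB σ n g₁ g₁ = 0 ∧ stB σ n h₁ h₁ = 0 ∧ stB σ n g₂ g₂ = 0 ∧ stB σ n h₂ h₂ = 0 ∧
      stB σ n g₁ h₁ = 1 ∧ stB σ n g₂ h₂ = 1 ∧ stB σ n g₁ g₂ = 0 ∧ stB σ n g₁ h₂ = 0 ∧ stB σ n h₁ g₂ = 0 ∧
      stB σ n h₁ h₂ = 0 := by
  have hS := stB_symm hσ2 n
  obtain ⟨g₁, _, hg0, hg⟩ := exists_isotropic (B := stB σ n) hσ hσ2 hS ⊤ (by rw [finrank_top]; simp; omega)
  obtain ⟨h₁, hgh, hh⟩ := exists_partner_std hσ hσ2 hg0 hg
  have hhg : stB σ n h₁ g₁ = 1 := by rw [← hS.eq, hgh, map_one]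
  have hdim := finrank_perp_range (B := stB σ n) ![g₁, h₁]
  rw [Fintype.card_fin, finrank_fin_fun] at hdim
  obtain ⟨g₂, hg2, hg20, hg22⟩ := exists_isotropic (B := stB σ n) hσ hσ2 hS (perp (stB σ n) (Set.range ![g₁, h₁]))
    (by omega)
  have e1 : stB σ n g₁ g₂ = 0 := hg2 _ ⟨0, rfl⟩
  have e2 : stB σ n h₁ g₂ = 0 := hg2 _ ⟨1, rfl⟩
  have e1' : stB σ n g₂ g₁ = 0 := symm_zero hS e1
  have e2' : stB σ n g₂ h₁ = 0 := symm_zero hS e2
  obtain ⟨z, hz⟩ : ∃ z, stB σ n g₂ z ≠ 0 := by
    by_contra h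
    push Not at h
    exact hg20 (stB_sepLeft n g₂ h)
  obtain ⟨z', hz'1, hz'2, hz'3⟩ : ∃ z', stB σ n g₁ z' = 0 ∧ stB σ n h₁ z' = 0 ∧ stB σ n g₂ z' ≠ 0 := by
    refine ⟨z - stB σ n h₁ z • g₁ - stB σ n g₁ z • h₁, ?_, ?_, ?_⟩
    · simp only [map_sub, map_smul, hg, hgh, smul_eq_mul]; ring
    · simp only [map_sub, map_smul, hh, hhg, smul_eq_mul]; ring
    · simp only [map_sub, map_smul, e1', e2', smul_eq_mul, mul_zero, sub_zero]; exact hz
  obtain ⟨c, d, h1, h2⟩ := exists_partner hσ hσ2 hS hg22 hz'3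
  refine ⟨g₁, h₁, g₂, c • z' + d • g₂, hg, hh, hg22, h2, hgh, h1, e1, ?_, e2, ?_⟩
  · rw [map_add, map_smul, map_smul, hz'1, e1, smul_zero, smul_zero, add_zero]
  · rw [map_add, map_smul, map_smul, hz'2, e2, smul_zero, smul_zero, add_zero]

variable [Finite F] {a b : ℕ} {M : Subgroup (Mat a b F ≃ₗ[F] Mat a b F)}

/-- All pure tensors `u ⊗ w` with `u` isotropic are centres. -/
theorem gen_pure (hσ : σ ≠ RingHom.id F) (hσ2 : ∀ x : F, σ (σ x) = x) (hb : 4 ≤ b) (hM : Over σ M)
    (h0 : ∀ u w, stB σ a u u = 0 → stB σ b w w = 0 → HasT (BV σ a b) M (vecMulVec u w))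
    (u : Fin a → F) (hu : stB σ a u u = 0) (w : Fin b → F) : HasT (BV σ a b) M (vecMulVec u w) := by
  have hSa := stB_symm hσ2 a
  have hSb := stB_symm hσ2 b
  have hSV := BV_symm hσ2 a b
  by_cases hu0 : u = 0
  · subst hu0
    have h := h0 0 0 (by simp) (by simp)
    have e : vecMulVec (0 : Fin a → F) w = vecMulVec (0 : Fin a → F) (0 : Fin b → F) := by simp
    rw [e]; exact h
  by_cases hw : stB σ b w w = 0
  · exact h0 u w hu hw
  obtain ⟨u', huu', hu'⟩ := exists_partner_std hσ hσ2 hu0 hu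
  have hu'u : stB σ a u' u = 1 := by rw [← hSa.eq, huu', map_one]
  obtain ⟨g₁, h₁, g₂, h₂, eg1, eh1, eg2, eh2, eg1h1, eg2h2, eg1g2, eg1h2, eh1g2, eh1h2⟩ :=
    exists_two_pairs (σ := σ) (n := b) hσ hσ2 hb
  have eh1g1 : stB σ b h₁ g₁ = 1 := by rw [← hSb.eq, eg1h1, map_one]
  have eh2g2 : stB σ b h₂ g₂ = 1 := by rw [← hSb.eq, eg2h2, map_one]
  have eg2g1 := symm_zero hSb eg1g2
  have eh2g1 := symm_zero hSb eg1h2
  have eg2h1 := symm_zero hSb eh1g2
  have eh2h1 := symm_zero hSb eh1h2
  obtain ⟨l, hl0, hl⟩ := exists_skew hσ hσ2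
  obtain ⟨p, hp, hpl⟩ : ∃ p : F, σ p ≠ p ∧ l + p ≠ 0 := by
    obtain ⟨p, hp⟩ := exists_fix_ne hσ
    by_cases hpl : l + p = 0
    · refine ⟨p + 1, ?_, ?_⟩
      · rw [map_add, map_one]; intro h; exact hp (add_right_cancel h)
      · rw [← add_assoc, hpl, zero_add]; exact one_ne_zero
    · exact ⟨p, hp, hpl⟩
  have hσl : σ l = -l := by linear_combination hl
  obtain ⟨n, hn⟩ := HermWitt.trace_surj σ hσ hσ2 (-(stB σ b w w)) (by rw [map_neg, hSb.eq])
  -- form values of `u ⊗ x + u' ⊗ x'`
  have hval : ∀ x x' y y' : Fin b → F, BV σ a b (vecMulVec u x + vecMulVec u' x') (vecMulVec u y + vecMulVec u' y')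
      = stB σ b x y' + stB σ b x' y := by
    intro x x' y y'
    simp only [map_add, LinearMap.add_apply, BV_pure, hu, hu', huu', hu'u]
    ring
  -- sums of two pure tensors
  have hsum : ∀ x x', stB σ b x x = 0 → stB σ b x' x' = 0 → stB σ b x x' ≠ 0 → stB σ b x x' + stB σ b x' x = 0 →
      HasT (BV σ a b) M (vecMulVec u x + vecMulVec u' x') := by
    intro x x' hx hx' hne hxx'
    refine HasT.add hSV hM.iso (h0 u x hu hx) (h0 u' x' hu' hx') ?_ ?_
    · rw [BV_pure, hu'u, one_mul]
      intro h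
      exact hne (symm_zero hSb h)
    · rw [hval]; exact hxx'
  set ζ := σ p / l with hζ
  set β := p ^ 2 / l - l with hβ
  have hσζ : σ ζ = -(p / l) := by rw [hζ, map_div₀, hσ2, hσl, div_neg]
  -- first vector
  have hv : HasT (BV σ a b) M (vecMulVec u g₁ + vecMulVec u' (l • h₁)) := by
    apply hsum _ _ eg1
    · simp only [LinearMap.map_smulₛₗ₂, map_smul, eh1, smul_zero]
    · rw [map_smul, eg1h1, smul_eq_mul, mul_one]; exact hl0
    · rw [map_smul, LinearMap.map_smulₛₗ₂, eg1h1, eh1g1, smul_eq_mul, smul_eq_mul, mul_one, mul_one]; exact hl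
  -- second vector
  have hx : HasT (BV σ a b) M (vecMulVec u (ζ • g₁ + g₂) + vecMulVec u' (p • h₁ + β • h₂)) := by
    have hB : stB σ b (ζ • g₁ + g₂) (p • h₁ + β • h₂) = -l := by
      simp only [map_add, LinearMap.add_apply, LinearMap.map_smulₛₗ₂, map_smul, smul_eq_mul, eg1h1, eg1h2, eg2h1,
        eg2h2, hσζ, hβ]
      field_simp
      ring
    apply hsum
    · simp only [map_add, LinearMap.add_apply, LinearMap.map_smulₛₗ₂, map_smul, smul_eq_mul, eg1, eg1g2, eg2g1,
        eg2]
      ring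
    · simp only [map_add, LinearMap.add_apply, LinearMap.map_smulₛₗ₂, map_smul, smul_eq_mul, eh1, eh1h2, eh2h1,
        eh2]
      ring
    · rw [hB]; exact neg_ne_zero.mpr hl0
    · rw [← hSb.eq (ζ • g₁ + g₂), hB, map_neg, hσl]; ring
  -- the sum
  have hvx : HasT (BV σ a b) M (vecMulVec u ((1 + ζ) • g₁ + g₂) + vecMulVec u' ((l + p) • h₁ + β • h₂)) := by
    have hB : BV σ a b (vecMulVec u g₁ + vecMulVec u' (l • h₁))
        (vecMulVec u (ζ • g₁ + g₂) + vecMulVec u' (p • h₁ + β • h₂)) = p - σ p := by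
      rw [hval]
      simp only [map_add, LinearMap.map_smulₛₗ₂, map_smul, smul_eq_mul, eg1h1, eg1h2, eh1g1, eh1g2, hσl, hζ]
      field_simp
      ring
    have h1 := HasT.add hSV hM.iso hv hx (by
        rw [← hSV.eq, hB, map_sub, hσ2]
        exact sub_ne_zero.mpr hp) (by
        simp only [map_add _ (vecMulVec u g₁ + vecMulVec u' (l • h₁)), LinearMap.add_apply]
        rw [hv.1, hx.1, hB, ← hSV.eq (vecMulVec u g₁ + vecMulVec u' (l • h₁)), hB, map_sub, hσ2]
        ring)
    have e : vecMulVec u g₁ + vecMulVec u' (l • h₁) + (vecMulVec u (ζ • g₁ + g₂) + vecMulVec u' (p • h₁ + β • h₂))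
        = vecMulVec u ((1 + ζ) • g₁ + g₂) + vecMulVec u' ((l + p) • h₁ + β • h₂) := by
      rw [add_smul, add_smul, one_smul]
      simp only [Matrix.vecMulVec_add]
      abel
    rw [e] at h1
    exact h1
  -- the third vector
  set s := σ ((l + l * σ n * β) / (l + p)) with hs
  have hσs : σ s = (l + l * σ n * β) / (l + p) := by rw [hs, hσ2]
  have hy1 : stB σ b (s • g₁ + (l * n) • g₂ + n • h₂) (s • g₁ + (l * n) • g₂ + n • h₂) = 0 := by
    simp only [map_add, LinearMap.add_apply, LinearMap.map_smulₛₗ₂, map_smul, smul_eq_mul, eg1, eg1g2, eg1h2, eg2g1,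
      eg2, eg2h2, eh2g1, eh2g2, eh2, map_mul, hσl]
    ring
  have hy' : stB σ b ((l + p) • h₁ + β • h₂) ((l + p) • h₁ + β • h₂) = 0 := by
    simp only [map_add, LinearMap.add_apply, LinearMap.map_smulₛₗ₂, map_smul, smul_eq_mul, eh1, eh1h2, eh2h1, eh2]
    ring
  have hyy' : stB σ b (s • g₁ + (l * n) • g₂ + n • h₂) ((l + p) • h₁ + β • h₂) = l := by
    simp only [map_add, LinearMap.add_apply, LinearMap.map_smulₛₗ₂, map_smul, smul_eq_mul, eg1h1, eg1h2, eg2h1, eg2h2,
      eh2h1, eh2, map_mul, hσl, hσs]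
    field_simp
    ring
  have hv1 : HasT (BV σ a b) M (vecMulVec u (s • g₁ + (l * n) • g₂ + n • h₂) +
      vecMulVec u' ((l + p) • h₁ + β • h₂)) := by
    apply hsum _ _ hy1 hy'
    · rw [hyy']; exact hl0
    · rw [← hSb.eq (s • g₁ + (l * n) • g₂ + n • h₂), hyy']; exact hl
  have hyy0 : stB σ b ((1 + ζ) • g₁ + g₂) ((l + p) • h₁ + β • h₂) = 0 := by
    simp only [map_add, LinearMap.add_apply, LinearMap.map_smulₛₗ₂, map_smul, smul_eq_mul, eg1h1, eg1h2, eg2h1,
      eg2h2, hσζ, hβ, map_one]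
    field_simp
    ring
  -- the difference
  have hd := HasT.add hSV hM.iso hv1 (hvx.smul hσ2 (-1)) (by
      rw [LinearMap.map_smulₛₗ₂, hval, hyy0, zero_add, ← hSb.eq (s • g₁ + (l * n) • g₂ + n • h₂), hyy', map_neg,
        map_one, smul_eq_mul, hσl]
      intro h
      exact hl0 (by linear_combination h)) (by
      have e : vecMulVec u (s • g₁ + (l * n) • g₂ + n • h₂) + vecMulVec u' ((l + p) • h₁ + β • h₂) +
          (-1 : F) • (vecMulVec u ((1 + ζ) • g₁ + g₂) + vecMulVec u' ((l + p) • h₁ + β • h₂)) =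
          vecMulVec u ((s • g₁ + (l * n) • g₂ + n • h₂) - ((1 + ζ) • g₁ + g₂)) := by
        rw [neg_one_smul, Matrix.vecMulVec_sub]
        abel
      rw [e, BV_pure, hu, zero_mul])
  have e : vecMulVec u (s • g₁ + (l * n) • g₂ + n • h₂) + vecMulVec u' ((l + p) • h₁ + β • h₂) +
      (-1 : F) • (vecMulVec u ((1 + ζ) • g₁ + g₂) + vecMulVec u' ((l + p) • h₁ + β • h₂)) =
      vecMulVec u ((s • g₁ + (l * n) • g₂ + n • h₂) - ((1 + ζ) • g₁ + g₂)) := by
    rw [neg_one_smul, Matrix.vecMulVec_sub]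
    abel
  rw [e] at hd
  set wn := (s • g₁ + (l * n) • g₂ + n • h₂) - ((1 + ζ) • g₁ + g₂) with hwn
  have hnorm : stB σ b wn wn = stB σ b w w := by
    rw [hwn]
    simp only [map_add, map_sub, LinearMap.add_apply, LinearMap.sub_apply, LinearMap.map_smulₛₗ₂, map_smul,
      smul_eq_mul, eg1, eg1g2, eg1h2, eg2g1, eg2, eg2h2, eh2g1, eh2g2, eh2, map_mul, hσl]
    linear_combination -hn
  have hw0 : w ≠ 0 := by
    rintro rfl
    exact hw (by simp)
  have hwn0 : wn ≠ 0 := by
    intro h
    rw [h] at hnorm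
    exact hw (by rw [← hnorm]; simp)
  obtain ⟨z, hz, hzd, hzw⟩ := exists_su hσ hσ2 (by omega) hwn0 hw0 hnorm
  have h2 := hd.map (hM.rowE_mem hz hzd) (rowE_iso hz)
  rw [rowE_pure, hzw] at h2
  exact h2

/-- All isotropic vectors of `⟨u, u'⟩ ⊗ W` are centres, `(u, u')` a hyperbolic pair. -/
theorem gen_two (hσ : σ ≠ RingHom.id F) (hσ2 : ∀ x : F, σ (σ x) = x) (hM : Over σ M)
    (h0 : ∀ u w, stB σ a u u = 0 → HasT (BV σ a b) M (vecMulVec u w))
    {u u' : Fin a → F} (hu : stB σ a u u = 0) (hu' : stB σ a u' u' = 0) (huu' : stB σ a u u' = 1)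
    (w w' : Fin b → F) (hww : stB σ b w w' + stB σ b w' w = 0) :
    HasT (BV σ a b) M (vecMulVec u w + vecMulVec u' w') := by
  have hSa := stB_symm hσ2 a
  have hSb := stB_symm hσ2 b
  have hSV := BV_symm hσ2 a b
  have hu'u : stB σ a u' u = 1 := by rw [← hSa.eq, huu', map_one]
  have hval : ∀ x x' y y' : Fin b → F, BV σ a b (vecMulVec u x + vecMulVec u' x') (vecMulVec u y + vecMulVec u' y')
      = stB σ b x y' + stB σ b x' y := by
    intro x x' y y'
    simp only [map_add, LinearMap.add_apply, BV_pure, hu, hu', huu', hu'u]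
    ring
  have hsum : ∀ x x', stB σ b x x' ≠ 0 → stB σ b x x' + stB σ b x' x = 0 →
      HasT (BV σ a b) M (vecMulVec u x + vecMulVec u' x') := by
    intro x x' hne hxx'
    refine HasT.add hSV hM.iso (h0 u x hu) (h0 u' x' hu') ?_ ?_
    · rw [BV_pure, hu'u, one_mul]
      intro h
      exact hne (symm_zero hSb h)
    · rw [hval]; exact hxx'
  by_cases hw0 : w = 0
  · subst hw0
    have e : vecMulVec u (0 : Fin b → F) + vecMulVec u' w' = vecMulVec u' w' := by
      rw [pure_zero, zero_add]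
    rw [e]; exact h0 u' w' hu'
  by_cases hne : stB σ b w w' = 0
  · have hne' := symm_zero hSb hne
    obtain ⟨z, hz⟩ : ∃ z, stB σ b w z ≠ 0 := by
      by_contra h
      push Not at h
      exact hw0 (stB_sepLeft b w h)
    obtain ⟨l, hl0, hl⟩ := exists_skew hσ hσ2
    have hσl : σ l = -l := by linear_combination hl
    obtain ⟨w₁, hw₁⟩ : ∃ w₁, stB σ b w w₁ = l :=
      ⟨(l / stB σ b w z) • z, by rw [map_smul, smul_eq_mul, div_mul_cancel₀ _ hz]⟩
    have hw₁' : stB σ b w₁ w = -l := by rw [← hSb.eq, hw₁, hσl]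
    have h1 := hsum w w₁ (by rw [hw₁]; exact hl0) (by rw [hw₁, hw₁']; ring)
    have h2 := h0 u' (w' - w₁) hu'
    have e : vecMulVec u w + vecMulVec u' w₁ + vecMulVec u' (w' - w₁) = vecMulVec u w + vecMulVec u' w' := by
      rw [Matrix.vecMulVec_sub]; abel
    have h3 := HasT.add hSV hM.iso h1 h2 (by
      have e2 : vecMulVec u' (w' - w₁) = vecMulVec u 0 + vecMulVec u' (w' - w₁) := by
        rw [pure_zero, zero_add]
      rw [e2, hval, map_zero, LinearMap.zero_apply, zero_add, map_sub, LinearMap.sub_apply, hne', hw₁']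
      intro h
      exact hl0 (by linear_combination h)) (by
      rw [e, hval]; exact hww)
    rw [e] at h3
    exact h3
  · exact hsum w w' hne hww

/-- Two different elements of norm `-1`. -/
theorem exists_norm_neg_one (hσ : σ ≠ RingHom.id F) (hσ2 : ∀ x : F, σ (σ x) = x) :
    ∃ c ζ : F, σ c * c = -1 ∧ σ ζ * ζ = 1 ∧ ζ ≠ 1 := by
  obtain ⟨c, hc0, hc⟩ := HermWitt.norm_surj σ hσ hσ2 (-1) (by simp) (by simp)
  obtain ⟨p, hp⟩ := exists_fix_ne hσ
  have hp0 : p ≠ 0 := by
    rintro rfl
    exact hp (map_zero σ)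
  have hσp0 : σ p ≠ 0 := by simpa using hp0
  refine ⟨c, σ p / p, by rw [mul_comm]; exact hc, ?_, ?_⟩
  · rw [map_div₀, hσ2]
    field_simp
  · intro h
    exact hp ((div_eq_one_iff_eq hp0).mp h)

/-- All isotropic vectors supported on two rows are centres. -/
theorem gen_rows_two (hσ : σ ≠ RingHom.id F) (hσ2 : ∀ x : F, σ (σ x) = x) (hM : Over σ M)
    (h0 : ∀ u w, stB σ a u u = 0 → HasT (BV σ a b) M (vecMulVec u w))
    {i j : Fin a} (hij : i ≠ j) (x x' : Fin b → F)
    (hxx : stB σ b x x + stB σ b x' x' = 0) :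
    HasT (BV σ a b) M (vecMulVec (Pi.single i 1) x + vecMulVec (Pi.single j 1) x') := by
  have hSb := stB_symm hσ2 b
  obtain ⟨c, ζ, hc, hζ, hζ1⟩ := exists_norm_neg_one hσ hσ2
  have hc0 : c ≠ 0 := by
    rintro rfl
    rw [mul_zero] at hc
    exact one_ne_zero (neg_eq_zero.mp hc.symm)
  have hii : stB σ a (Pi.single i 1) (Pi.single i 1) = 1 := by rw [stB_single_left, Pi.single_eq_same]
  have hjj : stB σ a (Pi.single j 1) (Pi.single j 1) = 1 := by rw [stB_single_left, Pi.single_eq_same]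
  have eij : stB σ a (Pi.single i 1) (Pi.single j 1) = 0 := by
    rw [stB_single_left, Pi.single_eq_of_ne hij]
  have eji : stB σ a (Pi.single j 1) (Pi.single i 1) = 0 := by
    rw [stB_single_left, Pi.single_eq_of_ne (Ne.symm hij)]
  have h1ζ : 1 - ζ ≠ 0 := fun h => hζ1 (by linear_combination -h)
  set α := (1 - ζ)⁻¹ with hα
  set u : Fin a → F := Pi.single i 1 + c • Pi.single j 1 with hu_def
  set u' : Fin a → F := α • (Pi.single i 1 + (c * ζ) • Pi.single j 1) with hu'_def
  have hu : stB σ a u u = 0 := by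
    rw [hu_def]
    simp only [map_add, LinearMap.add_apply, LinearMap.map_smulₛₗ₂, map_smul, smul_eq_mul, hii, hjj, eij, eji]
    linear_combination hc
  have hu' : stB σ a u' u' = 0 := by
    rw [hu'_def]
    simp only [map_add, LinearMap.add_apply, LinearMap.map_smulₛₗ₂, map_smul, smul_eq_mul, hii, hjj, eij, eji, map_mul]
    have h1 : σ c * σ ζ * (c * ζ) = -1 := by
      have : σ c * σ ζ * (c * ζ) = (σ c * c) * (σ ζ * ζ) := by ring
      rw [this, hc, hζ, mul_one]
    linear_combination (α * σ α) * h1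
  have huu' : stB σ a u u' = 1 := by
    rw [hu_def, hu'_def]
    simp only [map_add, LinearMap.add_apply, LinearMap.map_smulₛₗ₂, map_smul, smul_eq_mul, hii, hjj, eij, eji]
    have h1 : α * (1 - ζ) = 1 := inv_mul_cancel₀ h1ζ
    linear_combination h1 + α * ζ * hc
  -- coordinates
  set w' := (1 / (c * (ζ - 1) * α)) • (x' - c • x) with hw'
  set w := x - α • w' with hw
  have hden : c * (ζ - 1) * α ≠ 0 :=
    mul_ne_zero (mul_ne_zero hc0 (fun h => hζ1 (by linear_combination h))) (inv_ne_zero h1ζ)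
  have e : vecMulVec u w + vecMulVec u' w' = vecMulVec (Pi.single i 1) x + vecMulVec (Pi.single j 1) x' := by
    rw [hu_def, hu'_def]
    have e1 : w + α • w' = x := by rw [hw]; abel
    have e2 : c • w + (α * (c * ζ)) • w' = x' := by
      rw [hw, smul_sub, smul_smul]
      have h3 : (c * (ζ - 1) * α) • w' = x' - c • x := by
        rw [hw', smul_smul, mul_one_div, div_self hden, one_smul]
      have h4 : (α * (c * ζ)) = c * (ζ - 1) * α + c * α := by ring
      rw [h4, add_smul, h3]
      abel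
    rw [← e1, ← e2]
    simp only [Matrix.add_vecMulVec, Matrix.smul_vecMulVec, Matrix.vecMulVec_add, Matrix.vecMulVec_smul, smul_smul,
      smul_add, add_smul]
    rw [← add_assoc, ← add_assoc]
    congr 1
    abel
  rw [← e]
  apply gen_two hσ hσ2 hM h0 hu hu' huu'
  have hSV := BV_symm hσ2 a b
  have h5 : BV σ a b (vecMulVec (Pi.single i 1) x + vecMulVec (Pi.single j 1) x')
      (vecMulVec (Pi.single i 1) x + vecMulVec (Pi.single j 1) x') = 0 := by
    simp only [map_add, LinearMap.add_apply, BV_pure, hii, hjj, eij, eji]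
    linear_combination hxx
  have hu'u : stB σ a u' u = 1 := by rw [← (stB_symm hσ2 a).eq, huu', map_one]
  rw [← e] at h5
  simp only [map_add, LinearMap.add_apply, BV_pure, hu, hu', huu', hu'u] at h5
  linear_combination h5

/-- **All isotropic vectors are centres.** -/
theorem gen_all (hσ : σ ≠ RingHom.id F) (hσ2 : ∀ x : F, σ (σ x) = x) (ha : 2 ≤ a) (hb : 4 ≤ b) (hM : Over σ M)
    (h0 : ∀ u w, stB σ a u u = 0 → stB σ b w w = 0 → HasT (BV σ a b) M (vecMulVec u w))
    (X : Mat a b F) (hX : BV σ a b X X = 0) : HasT (BV σ a b) M X := by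
  classical
  have hSb := stB_symm hσ2 b
  have hSV := BV_symm hσ2 a b
  have h1 := gen_pure hσ hσ2 hb hM h0
  have h1' : ∀ u w, stB σ a u u = 0 → HasT (BV σ a b) M (vecMulVec u w) := fun u w hu => h1 u hu w
  -- induction on the number of non-zero rows
  induction hN : (Finset.univ.filter fun i => X i ≠ 0).card using Nat.strong_induction_on generalizing X with
  | _ N ih =>
    by_cases hN2 : N ≤ 2
    · -- at most two rows
      obtain ⟨S, hS, hSc⟩ := Finset.exists_superset_card_eq (s := Finset.univ.filter fun i => X i ≠ 0) (n := 2)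
        (by omega) (by simpa using ha)
      obtain ⟨i, j, hij, rfl⟩ := Finset.card_eq_two.mp hSc
      have hz : ∀ k, k ≠ i → k ≠ j → X k = 0 := by
        intro k hki hkj
        by_contra h
        have := hS (Finset.mem_filter.mpr ⟨Finset.mem_univ k, h⟩)
        rw [Finset.mem_insert, Finset.mem_singleton] at this
        rcases this with h | h
        · exact hki h
        · exact hkj h
      have e : X = vecMulVec (Pi.single i 1) (X i) + vecMulVec (Pi.single j 1) (X j) := by
        funext k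
        show X k = (Pi.single i (1 : F) : Fin a → F) k • X i + (Pi.single j (1 : F) : Fin a → F) k • X j
        by_cases hki : k = i
        · subst hki
          rw [Pi.single_eq_same, Pi.single_eq_of_ne hij, one_smul, zero_smul, add_zero]
        · by_cases hkj : k = j
          · subst hkj
            rw [Pi.single_eq_same, Pi.single_eq_of_ne hki, one_smul, zero_smul, zero_add]
          · rw [hz k hki hkj, Pi.single_eq_of_ne hki, Pi.single_eq_of_ne hkj, zero_smul, zero_smul, add_zero]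
      rw [e]
      apply gen_rows_two hσ hσ2 hM h1' hij
      rw [BV_apply, ← Finset.sum_subset (Finset.subset_univ {i, j})] at hX
      · rw [Finset.sum_pair hij] at hX
        exact hX
      · intro k _ hk
        rw [Finset.mem_insert, Finset.mem_singleton, not_or] at hk
        rw [hz k hk.1 hk.2, map_zero]
    · -- at least three rows
      obtain ⟨k, hk, j, hj, hkj⟩ := Finset.one_lt_card.mp (show 1 < (Finset.univ.filter fun i => X i ≠ 0).card by omega)
      have hk0 : X k ≠ 0 := (Finset.mem_filter.mp hk).2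
      have hj0 : X j ≠ 0 := (Finset.mem_filter.mp hj).2
      set s := ∑ i ∈ (Finset.univ.erase k).erase j, stB σ b (X i) (X i) with hs
      have hσs : σ s = s := by
        rw [hs, map_sum]
        exact Finset.sum_congr rfl fun i _ => hSb.eq _ _
      obtain ⟨l, hl0, hl⟩ := exists_skew hσ hσ2
      have hσl : σ l = -l := by linear_combination hl
      obtain ⟨x, hx1, hx2⟩ := exists_vec (B := stB σ b) hσ hσ2 hSb (stB_sepLeft b) (by rw [finrank_fin_fun]; omega)
        hk0 (l - s) (-s) (by rw [map_neg, hσs])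
      have hx1' : stB σ b x (X k) = -l - s := by rw [← hSb.eq, hx1, map_sub, hσl, hσs]
      have hsplit : ∀ f : Fin a → F, ∑ i, f i = f k + (f j + ∑ i ∈ (Finset.univ.erase k).erase j, f i) := by
        intro f
        rw [← Finset.add_sum_erase _ f (Finset.mem_univ k),
          ← Finset.add_sum_erase (Finset.univ.erase k) f (Finset.mem_erase.mpr ⟨Ne.symm hkj, Finset.mem_univ j⟩)]
      have hXs : stB σ b (X k) (X k) + (stB σ b (X j) (X j) + s) = 0 := by
        rw [← hX, BV_apply, hsplit]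
      let X' : Mat a b F := fun i => if i = k then x else if i = j then 0 else X i
      let X'' : Mat a b F := fun i => if i = k then X k - x else if i = j then X j else 0
      have e : X' + X'' = X := by
        funext i
        show X' i + X'' i = X i
        by_cases hik : i = k
        · subst hik
          simp only [X', X'', if_true, add_sub_cancel]
        · by_cases hij : i = j
          · subst hij
            simp only [X', X'', if_neg hik, if_true, zero_add]
          · simp only [X', X'', if_neg hik, if_neg hij, add_zero]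
      have eX'k : X' k = x := if_pos rfl
      have eX'j : X' j = 0 := by simp only [X', if_neg (Ne.symm hkj), if_true]
      have eX''k : X'' k = X k - x := if_pos rfl
      have eX''j : X'' j = X j := by simp only [X'', if_neg (Ne.symm hkj), if_true]
      have hmem : ∀ i ∈ (Finset.univ.erase k).erase j, i ≠ j ∧ i ≠ k := by
        intro i hi
        rw [Finset.mem_erase, Finset.mem_erase] at hi
        exact ⟨hi.1, hi.2.1⟩
      have eX'i : ∀ i ∈ (Finset.univ.erase k).erase j, X' i = X i := by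
        intro i hi
        obtain ⟨h1, h2⟩ := hmem i hi
        simp only [X', if_neg h1, if_neg h2]
      have eX''i : ∀ i ∈ (Finset.univ.erase k).erase j, X'' i = 0 := by
        intro i hi
        obtain ⟨h1, h2⟩ := hmem i hi
        simp only [X'', if_neg h1, if_neg h2]
      have hX'0 : BV σ a b X' X' = 0 := by
        rw [BV_apply, hsplit, eX'k, eX'j, Finset.sum_congr rfl fun i hi => by rw [eX'i i hi], map_zero, hx2, ← hs]
        ring
      have hX''0 : BV σ a b X'' X'' = 0 := by
        rw [BV_apply, hsplit, eX''k, eX''j, Finset.sum_congr rfl fun i hi => by rw [eX''i i hi, map_zero],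
          Finset.sum_const_zero]
        simp only [map_sub, LinearMap.sub_apply, hx1, hx1', hx2]
        linear_combination hXs
      have hX'' : BV σ a b X'' X' ≠ 0 := by
        rw [BV_apply, hsplit, eX''k, eX''j, eX'k, eX'j, Finset.sum_congr rfl fun i hi => by
          rw [eX''i i hi, map_zero, LinearMap.zero_apply], Finset.sum_const_zero]
        simp only [map_sub, LinearMap.sub_apply, hx1, hx2, map_zero]
        intro h
        exact hl0 (by linear_combination h)
      have c1 : (Finset.univ.filter fun i => X' i ≠ 0).card < N := by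
        rw [← hN]
        apply Finset.card_lt_card
        rw [Finset.ssubset_iff_of_subset]
        · refine ⟨j, hj, fun h => (Finset.mem_filter.mp h).2 eX'j⟩
        · intro i hi
          have hi0 := (Finset.mem_filter.mp hi).2
          refine Finset.mem_filter.mpr ⟨Finset.mem_univ i, fun h => ?_⟩
          by_cases hik : i = k
          · exact hk0 (hik ▸ h)
          · by_cases hij : i = j
            · exact hj0 (hij ▸ h)
            · apply hi0
              simp only [X', if_neg hik, if_neg hij, h]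
      have c2 : (Finset.univ.filter fun i => X'' i ≠ 0).card < N := by
        have h3 : (Finset.univ.filter fun i => X'' i ≠ 0).card ≤ ({k, j} : Finset (Fin a)).card := by
          apply Finset.card_le_card
          intro i hi
          have hi0 := (Finset.mem_filter.mp hi).2
          rw [Finset.mem_insert, Finset.mem_singleton]
          by_contra h
          rw [not_or] at h
          apply hi0
          simp only [X'', if_neg h.1, if_neg h.2]
        have h4 : ({k, j} : Finset (Fin a)).card ≤ 2 := Finset.card_le_two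
        omega
      have r1 := ih _ c1 X' hX'0 (by congr)
      have r2 := ih _ c2 X'' hX''0 (by congr)
      have r3 := HasT.add hSV hM.iso r1 r2 hX'' (by rw [e]; exact hX)
      rw [e] at r3
      exact r3

end

end Cfsg.Agent.H880
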