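import Cfsg.Agent.H880.UAdj
import Cfsg.Agent.H872.KronPres

/-!
**Overgroups of the unitary tensor stabiliser** `SU_a ⊗ SU_b`, `2 ≤ a < b`, `b ≥ 4`: they consist of tensors or
contain all unitary transvections (`main_tens`).
-/

set_option autoImplicit false
set_option linter.unusedSectionVars false

namespace Cfsg.Agent.H880

open Module Cfsg.Agent.ClassicalGeometry Matrix

section

variable {F : Type*} [Field F] {σ : F →+* F} {a b : ℕ}

/-- Preservers of pure tensors are tensors. -/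
theorem isTens_of_pres (ha : 1 ≤ a) (hab : a < b) {g : Mat a b F ≃ₗ[F] Mat a b F}
    (hp : ∀ (u : Fin a → F) (w : Fin b → F), ∃ (u' : Fin a → F) (w' : Fin b → F),
      g (vecMulVec u w) = vecMulVec u' w') : IsTens g := by
  let C : (Fin a × Fin b → F) ≃ₗ[F] Mat a b F :=
    { toFun := fun x i j => x (i, j)
      invFun := fun X p => X p.1 p.2
      map_add' := fun _ _ => rfl
      map_smul' := fun _ _ => rfl
      left_inv := fun _ => rfl
      right_inv := fun _ => rfl }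
  have hCten : ∀ u w, C (H872.ten u w) = vecMulVec u w := fun u w => rfl
  let G : (Fin a × Fin b → F) ≃ₗ[F] (Fin a × Fin b → F) := C.trans (g.trans C.symm)
  let gm : Matrix.GeneralLinearGroup (Fin a × Fin b) F :=
    ⟨LinearMap.toMatrix' (G : (Fin a × Fin b → F) →ₗ[F] (Fin a × Fin b → F)),
      LinearMap.toMatrix' (G.symm : (Fin a × Fin b → F) →ₗ[F] (Fin a × Fin b → F)),
      by
        rw [← LinearMap.toMatrix'_comp]
        have : (G : (Fin a × Fin b → F) →ₗ[F] (Fin a × Fin b → F)) ∘ₗ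
            (G.symm : (Fin a × Fin b → F) →ₗ[F] (Fin a × Fin b → F)) = LinearMap.id := by
          ext1 x; simp
        rw [this, LinearMap.toMatrix'_id],
      by
        rw [← LinearMap.toMatrix'_comp]
        have : (G.symm : (Fin a × Fin b → F) →ₗ[F] (Fin a × Fin b → F)) ∘ₗ
            (G : (Fin a × Fin b → F) →ₗ[F] (Fin a × Fin b → F)) = LinearMap.id := by
          ext1 x; simp
        rw [this, LinearMap.toMatrix'_id]⟩
  have hgm : ∀ x, (gm : Matrix (Fin a × Fin b) (Fin a × Fin b) F) *ᵥ x = C.symm (g (C x)) := by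
    intro x
    show (LinearMap.toMatrix' (G : (Fin a × Fin b → F) →ₗ[F] (Fin a × Fin b → F))) *ᵥ x = _
    rw [LinearMap.toMatrix'_mulVec]
    rfl
  have : Nonempty (Fin a) := ⟨⟨0, ha⟩⟩
  obtain ⟨x, hx⟩ := H872.mem_range_kr_of_pres (g := gm) (by simpa using hab) (by
    intro u w
    obtain ⟨u', w', h⟩ := hp u w
    refine ⟨u', w', ?_⟩
    rw [hgm, hCten, h]
    rfl)
  refine ⟨H872.glEquiv x.1, H872.glEquiv x.2, fun u w => ?_⟩
  have h1 := hgm (H872.ten u w)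
  rw [← hx, H872.kr_mulVec_ten, hCten] at h1
  have h2 := congrArg C h1
  rw [hCten, LinearEquiv.apply_symm_apply] at h2
  rw [← h2]
  rfl

variable [Finite F] {M : Subgroup (Mat a b F ≃ₗ[F] Mat a b F)}

/-- **The case `b ≥ a + 2`.** -/
theorem big_main (hσ : σ ≠ RingHom.id F) (hσ2 : ∀ x : F, σ (σ x) = x) (ha : 1 ≤ a) (hab : a + 2 ≤ b) (hM : Over σ M)
    (hK : ∀ w : Fin b → F, w ≠ 0 → stB σ b w w = 0 → ∀ κ : (Fin a → F) →ₗ[F] (Fin a → F), InK σ M w κ →
      ∃ c : F, ∀ x, κ x = c • x)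
    {g : Mat a b F ≃ₗ[F] Mat a b F} (hg : g ∈ M) : IsTens g := by
  have hSb := stB_symm hσ2 b
  let D : Set (Mat a b F ≃ₗ[F] Mat a b F) := {s | s ∈ tensM M ∧
    (∃ w l, w ≠ 0 ∧ stB σ b w w = 0 ∧ l ≠ 0 ∧ IsRT σ w l s)}
  have hD : ∀ s ∈ D, s ∈ tensM M ∧ ∀ X, s (s X - X) = s X - X := by
    rintro s ⟨hs, w, l, _, hw, _, hrt⟩
    refine ⟨hs, fun X => ?_⟩
    rw [hrt X, add_sub_cancel_left, hrt, con_pure, hw, zero_smul, smul_zero, zero_pure, add_zero]
  have hTI : ∀ s ∈ D, ∀ g ∈ M, IsTens (g * s * g⁻¹) → IsTens g := by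
    rintro s ⟨_, w, l, hw0, hw, hl0, hrt⟩ g hg h
    exact ti_row hσ hσ2 ha (by omega) (by omega) hM hK hw0 hw hl0 hrt hg h
  obtain ⟨l, hl0, hl⟩ := exists_skew hσ hσ2
  -- every vector is orthogonal to some `U ⊗ w`
  have hvec : ∀ X : Mat a b F, ∃ s ∈ D, s X = X := by
    intro X
    have hd := finrank_perp_range (B := stB σ b) (fun i : Fin a => X i)
    rw [finrank_fin_fun, Fintype.card_fin] at hd
    obtain ⟨w, hwr, hw0, hw⟩ := exists_isotropic (B := stB σ b) hσ hσ2 hSb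
      (perp (stB σ b) (Set.range fun i : Fin a => X i)) (by omega)
    obtain ⟨s, hsM, hst, hs⟩ := exists_rt hσ2 hM hw hl
    refine ⟨s, ⟨⟨hsM, hst⟩, w, l, hw0, hw, hl0, hs⟩, ?_⟩
    have h1 : con σ w X = 0 := by
      funext i
      exact symm_zero hSb (hwr _ ⟨i, rfl⟩)
    rw [hs, h1, smul_zero, zero_pure, add_zero]
  have hone : ∀ X : Mat a b F, ∃ h ∈ tensM M, g X = h X := by
    intro X
    obtain ⟨t, ht, htX⟩ := hvec X
    obtain ⟨s, hs, hsX⟩ := hvec (g X)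
    obtain ⟨h, hh, hhX⟩ := transfer hD hTI hs ht hg {X} (by rintro _ rfl; exact htX) (by rintro _ rfl; exact hsX)
    exact ⟨h, hh, hhX X rfl⟩
  apply isTens_of_pres ha (by omega)
  intro u w
  obtain ⟨h, hh, e⟩ := hone (vecMulVec u w)
  obtain ⟨y, z, hyz⟩ := hh.2
  exact ⟨y u, z w, by rw [e, hyz]⟩

/-- **Overgroups of the unitary tensor stabiliser.** -/
theorem main_tens (hσ : σ ≠ RingHom.id F) (hσ2 : ∀ x : F, σ (σ x) = x) (ha : 2 ≤ a) (hab : a < b) (hb : 4 ≤ b)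
    (hq : 3 ≤ a ∨ ∃ ρ : F, σ ρ = ρ ∧ ρ ≠ 0 ∧ ρ ≠ 1) (hM : Over σ M) :
    (∀ g ∈ M, IsTens g) ∨ ∀ X, BV σ a b X X = 0 → HasT (BV σ a b) M X := by
  by_cases hK : ∀ w : Fin b → F, w ≠ 0 → stB σ b w w = 0 → ∀ κ : (Fin a → F) →ₗ[F] (Fin a → F), InK σ M w κ →
      ∃ c : F, ∀ x, κ x = c • x
  · by_cases hab2 : a + 2 ≤ b
    · exact Or.inl fun g hg => big_main hσ hσ2 (by omega) hab2 hM hK hg
    · have hab1 : b = a + 1 := by omega
      by_cases hK' : ∀ u : Fin a → F, u ≠ 0 → stB σ a u u = 0 → ∀ κ : (Fin b → F) →ₗ[F] (Fin b → F),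
          InK σ (trM M) u κ → ∃ c : F, ∀ x, κ x = c • x
      · exact Or.inl fun g hg => adj_main hσ hσ2 (by omega) hab1 hM hK hK' hg
      · right
        push Not at hK'
        obtain ⟨u, hu0, hu, κ, hκ, hns⟩ := hK'
        have h1 := claimA hσ hσ2 (a := b) (b := a) (by omega) (by omega) (Or.inl (by omega)) hM.tr hu0 hu hκ
          (by push Not; exact hns)
        exact gen_all hσ hσ2 ha hb hM fun u' w' hu' hw' => hasT_tr (h1 w' u' hw' hu')
  · right
    push Not at hK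
    obtain ⟨w, hw0, hw, κ, hκ, hns⟩ := hK
    exact gen_all hσ hσ2 ha hb hM
      (claimA hσ hσ2 ha (by omega) hq hM hw0 hw hκ (by push Not; exact hns))

end

end Cfsg.Agent.H880
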