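import Cfsg.Agent.H880.UElem

/-!
**Centres.** If an overgroup `M` of the tensor stabiliser contains an element `X ↦ X + κ(con w X) ⊗ w` with `κ` not
scalar (`w` isotropic), then it contains all unitary transvections with isotropic centres `u ⊗ w` (`claimA`).
-/

set_option autoImplicit false
set_option linter.unusedSectionVars false

namespace Cfsg.Agent.H880

open Module Cfsg.Agent.ClassicalGeometry Matrix

section Scal

variable {F : Type*} [Field F] {σ : F →+* F}

/-- An element of norm one with `ζ² ≠ 1`. -/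
theorem exists_norm_one (hσ : σ ≠ RingHom.id F) (hσ2 : ∀ x : F, σ (σ x) = x) :
    ∃ ζ : F, σ ζ * ζ = 1 ∧ ζ ≠ 1 ∧ ζ ^ 2 ≠ 1 := by
  obtain ⟨p, hp1, hp2⟩ : ∃ p : F, σ p ≠ p ∧ σ p ≠ -p := by
    obtain ⟨p, hp⟩ := exists_fix_ne hσ
    by_cases h : σ p = -p
    · refine ⟨1 + p, ?_, ?_⟩
      · rw [map_add, map_one]; intro h1; exact hp (add_left_cancel h1)
      · rw [map_add, map_one, h]
        intro h1
        apply hp
        rw [h]
        have h2 : (2 : F) = 0 := by linear_combination h1
        linear_combination (-p) * h2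
    · exact ⟨p, hp, h⟩
  have hp0 : p ≠ 0 := by
    rintro rfl
    exact hp1 (map_zero σ)
  have hσp0 : σ p ≠ 0 := by simpa using hp0
  refine ⟨σ p / p, ?_, ?_, ?_⟩
  · rw [map_div₀, hσ2]
    field_simp
  · intro h
    exact hp1 ((div_eq_one_iff_eq hp0).mp h)
  · intro h
    rw [div_pow, div_eq_one_iff_eq (pow_ne_zero 2 hp0)] at h
    have h1 : (σ p - p) * (σ p + p) = 0 := by linear_combination h
    rcases mul_eq_zero.mp h1 with h2 | h2
    · exact hp1 (sub_eq_zero.mp h2)
    · exact hp2 (eq_neg_of_add_eq_zero_left h2)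

variable [Finite F]

/-- A map `κ` with `B(u, κ u) = 0` for all isotropic `u` is scalar. -/
theorem scalar_of_isotropic {a : ℕ} (hσ : σ ≠ RingHom.id F) (hσ2 : ∀ x : F, σ (σ x) = x)
    (κ : (Fin a → F) →ₗ[F] (Fin a → F)) (h : ∀ u, stB σ a u u = 0 → stB σ a u (κ u) = 0) :
    ∃ c : F, ∀ x, κ x = c • x := by
  rcases Nat.eq_zero_or_pos a with ha | ha
  · subst ha
    exact ⟨0, fun x => Subsingleton.elim _ _⟩
  obtain ⟨γ, _, hγ, _, _⟩ := exists_norm_neg_one hσ hσ2
  have hγ0 : γ ≠ 0 := by
    rintro rfl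
    rw [mul_zero] at hγ
    exact one_ne_zero (neg_eq_zero.mp hγ.symm)
  obtain ⟨ζ, hζ, hζ1, hζ2⟩ := exists_norm_one hσ hσ2
  have hζ0 : ζ ≠ 0 := by
    rintro rfl
    rw [mul_zero] at hζ
    exact zero_ne_one hζ
  have key : ∀ i j : Fin a, i ≠ j → κ (Pi.single j 1) i = 0 ∧ κ (Pi.single i 1) i = κ (Pi.single j 1) j := by
    intro i j hij
    have hii : stB σ a (Pi.single i 1) (Pi.single i 1) = 1 := by rw [stB_single_left, Pi.single_eq_same]
    have hjj : stB σ a (Pi.single j 1) (Pi.single j 1) = 1 := by rw [stB_single_left, Pi.single_eq_same]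
    have eij : stB σ a (Pi.single i 1) (Pi.single j 1) = 0 := by
      rw [stB_single_left, Pi.single_eq_of_ne hij]
    have eji : stB σ a (Pi.single j 1) (Pi.single i 1) = 0 := by
      rw [stB_single_left, Pi.single_eq_of_ne (Ne.symm hij)]
    have hq : ∀ g : F, σ g * g = -1 → κ (Pi.single j 1) i * g ^ 2 +
        (κ (Pi.single i 1) i - κ (Pi.single j 1) j) * g - κ (Pi.single i 1) j = 0 := by
      intro g hg
      have h1 := h (Pi.single i 1 + g • Pi.single j 1) (by
        simp only [map_add, LinearMap.add_apply, LinearMap.map_smulₛₗ₂, map_smul, smul_eq_mul, hii, hjj, eij, eji]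
        linear_combination hg)
      simp only [map_add, LinearMap.add_apply, LinearMap.map_smulₛₗ₂, map_smul, smul_eq_mul, stB_single_left] at h1
      linear_combination g * h1 - (κ (Pi.single i 1) j + g * κ (Pi.single j 1) j) * hg
    have e1 := hq γ hγ
    have e2 := hq (γ * ζ) (by rw [map_mul]; linear_combination (σ ζ * ζ) * hγ - hζ)
    have e3 := hq (γ * ζ ^ 2) (by
      rw [map_mul, map_pow]
      linear_combination (σ ζ * ζ) ^ 2 * hγ - (σ ζ * ζ + 1) * hζ)
    set A := κ (Pi.single j 1) i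
    set D := κ (Pi.single i 1) i - κ (Pi.single j 1) j
    set C := κ (Pi.single i 1) j
    have hz1 : ζ - 1 ≠ 0 := sub_ne_zero.mpr hζ1
    have hz2 : ζ + 1 ≠ 0 := by
      intro h
      apply hζ2
      linear_combination (ζ - 1) * h
    have f1 : (ζ + 1) * (A * γ ^ 2) + D * γ = 0 := by
      have : (ζ - 1) * ((ζ + 1) * (A * γ ^ 2) + D * γ) = 0 := by linear_combination e2 - e1
      exact (mul_eq_zero.mp this).resolve_left hz1
    have f2 : ζ * (ζ + 1) * (A * γ ^ 2) + D * γ = 0 := by
      have : (ζ * (ζ - 1)) * (ζ * (ζ + 1) * (A * γ ^ 2) + D * γ) = 0 := by linear_combination e3 - e2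
      exact (mul_eq_zero.mp this).resolve_left (mul_ne_zero hζ0 hz1)
    have f3 : A = 0 := by
      have : ((ζ - 1) * (ζ + 1) * γ ^ 2) * A = 0 := by linear_combination f2 - f1
      exact (mul_eq_zero.mp this).resolve_left (mul_ne_zero (mul_ne_zero hz1 hz2) (pow_ne_zero 2 hγ0))
    have f4 : D = 0 := by
      have : γ * D = 0 := by linear_combination f1 - ((ζ + 1) * γ ^ 2) * f3
      exact (mul_eq_zero.mp this).resolve_left hγ0
    exact ⟨f3, sub_eq_zero.mp f4⟩
  let i0 : Fin a := ⟨0, ha⟩
  refine ⟨κ (Pi.single i0 1) i0, fun x => ?_⟩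
  have h1 : κ = κ (Pi.single i0 1) i0 • LinearMap.id := by
    apply (Pi.basisFun F (Fin a)).ext
    intro j
    rw [Pi.basisFun_apply]
    funext i
    show κ (Pi.single j 1) i = κ (Pi.single i0 1) i0 * (Pi.single j (1 : F) : Fin a → F) i
    by_cases hij : i = j
    · subst hij
      rw [Pi.single_eq_same, mul_one]
      by_cases hi : i0 = i
      · rw [hi]
      · exact ((key i0 i hi).2).symm
    · rw [(key i j hij).1, Pi.single_eq_of_ne hij, mul_zero]
  exact LinearMap.congr_fun h1 x

/-- Transitivity of `SU_n` on isotropic lines, `n ≥ 2`. -/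
theorem exists_su_line {n : ℕ} (hσ : σ ≠ RingHom.id F) (hσ2 : ∀ x : F, σ (σ x) = x) (hn : 2 ≤ n) {v v' : Fin n → F}
    (hv0 : v ≠ 0) (hv'0 : v' ≠ 0) (hv : stB σ n v v = 0) (hv' : stB σ n v' v' = 0) :
    ∃ z : (Fin n → F) ≃ₗ[F] (Fin n → F), (∀ x y, stB σ n (z x) (z y) = stB σ n x y) ∧
      LinearMap.det (z : (Fin n → F) →ₗ[F] (Fin n → F)) = 1 ∧ ∃ c : F, z v = c • v' := by
  have hS := stB_symm hσ2 n
  rcases hn.eq_or_lt with hn | hn
  · subst hn
    by_cases hne : stB σ 2 v' v = 0
    · refine ⟨LinearEquiv.refl F _, fun x y => rfl, LinearMap.det_id, ?_⟩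
      rw [stB_apply, Fin.sum_univ_two] at hne hv'
      have hp : v' 0 ≠ 0 := by
        intro h0
        apply hv'0
        rw [h0, mul_zero, zero_add] at hv'
        have h1 : v' 1 = 0 := by
          rcases mul_eq_zero.mp hv' with h | h
          · exact (map_eq_zero σ).mp h
          · exact h
        funext i
        fin_cases i
        · exact h0
        · exact h1
      have hσp : σ (v' 0) ≠ 0 := by simpa using hp
      refine ⟨v 0 / v' 0, ?_⟩
      show v = _
      funext i
      fin_cases i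
      · show v 0 = v 0 / v' 0 * v' 0
        rw [div_mul_cancel₀ _ hp]
      · show v 1 = v 0 / v' 0 * v' 1
        have hr : v' 1 ≠ 0 := by
          intro h0
          rw [h0, mul_zero, add_zero] at hv'
          exact mul_ne_zero hσp hp hv'
        have hσr : σ (v' 1) ≠ 0 := by simpa using hr
        have h1 : σ (v' 1) * (v 1 * v' 0 - v 0 * v' 1) = 0 := by
          linear_combination (v' 0) * hne - (v 0) * hv'
        have h2 := (mul_eq_zero.mp h1).resolve_left hσr
        field_simp
        linear_combination h2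
    · obtain ⟨l, hl0, hl⟩ := exists_skew hσ hσ2
      have hσl : σ l = -l := by linear_combination hl
      -- the transvection with centre `s v + v'`
      set k := stB σ 2 v' v with hk
      have hvv' : stB σ 2 v v' = σ k := by rw [hk, hS.eq]
      have hσk : σ k ≠ 0 := by simpa using hne
      set s := l / k with hs
      have hd : stB σ 2 (s • v + v') (s • v + v') = 0 := by
        simp only [map_add, LinearMap.add_apply, LinearMap.map_smulₛₗ₂, map_smul, smul_eq_mul, hv, hv', hvv', ← hk,
          hs, map_div₀, hσl]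
        field_simp
        ring
      obtain ⟨t, ht, _, hti, htd⟩ := exists_tv (B := stB σ 2) hS hd (l := -(1 / l)) (by
        rw [map_neg, map_div₀, map_one, hσl]; field_simp; ring)
      refine ⟨t, hti, htd, -(k / l), ?_⟩
      rw [ht]
      have h1 : stB σ 2 (s • v + v') v = k := by
        simp only [map_add, LinearMap.add_apply, LinearMap.map_smulₛₗ₂, hv, smul_zero, zero_add, ← hk]
      rw [h1, smul_add, smul_smul, hs]
      have h2 : -(1 / l) * k * (l / k) = -1 := by field_simp
      rw [h2]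
      have h3 : -(1 / l) * k = -(k / l) := by ring
      rw [h3]
      module
  · obtain ⟨z, hz, hzd, hzv⟩ := exists_su hσ hσ2 hn hv0 hv'0 (by rw [hv, hv'])
    exact ⟨z, hz, hzd, 1, by rw [hzv, one_smul]⟩

end Scal

section Centres

variable {F : Type*} [Field F] {σ : F →+* F} [Finite F] {a b : ℕ} {M : Subgroup (Mat a b F ≃ₗ[F] Mat a b F)}

theorem HasT.zero : HasT (BV σ a b) M 0 := by
  refine ⟨map_zero _, fun l _ => ⟨1, M.one_mem, fun x => ?_⟩⟩
  rw [smul_zero, add_zero]; rfl

/-- One centre `u ⊗ w` gives all. -/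
theorem hasT_all (hσ : σ ≠ RingHom.id F) (hσ2 : ∀ x : F, σ (σ x) = x) (ha : 2 ≤ a) (hb : 3 ≤ b) (hM : Over σ M)
    {u : Fin a → F} {w : Fin b → F} (hu0 : u ≠ 0) (hw0 : w ≠ 0) (hu : stB σ a u u = 0) (hw : stB σ b w w = 0)
    (h : HasT (BV σ a b) M (vecMulVec u w)) (u' : Fin a → F) (w' : Fin b → F) (hu' : stB σ a u' u' = 0)
    (hw' : stB σ b w' w' = 0) : HasT (BV σ a b) M (vecMulVec u' w') := by
  by_cases hu'0 : u' = 0
  · subst hu'0
    rw [zero_pure]; exact HasT.zero
  by_cases hw'0 : w' = 0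
  · subst hw'0
    rw [pure_zero]; exact HasT.zero
  obtain ⟨z, hz, hzd, hzw⟩ := exists_su hσ hσ2 hb hw0 hw'0 (by rw [hw, hw'])
  obtain ⟨y, hy, hyd, c, hyu⟩ := exists_su_line hσ hσ2 ha hu0 hu'0 hu hu'
  have h1 := h.map (hM.rowE_mem hz hzd) (rowE_iso hz)
  rw [rowE_pure, hzw] at h1
  have h2 := h1.map (hM.colE_mem hy hyd) (colE_iso hy)
  rw [colE_pure, hyu] at h2
  have hc : c ≠ 0 := by
    rintro rfl
    rw [zero_smul] at hyu
    exact hu0 ((LinearEquiv.map_eq_zero_iff y).mp hyu)
  have h3 := h2.smul hσ2 c⁻¹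
  rwa [Matrix.smul_vecMulVec, smul_smul, inv_mul_cancel₀ hc, one_smul] at h3

/-- `x ↦ B(u, x) u`. -/
def phi (σ : F →+* F) (u : Fin a → F) : (Fin a → F) →ₗ[F] (Fin a → F) := (stB σ a u).smulRight u

theorem phi_apply (u x : Fin a → F) : phi σ u x = stB σ a u x • u := rfl

/-- From `InK w (s • phi u)` to transvections. -/
theorem hasT_of_inK (hσ : σ ≠ RingHom.id F) (hσ2 : ∀ x : F, σ (σ x) = x) (hb : 3 ≤ b) (hM : Over σ M)
    {u : Fin a → F} {w : Fin b → F} (hu : stB σ a u u = 0) (hw : stB σ b w w = 0)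
    {s : F} (hs0 : s ≠ 0) (hs : s + σ s = 0) (h : InK σ M w (s • phi σ u)) :
    HasT (BV σ a b) M (vecMulVec u w) := by
  refine ⟨by rw [BV_pure, hu, zero_mul], fun l hl => ?_⟩
  have hσs : σ s = -s := by linear_combination hs
  have hσl : σ l = -l := by linear_combination hl
  have h1 := h.smul hσ hσ2 hb hM hw (ρ := l / s) (by rw [map_div₀, hσs, hσl]; field_simp)
  rw [smul_smul, div_mul_cancel₀ _ hs0] at h1
  obtain ⟨g, hg, hgx⟩ := h1
  refine ⟨g, hg, fun X => ?_⟩
  rw [hgx, LinearMap.smul_apply, phi_apply, smul_smul, Matrix.smul_vecMulVec, BV_pure_left]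

/-- **Claim A.** -/
theorem claimA (hσ : σ ≠ RingHom.id F) (hσ2 : ∀ x : F, σ (σ x) = x) (ha : 2 ≤ a) (hb : 3 ≤ b)
    (hq : 3 ≤ a ∨ ∃ ρ : F, σ ρ = ρ ∧ ρ ≠ 0 ∧ ρ ≠ 1) (hM : Over σ M)
    {w : Fin b → F} (hw0 : w ≠ 0) (hw : stB σ b w w = 0) {κ : (Fin a → F) →ₗ[F] (Fin a → F)}
    (h : InK σ M w κ) (hκ : ¬ ∃ c : F, ∀ x, κ x = c • x) (u' : Fin a → F) (w' : Fin b → F)
    (hu' : stB σ a u' u' = 0) (hw' : stB σ b w' w' = 0) : HasT (BV σ a b) M (vecMulVec u' w') := by
  have hS := stB_symm hσ2 a
  have hsk := h.skew hσ2 hM hw0 hw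
  obtain ⟨u, hu, huκ⟩ : ∃ u, stB σ a u u = 0 ∧ stB σ a u (κ u) ≠ 0 := by
    by_contra hcon
    push Not at hcon
    exact hκ (scalar_of_isotropic hσ hσ2 κ hcon)
  have hu0 : u ≠ 0 := by
    rintro rfl
    exact huκ (by simp)
  set c := stB σ a u (κ u) with hc
  have hσc : σ c = -c := by
    have h1 := hsk u u
    rw [hc, hS.eq]
    linear_combination h1
  -- commutator with a transvection of `U`
  have step : ∀ l : F, l + σ l = 0 → InK σ M w (l • ((stB σ a u ∘ₗ κ).smulRight u - (stB σ a u).smulRight (κ u))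
      - (l ^ 2 * c) • phi σ u) := by
    intro l hl
    obtain ⟨t, ht, hts, hti, htd⟩ := exists_tv (B := stB σ a) hS hu hl
    have h1 := (h.col (y := t) (hM.colE_mem hti htd)).add hw (h.smul hσ hσ2 hb hM hw (ρ := -1) (by simp))
    refine h1.congr fun x => ?_
    show l • (stB σ a u (κ x) • u - stB σ a u x • κ u) - (l ^ 2 * c) • (stB σ a u x • u)
      = t (κ (t.symm x)) + (-1 : F) • κ x
    rw [hts, map_sub, map_smul, map_sub, map_smul, ht, ht, ← hc]
    module
  by_cases hρ : ∃ ρ : F, σ ρ = ρ ∧ ρ ≠ 0 ∧ ρ ≠ 1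
  · obtain ⟨ρ, hρ, hρ0, hρ1⟩ := hρ
    obtain ⟨l, hl0, hl⟩ := exists_skew hσ hσ2
    have hσl : σ l = -l := by linear_combination hl
    have h1 := step l hl
    have h2 := step (ρ * l) (by rw [map_mul, hρ]; linear_combination ρ * hl)
    have h3 := h2.add hw (h1.smul hσ hσ2 hb hM hw (ρ := -ρ) (by rw [map_neg, hρ]))
    have h4 : InK σ M w ((-(ρ ^ 2 - ρ) * l ^ 2 * c) • phi σ u) := by
      refine h3.congr fun x => ?_
      simp only [LinearMap.add_apply, LinearMap.sub_apply, LinearMap.smul_apply]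
      module
    refine hasT_all hσ hσ2 ha hb hM hu0 hw0 hu hw (hasT_of_inK hσ hσ2 hb hM hu hw ?_ ?_ h4) u' w' hu' hw'
    · refine mul_ne_zero (mul_ne_zero (neg_ne_zero.mpr ?_) (pow_ne_zero 2 hl0)) huκ
      intro h5
      have h6 : ρ * (ρ - 1) = 0 := by linear_combination h5
      rcases mul_eq_zero.mp h6 with h7 | h7
      · exact hρ0 h7
      · exact hρ1 (sub_eq_zero.mp h7)
    · simp only [map_mul, map_neg, map_sub, map_pow, hρ, hσl, hσc]
      ring
  · -- `q = 2`
    have ha3 : 3 ≤ a := hq.resolve_right hρ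
    have h2 : (-1 : F) = 1 := by
      by_contra hne
      exact hρ ⟨-1, by simp, by simp, hne⟩
    have h2' : (2 : F) = 0 := by linear_combination -h2
    have hcc : σ c = c := by rw [hσc]; linear_combination c * h2
    have h1 := step 1 (by rw [map_one]; linear_combination h2')
    set κ' := ((1 : F) • ((stB σ a u ∘ₗ κ).smulRight u - (stB σ a u).smulRight (κ u))
      - (1 ^ 2 * c) • phi σ u) with hκ'
    have hκ'x : ∀ x, κ' x = stB σ a u (κ x) • u - stB σ a u x • κ u - (c * stB σ a u x) • u := by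
      intro x
      show (1 : F) • (stB σ a u (κ x) • u - stB σ a u x • κ u) - (1 ^ 2 * c) • (stB σ a u x • u) = _
      module
    -- Siegel elements
    have hψ : ∀ x0, stB σ a u x0 = 0 → stB σ a (κ u) x0 = 0 →
        InK σ M w (c • ((stB σ a x0).smulRight u + (stB σ a u).smulRight x0 + stB σ a x0 x0 • phi σ u)) := by
      intro x0 hux0 hκx0
      have hx0u := symm_zero hS hux0
      have hx0κ := symm_zero hS hκx0
      obtain ⟨ν, hν⟩ := HermWitt.trace_surj σ hσ hσ2 (stB σ a x0 x0) (hS.eq _ _)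
      obtain ⟨t, ht, hti, htd⟩ := exists_siegel (B := stB σ a) hS hu hux0 hν
      have h3 := (h1.col (y := t) (hM.colE_mem hti htd)).add hw (h1.smul hσ hσ2 hb hM hw (ρ := -1) (by simp))
      refine h3.congr fun x => ?_
      obtain ⟨x', rfl⟩ := t.surjective x
      show c • (stB σ a x0 (t x') • u + stB σ a u (t x') • x0 + stB σ a x0 x0 • (stB σ a u (t x') • u))
        = t (κ' (t.symm (t x'))) + (-1 : F) • κ' (t x')
      rw [LinearEquiv.symm_apply_apply, hκ'x, hκ'x]
      have e1 : ∀ z, stB σ a u (κ z) = - stB σ a (κ u) z := fun z => by linear_combination hsk u z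
      have e2 : stB σ a u (t x') = stB σ a u x' := by
        rw [ht]
        simp only [map_sub, map_add, map_smul, hux0, hu, smul_zero, add_zero, sub_zero]
      have e3 : stB σ a x0 (t x') = stB σ a x0 x' + stB σ a u x' * stB σ a x0 x0 := by
        rw [ht]
        simp only [map_sub, map_add, map_smul, hx0u, smul_eq_mul]
        ring
      have e4 : t u = u := by
        rw [ht, hu, hx0u]; simp
      have e5 : t (κ u) = κ u + c • x0 - (ν * c) • u := by
        rw [ht, ← hc, hx0κ, zero_add]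
      have e6 : stB σ a (κ u) (t x') = stB σ a (κ u) x' + c * stB σ a x0 x' + (ν * c) * stB σ a u x' := by
        rw [ht]
        have e7 : stB σ a (κ u) u = - c := by rw [← hS.eq, ← hc, hσc]
        simp only [map_sub, map_add, map_smul, hκx0, e7, smul_eq_mul]
        ring
      rw [e1, e1, e2, e3, e6, map_sub, map_sub, map_smul, map_smul, map_smul, e4, e5, ← sub_eq_zero]
      have e8 : ∀ (k m n j : F), c • ((m + k * n) • u + k • x0 + n • k • u) -
          ((-j) • u - k • (κ u + c • x0 - (ν * c) • u) - (c * k) • u +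
            (-1 : F) • ((-(j + c * m + ν * c * k)) • u - k • κ u - (c * k) • u))
          = (2 : F) • ((c * n * k - c * ν * k) • u + (c * k) • x0) := by
        intro k m n j
        module
      rw [e8, h2', zero_smul]
    obtain ⟨e, hue, hκe, hee⟩ : ∃ e, stB σ a u e = 0 ∧ stB σ a (κ u) e = 0 ∧ stB σ a e e = 1 := by
      have hX : ∀ x ∈ Submodule.span F {u, κ u}, (∀ y ∈ Submodule.span F {u, κ u}, stB σ a x y = 0) → x = 0 := by
        intro x hx hxy
        obtain ⟨p, r, rfl⟩ := Submodule.mem_span_pair.mp hx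
        have f1 := hxy u (Submodule.subset_span (by simp))
        have f2 := hxy (κ u) (Submodule.subset_span (by simp))
        have e7 : stB σ a (κ u) u = c := by rw [← hS.eq, ← hc, hcc]
        simp only [map_add, LinearMap.add_apply, LinearMap.map_smulₛₗ₂, smul_eq_mul, hu, mul_zero, zero_add, ← hc,
          e7] at f1 f2
        have hr : r = 0 := by
          rcases mul_eq_zero.mp f1 with h | h
          · exact (map_eq_zero σ).mp h
          · exact absurd h huκ
        subst hr
        rw [map_zero, zero_mul, add_zero] at f2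
        have hp : p = 0 := by
          rcases mul_eq_zero.mp f2 with h | h
          · exact (map_eq_zero σ).mp h
          · exact absurd h huκ
        rw [hp, zero_smul, zero_smul, add_zero]
      have hne : Submodule.span F {u, κ u} ≠ ⊤ := by
        classical
        intro htop
        have h5 : finrank F (Submodule.span F (({u, κ u} : Finset (Fin a → F)) : Set (Fin a → F))) ≤ 2 :=
          (finrank_span_finset_le_card _).trans Finset.card_le_two
        rw [Finset.coe_insert, Finset.coe_singleton, htop, finrank_top, finrank_fin_fun] at h5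
        omega
      obtain ⟨e, _, he, hee⟩ := HermWitt.exists_unit_perp σ (stB σ a) hσ hσ2 hS (stB_sepLeft a) _ hX hne
      exact ⟨e, symm_zero hS (he u (Submodule.subset_span (by simp))),
        symm_zero hS (he (κ u) (Submodule.subset_span (by simp))), hee⟩
    obtain ⟨β, hβ⟩ := exists_fix_ne hσ
    have g1 := hψ e hue hκe
    have g2 := hψ (β • e) (by rw [map_smul, hue, smul_zero]) (by rw [map_smul, hκe, smul_zero])
    have g3 := hψ ((1 + β) • e) (by rw [map_smul, hue, smul_zero]) (by rw [map_smul, hκe, smul_zero])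
    have g4 := (g1.add hw g2).add hw g3
    have g5 : InK σ M w ((c * (β + σ β)) • phi σ u) := by
      refine g4.congr fun x => ?_
      simp only [LinearMap.add_apply, LinearMap.smul_apply, LinearMap.smulRight_apply, phi_apply,
        LinearMap.map_smulₛₗ₂, map_smul, hee, smul_eq_mul, mul_one, map_add, map_one]
      rw [eq_comm, ← sub_eq_zero]
      have e8 : ∀ (k m n : F), c • (m • u + k • e + (1 : F) • k • u) + c • ((n * m) • u + k • β • e + (β * n) • k • u)
          + c • (((1 + n) * m) • u + k • (1 + β) • e + ((1 + β) * (1 + n)) • k • u) - (c * (β + n)) • k • u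
          = (2 : F) • ((c * m * (1 + n) + c * k * (1 + β * n)) • u + (c * k * (1 + β)) • e) := by
        intro k m n
        module
      have e9 := e8 (stB σ a u x) (stB σ a e x) (σ β)
      rw [h2', zero_smul] at e9
      exact e9
    refine hasT_all hσ hσ2 ha hb hM hu0 hw0 hu hw (hasT_of_inK hσ hσ2 hb hM hu hw ?_ ?_ g5) u' w' hu' hw'
    · refine mul_ne_zero huκ fun h5 => hβ ?_
      linear_combination h5 - β * h2'
    · rw [map_mul, map_add, hσ2, hcc]
      linear_combination (c * (β + σ β)) * h2'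

end Centres

end Cfsg.Agent.H880
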