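import Cfsg.Agent.H880.UScal

/-!
**Stabilisers.** Let `M` lie over the tensor stabiliser and assume that the only elements
`X ↦ X + κ(con w X) ⊗ w` of `M` are those with `κ` scalar. Then every element of `M` that stabilises `U ⊗ w`
(`w` isotropic) is a tensor (`claimD`).
-/

set_option autoImplicit false
set_option linter.unusedSectionVars false

namespace Cfsg.Agent.H880

open Module Cfsg.Agent.ClassicalGeometry Matrix

section Pre

variable {F : Type*} [Field F] {σ : F →+* F} {a b : ℕ}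

/-- `u ↦ u ⊗ x`. -/
def pureL (x : Fin b → F) : (Fin a → F) →ₗ[F] Mat a b F where
  toFun u := vecMulVec u x
  map_add' u u' := Matrix.add_vecMulVec u u' x
  map_smul' c u := Matrix.smul_vecMulVec c u x

/-- `x ↦ u ⊗ x`. -/
def pureR (u : Fin a → F) : (Fin b → F) →ₗ[F] Mat a b F where
  toFun x := vecMulVec u x
  map_add' x x' := Matrix.vecMulVec_add u x x'
  map_smul' c x := by
    show vecMulVec u (c • x) = c • vecMulVec u x
    rw [Matrix.vecMulVec_smul]

theorem pureL_apply (x : Fin b → F) (u : Fin a → F) : pureL x u = (vecMulVec u x : Mat a b F) := rfl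

theorem pureR_apply (u : Fin a → F) (x : Fin b → F) : pureR u x = (vecMulVec u x : Mat a b F) := rfl

/-- The orthogonal complement of `U ⊗ w^⊥` is `U ⊗ w`. -/
theorem eq_pure_of_perp (hσ2 : ∀ x : F, σ (σ x) = x) {w w' : Fin b → F} (hww' : stB σ b w w' = 1) {Z : Mat a b F}
    (hZ : ∀ Y, con σ w Y = 0 → BV σ a b Z Y = 0) : Z = vecMulVec (con σ w' Z) w := by
  rw [← sub_eq_zero]
  apply BV_sepLeft (σ := σ) a b
  intro Y
  have h1 := hZ (Y - vecMulVec (con σ w Y) w') (by rw [map_sub, con_pure, hww', one_smul, sub_self])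
  rw [map_sub, BV_pure_right hσ2] at h1
  rw [map_sub, LinearMap.sub_apply, BV_pure_left]
  exact h1

/-- An isometry that fixes `U ⊗ w` pointwise preserves `con w`. -/
theorem con_of_fix {g : Mat a b F ≃ₗ[F] Mat a b F} (hg : ∀ X Y, BV σ a b (g X) (g Y) = BV σ a b X Y)
    {w : Fin b → F} (hgw : ∀ u, g (vecMulVec u w) = vecMulVec u w) (X : Mat a b F) :
    con σ w (g X) = con σ w X := by
  apply stB_eq_of_forall (σ := σ)
  intro u
  rw [← BV_pure_left, ← BV_pure_left, ← hg _ X, hgw]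

theorem row_perp {w : Fin b → F} {Y : Mat a b F} (h : con σ w Y = 0) (i : Fin a) : stB σ b w (Y i) = 0 :=
  congrFun h i

/-- The formula for `1 ⊗ q_x`, `q_x` a Siegel element. -/
theorem rowE_siegel {q : (Fin b → F) ≃ₗ[F] (Fin b → F)} {w x : Fin b → F} {ν : F}
    (hq : ∀ v, q v = v + stB σ b w v • x - (stB σ b x v + ν * stB σ b w v) • w) (Y : Mat a b F) :
    rowE a q Y = Y + vecMulVec (con σ w Y) x - vecMulVec (con σ x Y + ν • con σ w Y) w := by
  funext i
  rw [rowE_apply, hq]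
  rfl

theorem stB_con_trE (p : Fin a → F) (x : Fin b → F) (X : Mat a b F) :
    stB σ b x (con σ p (trE a b F X)) = stB σ a p (con σ x X) := by
  rw [← BV_pure_left, ← BV_pure_left, ← BV_trE (vecMulVec p x) X, trE_pure]

end Pre

section Stab

variable {F : Type*} [Field F] {σ : F →+* F} [Finite F] {a b : ℕ} {M : Subgroup (Mat a b F ≃ₗ[F] Mat a b F)}

/-- An isometry fixing `U ⊗ w^⊥` pointwise. -/
theorem form_of_fix_perp (hσ2 : ∀ x : F, σ (σ x) = x) {w w' : Fin b → F} (hww' : stB σ b w w' = 1)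
    {k : Mat a b F ≃ₗ[F] Mat a b F} (hk : ∀ X Y, BV σ a b (k X) (k Y) = BV σ a b X Y)
    (hfix : ∀ Y, con σ w Y = 0 → k Y = Y) : ∃ κ : (Fin a → F) →ₗ[F] (Fin a → F),
      ∀ X, k X = X + vecMulVec (κ (con σ w X)) w := by
  let κ : (Fin a → F) →ₗ[F] (Fin a → F) :=
    con σ w' ∘ₗ ((k : Mat a b F →ₗ[F] Mat a b F) - LinearMap.id) ∘ₗ pureL w'
  have hκ : ∀ u, κ u = con σ w' (k (vecMulVec u w') - vecMulVec u w') := fun u => rfl
  refine ⟨κ, fun X => ?_⟩
  have h1 : ∀ X, k X - X = vecMulVec (con σ w' (k X - X)) w := by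
    intro X
    apply eq_pure_of_perp hσ2 hww'
    intro Y hY
    rw [map_sub, LinearMap.sub_apply, sub_eq_zero]
    conv_lhs => rw [← hfix Y hY]
    exact hk X Y
  have h2 := hfix (X - vecMulVec (con σ w X) w') (by rw [map_sub, con_pure, hww', one_smul, sub_self])
  rw [map_sub] at h2
  rw [hκ, ← h1]
  rw [sub_eq_sub_iff_add_eq_add] at h2
  rw [← add_sub_assoc, ← h2]
  abel

/-- **Claim C'.** -/
theorem claimC (hσ : σ ≠ RingHom.id F) (hσ2 : ∀ x : F, σ (σ x) = x) (ha : 1 ≤ a) (hM : Over σ M)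
    {w : Fin b → F} (hw0 : w ≠ 0) (hw : stB σ b w w = 0)
    (hK : ∀ κ : (Fin a → F) →ₗ[F] (Fin a → F), InK σ M w κ → ∃ c : F, ∀ x, κ x = c • x)
    {g : Mat a b F ≃ₗ[F] Mat a b F} (hg : g ∈ M) (hgw : ∀ u, g (vecMulVec u w) = vecMulVec u w)
    (hgp : ∀ Y, con σ w Y = 0 → ∃ u, g Y = Y + vecMulVec u w) :
    (∃ ε : (Fin b → F) →ₗ[F] F, ∀ x, stB σ b w x = 0 → ∀ u, g (vecMulVec u x) = vecMulVec u (x + ε x • w)) ∧
      IsTens g := by
  have hSb := stB_symm hσ2 b
  obtain ⟨w', hww'⟩ := exists_one_std (σ := σ) hw0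
  have hw'w : stB σ b w' w = 1 := by rw [← hSb.eq, hww', map_one]
  have hgiso := hM.iso g hg
  have hgcon := con_of_fix hgiso hgw
  let i0 : Fin a := ⟨0, ha⟩
  let E : (Fin b → F) → (Fin a → F) →ₗ[F] (Fin a → F) := fun x =>
    con σ w' ∘ₗ ((g : Mat a b F →ₗ[F] Mat a b F) - LinearMap.id) ∘ₗ pureL x
  have hE : ∀ x u, E x u = con σ w' (g (vecMulVec u x) - vecMulVec u x) := fun x u => rfl
  have hEx : ∀ x, stB σ b w x = 0 → ∀ u, g (vecMulVec u x) = vecMulVec u x + vecMulVec (E x u) w := by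
    intro x hx u
    obtain ⟨u', hu'⟩ := hgp (vecMulVec u x) (by rw [con_pure, hx, zero_smul])
    rw [hE, hu', add_sub_cancel_left, con_pure, hw'w, one_smul]
  let T : (Fin a → F) → (Mat a b F) := fun u => g (vecMulVec u w') - vecMulVec u w'
  -- the commutators
  have hcomm : ∀ x, stB σ b w x = 0 → InK σ M w (E x + con σ x ∘ₗ ((g : Mat a b F →ₗ[F] Mat a b F) - LinearMap.id) ∘ₗ
      pureL w') := by
    intro x hx
    have hxw := symm_zero hSb hx
    obtain ⟨ν, hν⟩ := HermWitt.trace_surj σ hσ hσ2 (stB σ b x x) (hSb.eq _ _)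
    obtain ⟨q, hq, hqi, hqd⟩ := exists_siegel (B := stB σ b) hSb hw hx hν
    have hQ := hM.rowE_mem (a := a) hqi hqd
    refine ⟨g * rowE a q * g⁻¹ * (rowE a q)⁻¹, M.mul_mem (M.mul_mem (M.mul_mem hg hQ) (M.inv_mem hg)) (M.inv_mem hQ),
      fun X => ?_⟩
    obtain ⟨Y', rfl⟩ := (rowE a q).surjective X
    obtain ⟨Y, rfl⟩ := g.surjective Y'
    show g (rowE a q (g.symm ((rowE a q).symm (rowE a q (g Y))))) = _
    rw [LinearEquiv.symm_apply_apply, LinearEquiv.symm_apply_apply]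
    have hqw : q w = w := by rw [hq, hw, hxw]; simp
    have e1 : con σ w (rowE a q (g Y)) = con σ w Y := by
      have := con_rowE hqi w (g Y)
      rw [hqw] at this
      rw [this, hgcon]
    rw [e1, rowE_siegel hq Y, rowE_siegel hq (g Y), map_sub, map_add, hgw, hEx x hx, hgcon]
    show _ = _ + vecMulVec (E x (con σ w Y) + con σ x (g (vecMulVec (con σ w Y) w') - vecMulVec (con σ w Y) w')) w
    have e2 : con σ x (g Y) = con σ x Y + con σ x (g (vecMulVec (con σ w Y) w') - vecMulVec (con σ w Y) w') := by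
      obtain ⟨u', hu'⟩ := hgp (Y - vecMulVec (con σ w Y) w') (by rw [map_sub, con_pure, hww', one_smul, sub_self])
      rw [map_sub] at hu'
      have h3 : g Y = Y + (g (vecMulVec (con σ w Y) w') - vecMulVec (con σ w Y) w') + vecMulVec u' w := by
        rw [sub_eq_iff_eq_add] at hu'
        rw [hu']; abel
      conv_lhs => rw [h3]
      rw [map_add, map_add, con_pure, hxw, zero_smul, add_zero]
    rw [e2]
    simp only [Matrix.add_vecMulVec]
    abel
  -- `E x` is scalar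
  have hEscal : ∀ x, stB σ b w x = 0 → ∃ c : F, ∀ u, E x u = c • u := by
    intro x hx
    obtain ⟨p, hp⟩ := exists_fix_ne hσ
    obtain ⟨c1, hc1⟩ := hK _ (hcomm x hx)
    obtain ⟨c2, hc2⟩ := hK _ (hcomm (p • x) (by rw [map_smul, hx, smul_zero]))
    have hp' : σ p - p ≠ 0 := sub_ne_zero.mpr hp
    refine ⟨(σ p * c1 - c2) / (σ p - p), fun u => ?_⟩
    have h1 : E x u + con σ x (g (vecMulVec u w') - vecMulVec u w') = c1 • u := hc1 u
    have h2 : E (p • x) u + con σ (p • x) (g (vecMulVec u w') - vecMulVec u w') = c2 • u := hc2 u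
    have h3 : E (p • x) u = p • E x u := by
      rw [hE, hE, Matrix.vecMulVec_smul, map_smul, ← smul_sub, map_smul]
    rw [h3, con_smul] at h2
    have h4 : (σ p - p) • E x u = (σ p * c1 - c2) • u := by
      have : (σ p - p) • E x u = σ p • (E x u + con σ x (g (vecMulVec u w') - vecMulVec u w')) -
          (p • E x u + σ p • con σ x (g (vecMulVec u w') - vecMulVec u w')) := by module
      rw [this, h1, h2]; module
    rw [div_eq_inv_mul, mul_smul, ← h4, smul_smul, inv_mul_cancel₀ hp', one_smul]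
  let ε : (Fin b → F) →ₗ[F] F := LinearMap.proj i0 ∘ₗ con σ w' ∘ₗ ((g : Mat a b F →ₗ[F] Mat a b F) - LinearMap.id) ∘ₗ
    pureR (Pi.single i0 1)
  have hε : ∀ x, ε x = E x (Pi.single i0 1) i0 := fun x => rfl
  have hEε : ∀ x, stB σ b w x = 0 → ∀ u, E x u = ε x • u := by
    intro x hx u
    obtain ⟨c, hc⟩ := hEscal x hx
    rw [hε, hc, hc, Pi.smul_apply, Pi.single_eq_same, smul_eq_mul, mul_one]
  have hgε : ∀ x, stB σ b w x = 0 → ∀ u, g (vecMulVec u x) = vecMulVec u (x + ε x • w) := by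
    intro x hx u
    rw [hEx x hx, hEε x hx, Matrix.vecMulVec_add, Matrix.smul_vecMulVec, Matrix.vecMulVec_smul]
  refine ⟨⟨ε, hgε⟩, ?_⟩
  have hεw : ε w = 0 := by
    rw [hε, hE, hgw, sub_self, map_zero]; rfl
  -- Witt extension
  let X := perp (stB σ b) {w}
  have hX : ∀ x : X, stB σ b w (x : Fin b → F) = 0 := fun x => x.2 w rfl
  let f : X →ₗ[F] (Fin b → F) := (LinearMap.id + ε.smulRight w) ∘ₗ X.subtype
  have hf : ∀ x : X, f x = (x : Fin b → F) + ε x • w := fun x => rfl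
  obtain ⟨z, hz, hzf⟩ := HermWitt.exists_extension σ (stB σ b) hσ hσ2 hSb (stB_sepLeft b) X f
    (by
      rw [← LinearMap.ker_eq_bot, LinearMap.ker_eq_bot']
      intro x hx
      rw [hf] at hx
      have h1 : (x : Fin b → F) = (-ε x) • w := by
        rw [neg_smul]; exact eq_neg_of_add_eq_zero_left hx
      have h2 : ε (x : Fin b → F) = 0 := by
        conv_lhs => rw [h1]
        rw [map_smul, hεw, smul_zero]
      apply Subtype.ext
      rw [h1, h2, neg_zero, zero_smul]; rfl)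
    (by
      intro x x'
      have h1 := hX x
      have h2 := hX x'
      have h3 := symm_zero hSb h1
      rw [hf, hf]
      simp only [map_add, LinearMap.add_apply, LinearMap.map_smulₛₗ₂, map_smul, hw, h2, h3, smul_zero, add_zero])
  have hzX : ∀ x, stB σ b w x = 0 → z x = x + ε x • w := by
    intro x hx
    exact hzf ⟨x, by rw [mem_perp]; rintro _ rfl; exact hx⟩
  set h := rowE a z with hh
  have hhiso := rowE_iso (a := a) hz
  have hgh : ∀ Y, con σ w Y = 0 → g Y = h Y := by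
    intro Y hY
    rw [sum_rows Y, map_sum, map_sum]
    refine Finset.sum_congr rfl fun i _ => ?_
    rw [hgε _ (row_perp hY i), hh, rowE_pure, hzX _ (row_perp hY i)]
  set k := h⁻¹ * g with hk_def
  have hkiso : ∀ X Y, BV σ a b (k X) (k Y) = BV σ a b X Y := by
    intro X Y
    rw [← hhiso (k X), ← hgiso X]
    show BV σ a b (h (h.symm (g X))) (h (h.symm (g Y))) = _
    rw [LinearEquiv.apply_symm_apply, LinearEquiv.apply_symm_apply]
  have hkfix : ∀ Y, con σ w Y = 0 → k Y = Y := by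
    intro Y hY
    show h.symm (g Y) = Y
    rw [LinearEquiv.symm_apply_eq, hgh Y hY]
  obtain ⟨κ, hκ⟩ := form_of_fix_perp hσ2 hww' hkiso hkfix
  have hkd : LinearMap.det (k : Mat a b F →ₗ[F] Mat a b F) = 1 := by
    apply det_eq_one_of_nilpotent (k := 2)
    ext1 Y
    show k (k Y - Y) - (k Y - Y) = 0
    rw [hκ Y, add_sub_cancel_left, hκ, con_pure, hw, zero_smul, map_zero, zero_pure, add_zero, sub_self]
  have hghk : g = h * k := by rw [hk_def, mul_inv_cancel_left]
  have hhd : LinearMap.det (h : Mat a b F →ₗ[F] Mat a b F) = 1 := by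
    have h1 := hM.det g hg
    rw [hghk] at h1
    have h2 : ((h * k : Mat a b F ≃ₗ[F] Mat a b F) : Mat a b F →ₗ[F] Mat a b F)
      = (h : Mat a b F →ₗ[F] Mat a b F) ∘ₗ (k : Mat a b F →ₗ[F] Mat a b F) := rfl
    rw [h2, LinearMap.det_comp, hkd, mul_one] at h1
    exact h1
  have hhM : h ∈ M := hM.ge h hhiso hhd (isTens_rowE z)
  have hkM : k ∈ M := M.mul_mem (M.inv_mem hhM) hg
  obtain ⟨c, hc⟩ := hK κ ⟨k, hkM, hκ⟩
  have hcs : c + σ c = 0 := by
    have h1 := InK.skew hσ2 hM hw0 hw ⟨k, hkM, hκ⟩ (Pi.single i0 1) (Pi.single i0 1)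
    rw [hc, LinearMap.map_smulₛₗ₂, map_smul, stB_single_left, Pi.single_eq_same, smul_eq_mul, smul_eq_mul,
      mul_one, mul_one] at h1
    linear_combination h1
  obtain ⟨t, ht, _, _, _⟩ := exists_tv (B := stB σ b) hSb hw hcs
  have hkt : IsTens k := by
    refine ⟨1, t, fun u x => ?_⟩
    rw [hκ, hc, con_pure, smul_smul, ht, Matrix.vecMulVec_add, Matrix.smul_vecMulVec, Matrix.vecMulVec_smul]
    rfl
  rw [hghk]
  exact (isTens_rowE z).mul hkt

/-- **Claim D.** -/
theorem claimD (hσ : σ ≠ RingHom.id F) (hσ2 : ∀ x : F, σ (σ x) = x) (ha : 1 ≤ a) (hb : 3 ≤ b) (hM : Over σ M)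
    {w : Fin b → F} (hw0 : w ≠ 0) (hw : stB σ b w w = 0)
    (hK : ∀ κ : (Fin a → F) →ₗ[F] (Fin a → F), InK σ M w κ → ∃ c : F, ∀ x, κ x = c • x)
    {g : Mat a b F ≃ₗ[F] Mat a b F} (hg : g ∈ M) (y0 : (Fin a → F) ≃ₗ[F] (Fin a → F))
    (hgw : ∀ u, g (vecMulVec u w) = vecMulVec (y0 u) w) : IsTens g := by
  have hSa := stB_symm hσ2 a
  have hSb := stB_symm hσ2 b
  obtain ⟨w', hww'⟩ := exists_one_std (σ := σ) hw0
  have hw'w : stB σ b w' w = 1 := by rw [← hSb.eq, hww', map_one]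
  have hgiso := hM.iso g hg
  have hgcon : ∀ Y, con σ w Y = 0 → con σ w (g Y) = 0 := by
    intro Y hY
    rw [con_eq_zero_iff] at hY ⊢
    intro u
    obtain ⟨u', rfl⟩ := y0.surjective u
    rw [← hgw, hgiso, hY]
  -- first contraction
  have hcx : ∀ x, stB σ b w x = 0 → ∃ ε : (Fin b → F) →ₗ[F] F, ∀ v, stB σ b w v = 0 → ∀ u,
      con σ x (g (vecMulVec u v)) = ε v • y0 u := by
    intro x hx
    have hxw := symm_zero hSb hx
    obtain ⟨ν, hν⟩ := HermWitt.trace_surj σ hσ hσ2 (stB σ b x x) (hSb.eq _ _)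
    obtain ⟨q, hq, hqi, hqd⟩ := exists_siegel (B := stB σ b) hSb hw hx hν
    have hQ := hM.rowE_mem (a := a) hqi hqd
    have hqw : q w = w := by rw [hq, hw, hxw]; simp
    have hg1 : g⁻¹ * rowE a q * g ∈ M := M.mul_mem (M.mul_mem (M.inv_mem hg) hQ) hg
    have e1 : ∀ Y, con σ w Y = 0 → (g⁻¹ * rowE a q * g) Y = Y + vecMulVec (-(y0.symm (con σ x (g Y)))) w := by
      intro Y hY
      show g.symm (rowE a q (g Y)) = _
      rw [LinearEquiv.symm_apply_eq, rowE_siegel hq, map_add, hgw, hgcon Y hY, map_neg,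
        LinearEquiv.apply_symm_apply, zero_pure, smul_zero, add_zero, add_zero, Matrix.neg_vecMulVec, sub_eq_add_neg]
    obtain ⟨⟨ε, hε⟩, _⟩ := claimC hσ hσ2 ha hM hw0 hw hK hg1 (by
        intro u
        show g.symm (rowE a q (g (vecMulVec u w))) = _
        rw [hgw, rowE_pure, hqw, LinearEquiv.symm_apply_eq, hgw]) (fun Y hY => ⟨_, e1 Y hY⟩)
    refine ⟨-ε, fun v hv u => ?_⟩
    have h1 := hε v hv u
    rw [e1 _ (by rw [con_pure, hv, zero_smul]), Matrix.vecMulVec_add, Matrix.vecMulVec_smul] at h1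
    have h2 := add_left_cancel h1
    have h3 := congrArg (con σ w') h2
    rw [map_smul, con_pure, con_pure, hw'w, one_smul, one_smul] at h3
    have h4 := congrArg y0 h3
    rw [map_neg, LinearEquiv.apply_symm_apply, map_smul] at h4
    rw [← neg_neg (con σ x (g (vecMulVec u v))), h4, LinearMap.neg_apply, neg_smul]
  -- the map `ζ`
  let i0 : Fin a := ⟨0, ha⟩
  set e0 : Fin a → F := Pi.single i0 1 with he0
  have he00 : e0 ≠ 0 := by
    intro h
    have := congrFun h i0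
    rw [he0, Pi.single_eq_same] at this
    exact one_ne_zero this
  have he0n : stB σ a e0 e0 = 1 := by rw [he0, stB_single_left, Pi.single_eq_same]
  have hy0e0 : y0 e0 ≠ 0 := by
    intro h
    exact he00 ((LinearEquiv.map_eq_zero_iff y0).mp h)
  obtain ⟨p, hp⟩ := exists_one_std (σ := σ) hy0e0
  have hp' : stB σ a p (y0 e0) = 1 := by rw [← hSa.eq, hp, map_one]
  let ζ : (Fin b → F) →ₗ[F] (Fin b → F) := con σ p ∘ₗ (trE a b F : Mat a b F →ₗ[F] Mat b a F) ∘ₗ
    (g : Mat a b F →ₗ[F] Mat a b F) ∘ₗ pureR e0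
  have hζ : ∀ v, ζ v = con σ p (trE a b F (g (vecMulVec e0 v))) := fun v => rfl
  have hζc : ∀ x v, stB σ b x (ζ v) = stB σ a p (con σ x (g (vecMulVec e0 v))) := fun x v => by
    rw [hζ, stB_con_trE]
  have hζw : ζ w = w := by
    rw [hζ, hgw, trE_pure, con_pure, hp', one_smul]
  have hζp : ∀ v, stB σ b w v = 0 → stB σ b w (ζ v) = 0 := by
    intro v hv
    rw [hζc, hgcon _ (by rw [con_pure, hv, zero_smul]), map_zero]
  have hcζ : ∀ x v, stB σ b w x = 0 → stB σ b w v = 0 → ∀ u, con σ x (g (vecMulVec u v)) = stB σ b x (ζ v) • y0 u := by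
    intro x v hx hv u
    obtain ⟨ε, hε⟩ := hcx x hx
    rw [hε v hv, hζc, hε v hv, map_smul, hp', smul_eq_mul, mul_one]
  -- the shape of `g` on `U ⊗ w^⊥`
  have hgform : ∀ u v, stB σ b w v = 0 → ∃ u', g (vecMulVec u v) = vecMulVec (y0 u) (ζ v) + vecMulVec u' w := by
    intro u v hv
    refine ⟨con σ w' (g (vecMulVec u v) - vecMulVec (y0 u) (ζ v)), ?_⟩
    rw [← eq_pure_of_perp hσ2 hww' (Z := g (vecMulVec u v) - vecMulVec (y0 u) (ζ v)) ?_]
    · abel
    · intro Y hY
      apply symm_zero (BV_symm hσ2 a b)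
      rw [BV_apply]
      apply Finset.sum_eq_zero
      intro i _
      have h1 := hcζ (Y i) v (row_perp hY i) hv u
      have h2 : con σ (Y i) (g (vecMulVec u v) - vecMulVec (y0 u) (ζ v)) = 0 := by
        rw [map_sub, h1, con_pure, sub_self]
      exact congrFun h2 i
  -- the norm relation
  have hnorm : ∀ u u' v v', stB σ b w v = 0 → stB σ b w v' = 0 →
      stB σ a u u' * stB σ b v v' = stB σ a (y0 u) (y0 u') * stB σ b (ζ v) (ζ v') := by
    intro u u' v v' hv hv'
    obtain ⟨p1, h1⟩ := hgform u v hv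
    obtain ⟨p2, h2⟩ := hgform u' v' hv'
    have h3 := hgiso (vecMulVec u v) (vecMulVec u' v')
    rw [h1, h2, BV_pure] at h3
    rw [← h3]
    simp only [map_add, LinearMap.add_apply, BV_pure, hζp v' hv', symm_zero hSb (hζp v hv), hw]
    ring
  obtain ⟨e, hwe, hee⟩ := exists_unit_perp_of_ne (B := stB σ b) hσ hσ2 hSb (stB_sepLeft b) (by simpa using hb) w
  set μ := stB σ b (ζ e) (ζ e) with hμ
  have hμσ : σ μ = μ := hSb.eq _ _
  have hyμ : ∀ u u', stB σ a u u' = stB σ a (y0 u) (y0 u') * μ := by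
    intro u u'
    rw [hμ, ← hnorm u u' e e hwe hwe, hee, mul_one]
  have hμ0 : μ ≠ 0 := by
    intro h
    have := hyμ e0 e0
    rw [h, mul_zero, he0n] at this
    exact one_ne_zero this
  obtain ⟨c, hc0, hc⟩ := HermWitt.norm_surj σ hσ hσ2 μ⁻¹ (by rw [map_inv₀, hμσ]) (inv_ne_zero hμ0)
  have hσc : σ c ≠ 0 := by simpa using hc0
  -- isometries
  let y1 : (Fin a → F) ≃ₗ[F] (Fin a → F) := y0.trans (LinearEquiv.smulOfNeZero F (Fin a → F) c⁻¹ (inv_ne_zero hc0))
  have hy1 : ∀ u, y1 u = c⁻¹ • y0 u := fun u => rfl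
  have hy1i : ∀ x y, stB σ a (y1 x) (y1 y) = stB σ a x y := by
    intro x y
    rw [hy1, hy1, LinearMap.map_smulₛₗ₂, map_smul, hyμ x y, smul_eq_mul, smul_eq_mul, map_inv₀]
    have h1 : μ = c⁻¹ * (σ c)⁻¹ := by rw [← mul_inv, hc, inv_inv]
    rw [h1]; ring
  have hζμ : ∀ v v', stB σ b w v = 0 → stB σ b w v' = 0 → stB σ b (ζ v) (ζ v') = μ * stB σ b v v' := by
    intro v v' hv hv'
    have h1 := hnorm e0 e0 v v' hv hv'
    have h2 := hyμ e0 e0
    rw [he0n] at h1 h2
    linear_combination (-(μ : F)) * h1 - (stB σ b (ζ v) (ζ v')) * (-h2)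
  let X := perp (stB σ b) {w}
  have hX : ∀ x : X, stB σ b w (x : Fin b → F) = 0 := fun x => x.2 w rfl
  let f : X →ₗ[F] (Fin b → F) := (c • ζ) ∘ₗ X.subtype
  have hf : ∀ x : X, f x = c • ζ x := fun x => rfl
  obtain ⟨z, hz, hzf⟩ := HermWitt.exists_extension σ (stB σ b) hσ hσ2 hSb (stB_sepLeft b) X f
    (by
      rw [← LinearMap.ker_eq_bot, LinearMap.ker_eq_bot']
      intro x hx
      rw [hf] at hx
      have h1 : ζ (x : Fin b → F) = 0 := (smul_eq_zero.mp hx).resolve_left hc0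
      obtain ⟨u', hu'⟩ := hgform e0 x (hX x)
      rw [h1, pure_zero, zero_add] at hu'
      have h2 : vecMulVec e0 (x : Fin b → F) = vecMulVec (y0.symm u') w := by
        apply g.injective
        rw [hu', hgw, LinearEquiv.apply_symm_apply]
      have h3 : (x : Fin b → F) = (y0.symm u') i0 • w := by
        have h4 := congrFun h2 i0
        rw [pure_row, pure_row, he0, Pi.single_eq_same, one_smul] at h4
        exact h4
      have h5 : (y0.symm u') i0 • w = 0 := by
        rw [h3, map_smul, hζw] at h1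
        exact h1
      apply Subtype.ext
      rw [h3, h5]; rfl)
    (by
      intro x x'
      rw [hf, hf, LinearMap.map_smulₛₗ₂, map_smul, hζμ _ _ (hX x) (hX x'), smul_eq_mul, smul_eq_mul]
      have h1 : σ c * (c * (μ * stB σ b x x')) = (c * σ c) * μ * stB σ b x x' := by ring
      rw [h1, hc, inv_mul_cancel₀ hμ0, one_mul])
  have hzX : ∀ x, stB σ b w x = 0 → z x = c • ζ x := by
    intro x hx
    exact hzf ⟨x, by rw [mem_perp]; rintro _ rfl; exact hx⟩
  set h := colE b y1 * rowE a z with hh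
  have hhp : ∀ u v, h (vecMulVec u v) = vecMulVec (y1 u) (z v) := by
    intro u v
    show colE b y1 (rowE a z (vecMulVec u v)) = _
    rw [rowE_pure, colE_pure]
  have hhiso : ∀ X Y, BV σ a b (h X) (h Y) = BV σ a b X Y := by
    intro X Y
    show BV σ a b (colE b y1 (rowE a z X)) (colE b y1 (rowE a z Y)) = _
    rw [colE_iso hy1i, rowE_iso hz]
  have hhw : ∀ u, h (vecMulVec u w) = vecMulVec (y0 u) w := by
    intro u
    rw [hhp, hzX w hw, hζw, hy1, Matrix.smul_vecMulVec, Matrix.vecMulVec_smul, smul_smul, inv_mul_cancel₀ hc0,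
      one_smul]
  have hhv : ∀ u v, stB σ b w v = 0 → h (vecMulVec u v) = vecMulVec (y0 u) (ζ v) := by
    intro u v hv
    rw [hhp, hzX v hv, hy1, Matrix.smul_vecMulVec, Matrix.vecMulVec_smul, smul_smul, inv_mul_cancel₀ hc0,
      one_smul]
  set k := h⁻¹ * g with hk_def
  have hkiso : ∀ X Y, BV σ a b (k X) (k Y) = BV σ a b X Y := by
    intro X Y
    rw [← hhiso (k X), ← hgiso X]
    show BV σ a b (h (h.symm (g X))) (h (h.symm (g Y))) = _
    rw [LinearEquiv.apply_symm_apply, LinearEquiv.apply_symm_apply]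
  have hkw : ∀ u, k (vecMulVec u w) = vecMulVec u w := by
    intro u
    show h.symm (g _) = _
    rw [LinearEquiv.symm_apply_eq, hgw, hhw]
  have hkp : ∀ Y, con σ w Y = 0 → ∃ u, k Y = Y + vecMulVec u w := by
    intro Y hY
    have h1 : ∀ i : Fin a, ∃ u', k (vecMulVec (Pi.single i 1) (Y i)) = vecMulVec (Pi.single i 1) (Y i) +
        vecMulVec u' w := by
      intro i
      obtain ⟨u', hu'⟩ := hgform (Pi.single i 1) (Y i) (row_perp hY i)
      refine ⟨y0.symm u', ?_⟩
      show h.symm (g _) = _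
      rw [LinearEquiv.symm_apply_eq, map_add, hhw, hhv _ _ (row_perp hY i), LinearEquiv.apply_symm_apply, hu']
    choose u' hu' using h1
    refine ⟨∑ i, u' i, ?_⟩
    conv_lhs => rw [sum_rows Y]
    rw [map_sum, Finset.sum_congr rfl fun i _ => hu' i, Finset.sum_add_distrib, ← sum_rows]
    congr 1
    exact (map_sum (pureL w) u' Finset.univ).symm
  have hkd : LinearMap.det (k : Mat a b F →ₗ[F] Mat a b F) = 1 := by
    apply det_eq_one_of_nilpotent (k := 3)
    ext1 Y
    show k (k (k Y - Y) - (k Y - Y)) - (k (k Y - Y) - (k Y - Y)) = 0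
    have h1 : con σ w (k Y - Y) = 0 := by rw [map_sub, con_of_fix hkiso hkw, sub_self]
    obtain ⟨u, hu⟩ := hkp _ h1
    rw [hu, add_sub_cancel_left, hkw, sub_self]
  have hghk : g = h * k := by rw [hk_def, mul_inv_cancel_left]
  have hhd : LinearMap.det (h : Mat a b F →ₗ[F] Mat a b F) = 1 := by
    have h1 := hM.det g hg
    rw [hghk] at h1
    have h2 : ((h * k : Mat a b F ≃ₗ[F] Mat a b F) : Mat a b F →ₗ[F] Mat a b F)
      = (h : Mat a b F →ₗ[F] Mat a b F) ∘ₗ (k : Mat a b F →ₗ[F] Mat a b F) := rfl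
    rw [h2, LinearMap.det_comp, hkd, mul_one] at h1
    exact h1
  have hht : IsTens h := ⟨y1, z, hhp⟩
  have hhM : h ∈ M := hM.ge h hhiso hhd hht
  have hkM : k ∈ M := M.mul_mem (M.inv_mem hhM) hg
  obtain ⟨_, hkt⟩ := claimC hσ hσ2 ha hM hw0 hw hK hkM hkw hkp
  rw [hghk]
  exact hht.mul hkt

end Stab

end Cfsg.Agent.H880
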