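import Cfsg.Agent.H880.Herm

/-!
The tensor product of two standard hermitian spaces `F^a`, `F^b`, realised on `a × b` matrices: forms `stB`, `BV`,
contractions `con`, the actions `rowE z = 1 ⊗ z`, `colE y = y ⊗ 1`, tensor elements `IsTens`.
-/

set_option autoImplicit false

namespace Cfsg.Agent.H880

open Module Cfsg.Agent.ClassicalGeometry Matrix

/-- Matrices as the tensor product `F^a ⊗ F^b`. -/
abbrev Mat (a b : ℕ) (F : Type*) := Matrix (Fin a) (Fin b) F

section Def

variable {F : Type*} [Field F] (σ : F →+* F)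

/-- The standard hermitian form `∑ σ(x_i) y_i`. -/
def stB (n : ℕ) : (Fin n → F) →ₛₗ[σ] (Fin n → F) →ₗ[F] F :=
  LinearMap.mk₂'ₛₗ σ (RingHom.id F) (fun x y => ∑ i, σ (x i) * y i)
    (fun x x' y => by simp [add_mul, Finset.sum_add_distrib])
    (fun c x y => by simp [Finset.mul_sum, mul_assoc])
    (fun x y y' => by simp [mul_add, Finset.sum_add_distrib])
    (fun c x y => by
      simp only [Pi.smul_apply, smul_eq_mul, RingHom.id_apply, Finset.mul_sum]
      exact Finset.sum_congr rfl fun i _ => by ring)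

theorem stB_apply {n : ℕ} (x y : Fin n → F) : stB σ n x y = ∑ i, σ (x i) * y i := rfl

/-- The hermitian form on matrices. -/
def BV (a b : ℕ) : Mat a b F →ₛₗ[σ] Mat a b F →ₗ[F] F :=
  LinearMap.mk₂'ₛₗ σ (RingHom.id F) (fun X Y => ∑ i, stB σ b (X i) (Y i))
    (fun X X' Y => by
      rw [← Finset.sum_add_distrib]
      refine Finset.sum_congr rfl fun i _ => ?_
      have : (X + X') i = X i + X' i := rfl
      rw [this, map_add, LinearMap.add_apply])
    (fun c X Y => by
      rw [smul_eq_mul, Finset.mul_sum]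
      refine Finset.sum_congr rfl fun i _ => ?_
      have : (c • X) i = c • X i := rfl
      rw [this, LinearMap.map_smulₛₗ₂, smul_eq_mul])
    (fun X Y Y' => by
      rw [← Finset.sum_add_distrib]
      refine Finset.sum_congr rfl fun i _ => ?_
      have : (Y + Y') i = Y i + Y' i := rfl
      rw [this, map_add])
    (fun c X Y => by
      rw [smul_eq_mul, RingHom.id_apply, Finset.mul_sum]
      refine Finset.sum_congr rfl fun i _ => ?_
      have : (c • Y) i = c • Y i := rfl
      rw [this, map_smul, smul_eq_mul])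

theorem BV_apply {a b : ℕ} (X Y : Mat a b F) : BV σ a b X Y = ∑ i, stB σ b (X i) (Y i) := rfl

/-- The contraction of `X` with `w`: `(con w X)_i = B(w, X_i)`. -/
def con {a b : ℕ} (w : Fin b → F) : Mat a b F →ₗ[F] (Fin a → F) where
  toFun X := fun i => stB σ b w (X i)
  map_add' X Y := by
    funext i
    show stB σ b w (X i + Y i) = _
    rw [map_add]; rfl
  map_smul' c X := by
    funext i
    show stB σ b w (c • X i) = _
    rw [map_smul]; rfl

theorem con_apply {a b : ℕ} (w : Fin b → F) (X : Mat a b F) (i : Fin a) : con σ w X i = stB σ b w (X i) := rfl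

end Def

section Basic

variable {F : Type*} [Field F] {σ : F →+* F} {a b : ℕ}

theorem stB_symm (hσ2 : ∀ x : F, σ (σ x) = x) (n : ℕ) : (stB σ n).IsSymm := by
  refine ⟨fun x y => ?_⟩
  rw [stB_apply, stB_apply, map_sum]
  refine Finset.sum_congr rfl fun i _ => ?_
  rw [map_mul, hσ2, mul_comm]

theorem stB_single_left (n : ℕ) (i : Fin n) (x : Fin n → F) : stB σ n (Pi.single i 1) x = x i := by
  rw [stB_apply, Finset.sum_eq_single i]
  · simp
  · intro j _ hj; simp [Pi.single_eq_of_ne hj]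
  · intro h; exact absurd (Finset.mem_univ i) h

theorem stB_single_right (n : ℕ) (i : Fin n) (x : Fin n → F) : stB σ n x (Pi.single i 1) = σ (x i) := by
  rw [stB_apply, Finset.sum_eq_single i]
  · simp
  · intro j _ hj; simp [Pi.single_eq_of_ne hj]
  · intro h; exact absurd (Finset.mem_univ i) h

theorem stB_sepLeft (n : ℕ) : (stB σ n).SeparatingLeft := by
  intro x hx
  funext i
  have h := hx (Pi.single i 1)
  rw [stB_single_right] at h
  exact (map_eq_zero σ).mp h

theorem stB_eq_of_forall {n : ℕ} {x y : Fin n → F} (h : ∀ z, stB σ n z x = stB σ n z y) : x = y := by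
  funext i
  have := h (Pi.single i 1)
  rwa [stB_single_left, stB_single_left] at this

theorem BV_symm (hσ2 : ∀ x : F, σ (σ x) = x) (a b : ℕ) : (BV σ a b).IsSymm := by
  refine ⟨fun X Y => ?_⟩
  rw [BV_apply, BV_apply, map_sum]
  exact Finset.sum_congr rfl fun i _ => (stB_symm hσ2 b).eq _ _

/-- The `i`-th row of a pure tensor. -/
theorem pure_row (u : Fin a → F) (w : Fin b → F) (i : Fin a) : (vecMulVec u w) i = u i • w := rfl

theorem BV_pure_left (u : Fin a → F) (w : Fin b → F) (X : Mat a b F) :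
    BV σ a b (vecMulVec u w) X = stB σ a u (con σ w X) := by
  rw [BV_apply, stB_apply]
  refine Finset.sum_congr rfl fun i _ => ?_
  rw [pure_row, LinearMap.map_smulₛₗ₂, con_apply, smul_eq_mul]

theorem con_pure (w : Fin b → F) (u : Fin a → F) (x : Fin b → F) :
    con σ w (vecMulVec u x) = stB σ b w x • u := by
  funext i
  rw [con_apply, pure_row, map_smul, smul_eq_mul, Pi.smul_apply, smul_eq_mul, mul_comm]

theorem con_add (w w' : Fin b → F) (X : Mat a b F) : con σ (w + w') X = con σ w X + con σ w' X := by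
  funext i
  rw [con_apply, map_add, LinearMap.add_apply]; rfl

theorem con_smul (c : F) (w : Fin b → F) (X : Mat a b F) : con σ (c • w) X = σ c • con σ w X := by
  funext i
  rw [con_apply, LinearMap.map_smulₛₗ₂]; rfl

theorem BV_pure_right (hσ2 : ∀ x : F, σ (σ x) = x) (u : Fin a → F) (w : Fin b → F) (X : Mat a b F) :
    BV σ a b X (vecMulVec u w) = stB σ a (con σ w X) u := by
  rw [← (BV_symm hσ2 a b).eq, BV_pure_left, (stB_symm hσ2 a).eq]

theorem BV_pure (u u' : Fin a → F) (w w' : Fin b → F) :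
    BV σ a b (vecMulVec u w) (vecMulVec u' w') = stB σ a u u' * stB σ b w w' := by
  rw [BV_pure_left, con_pure, map_smul, smul_eq_mul, mul_comm]

theorem BV_sepLeft (a b : ℕ) : (BV σ a b).SeparatingLeft := by
  intro X hX
  funext i
  have : X i = 0 := by
    apply stB_sepLeft (σ := σ) b
    intro y
    have h := hX (vecMulVec (Pi.single i 1) y)
    rw [BV_apply, Finset.sum_eq_single i] at h
    · rw [pure_row, Pi.single_eq_same, one_smul] at h
      exact h
    · intro j _ hj
      rw [pure_row, Pi.single_eq_of_ne hj, zero_smul, map_zero]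
    · intro h'; exact absurd (Finset.mem_univ i) h'
  exact this

theorem sum_rows (X : Mat a b F) : X = ∑ i, vecMulVec (Pi.single i (1 : F)) (X i) := by
  ext i j
  rw [Matrix.sum_apply, Finset.sum_eq_single i]
  · simp [vecMulVec_apply]
  · intro k _ hk; simp [vecMulVec_apply, Pi.single_eq_of_ne (Ne.symm hk)]
  · intro h; exact absurd (Finset.mem_univ i) h

/-- Linear maps that agree on pure tensors are equal. -/
theorem ext_pure {X : Type*} [AddCommGroup X] [Module F X] {f g : Mat a b F →ₗ[F] X}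
    (h : ∀ u w, f (vecMulVec u w) = g (vecMulVec u w)) : f = g := by
  ext1 Y
  rw [sum_rows Y, map_sum, map_sum]
  exact Finset.sum_congr rfl fun i _ => h _ _

theorem ext_pure' {X : Type*} [AddCommGroup X] [Module F X] {f g : Mat a b F ≃ₗ[F] X}
    (h : ∀ u w, f (vecMulVec u w) = g (vecMulVec u w)) : f = g := by
  apply LinearEquiv.toLinearMap_injective
  exact ext_pure h

/-- `1 ⊗ z`. -/
def rowE (a : ℕ) (z : (Fin b → F) ≃ₗ[F] (Fin b → F)) : Mat a b F ≃ₗ[F] Mat a b F where
  toFun X := fun i => z (X i)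
  invFun X := fun i => z.symm (X i)
  map_add' X Y := by
    funext i
    exact map_add z (X i) (Y i)
  map_smul' c X := by
    funext i
    exact map_smul z c (X i)
  left_inv X := by
    funext i
    exact z.symm_apply_apply (X i)
  right_inv X := by
    funext i
    exact z.apply_symm_apply (X i)

theorem rowE_apply (z : (Fin b → F) ≃ₗ[F] (Fin b → F)) (X : Mat a b F) (i : Fin a) : rowE a z X i = z (X i) := rfl

theorem rowE_pure (z : (Fin b → F) ≃ₗ[F] (Fin b → F)) (u : Fin a → F) (w : Fin b → F) :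
    rowE a z (vecMulVec u w) = vecMulVec u (z w) := by
  funext i
  rw [rowE_apply, pure_row, pure_row, map_smul]

theorem rowE_iso {z : (Fin b → F) ≃ₗ[F] (Fin b → F)} (hz : ∀ x y, stB σ b (z x) (z y) = stB σ b x y)
    (X Y : Mat a b F) : BV σ a b (rowE a z X) (rowE a z Y) = BV σ a b X Y := by
  rw [BV_apply, BV_apply]
  exact Finset.sum_congr rfl fun i _ => hz _ _

theorem rowE_det (z : (Fin b → F) ≃ₗ[F] (Fin b → F)) :
    LinearMap.det (rowE a z : Mat a b F →ₗ[F] Mat a b F) = (LinearMap.det (z : (Fin b → F) →ₗ[F] (Fin b → F))) ^ a := by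
  have h := LinearMap.det_pi (R := F) (M := Fin b → F) (fun _ : Fin a => (z : (Fin b → F) →ₗ[F] (Fin b → F)))
  rw [Finset.prod_const, Finset.card_univ, Fintype.card_fin] at h
  exact h

/-- Transposition. -/
def trE (a b : ℕ) (F : Type*) [Field F] : Mat a b F ≃ₗ[F] Mat b a F where
  toFun X := Xᵀ
  invFun X := Xᵀ
  map_add' X Y := rfl
  map_smul' c X := rfl
  left_inv X := rfl
  right_inv X := rfl

theorem trE_apply (X : Mat a b F) : trE a b F X = Xᵀ := rfl

theorem trE_symm : (trE a b F).symm = trE b a F := rfl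

theorem trE_pure (u : Fin a → F) (w : Fin b → F) : trE a b F (vecMulVec u w) = vecMulVec w u := by
  rw [trE_apply]; ext i j; simp [vecMulVec_apply, mul_comm]

theorem BV_trE (X Y : Mat a b F) : BV σ b a (trE a b F X) (trE a b F Y) = BV σ a b X Y := by
  simp only [BV_apply, stB_apply, trE_apply, Matrix.transpose_apply]
  exact Finset.sum_comm

/-- `y ⊗ 1`. -/
def colE (b : ℕ) (y : (Fin a → F) ≃ₗ[F] (Fin a → F)) : Mat a b F ≃ₗ[F] Mat a b F :=
  (trE a b F).trans ((rowE b y).trans (trE b a F))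

theorem colE_apply (y : (Fin a → F) ≃ₗ[F] (Fin a → F)) (X : Mat a b F) :
    colE b y X = trE b a F (rowE b y (trE a b F X)) := rfl

theorem colE_pure (y : (Fin a → F) ≃ₗ[F] (Fin a → F)) (u : Fin a → F) (w : Fin b → F) :
    colE b y (vecMulVec u w) = vecMulVec (y u) w := by
  rw [colE_apply, trE_pure, rowE_pure, trE_pure]

theorem colE_iso {y : (Fin a → F) ≃ₗ[F] (Fin a → F)} (hy : ∀ x x', stB σ a (y x) (y x') = stB σ a x x')
    (X Y : Mat a b F) : BV σ a b (colE b y X) (colE b y Y) = BV σ a b X Y := by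
  rw [colE_apply, colE_apply, BV_trE, rowE_iso hy, BV_trE]

theorem colE_det (y : (Fin a → F) ≃ₗ[F] (Fin a → F)) :
    LinearMap.det (colE b y : Mat a b F →ₗ[F] Mat a b F) = (LinearMap.det (y : (Fin a → F) →ₗ[F] (Fin a → F))) ^ b := by
  rw [← rowE_det (a := b) y]
  have h := LinearMap.det_conj (rowE b y : Mat b a F →ₗ[F] Mat b a F) (trE b a F)
  rw [← h]
  rfl

/-- Tensor elements: `u ⊗ w ↦ y u ⊗ z w`. -/
def IsTens (g : Mat a b F ≃ₗ[F] Mat a b F) : Prop :=
  ∃ (y : (Fin a → F) ≃ₗ[F] (Fin a → F)) (z : (Fin b → F) ≃ₗ[F] (Fin b → F)),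
    ∀ u w, g (vecMulVec u w) = vecMulVec (y u) (z w)

theorem IsTens.one : IsTens (1 : Mat a b F ≃ₗ[F] Mat a b F) := ⟨1, 1, fun _ _ => rfl⟩

theorem IsTens.mul {g h : Mat a b F ≃ₗ[F] Mat a b F} (hg : IsTens g) (hh : IsTens h) : IsTens (g * h) := by
  obtain ⟨y, z, hyz⟩ := hg
  obtain ⟨y', z', hyz'⟩ := hh
  refine ⟨y * y', z * z', fun u w => ?_⟩
  show g (h _) = _
  rw [hyz', hyz]; rfl

theorem IsTens.inv {g : Mat a b F ≃ₗ[F] Mat a b F} (hg : IsTens g) : IsTens g⁻¹ := by
  obtain ⟨y, z, hyz⟩ := hg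
  refine ⟨y⁻¹, z⁻¹, fun u w => ?_⟩
  show g.symm _ = _
  rw [LinearEquiv.symm_apply_eq, hyz]
  show _ = vecMulVec (y (y.symm u)) (z (z.symm w))
  rw [LinearEquiv.apply_symm_apply, LinearEquiv.apply_symm_apply]

theorem isTens_rowE (z : (Fin b → F) ≃ₗ[F] (Fin b → F)) : IsTens (rowE a z) := ⟨1, z, fun u w => rowE_pure z u w⟩

theorem isTens_colE (y : (Fin a → F) ≃ₗ[F] (Fin a → F)) : IsTens (colE b y) := ⟨y, 1, fun u w => colE_pure y u w⟩

/-- `M` lies between the tensor stabiliser and `SU(V)`. -/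
structure Over (σ : F →+* F) (M : Subgroup (Mat a b F ≃ₗ[F] Mat a b F)) : Prop where
  iso : ∀ g ∈ M, ∀ X Y, BV σ a b (g X) (g Y) = BV σ a b X Y
  det : ∀ g ∈ M, LinearMap.det (g : Mat a b F →ₗ[F] Mat a b F) = 1
  ge : ∀ g : Mat a b F ≃ₗ[F] Mat a b F, (∀ X Y, BV σ a b (g X) (g Y) = BV σ a b X Y) →
    LinearMap.det (g : Mat a b F →ₗ[F] Mat a b F) = 1 → IsTens g → g ∈ M

theorem Over.rowE_mem {M : Subgroup (Mat a b F ≃ₗ[F] Mat a b F)} (hM : Over σ M)
    {z : (Fin b → F) ≃ₗ[F] (Fin b → F)} (hz : ∀ x y, stB σ b (z x) (z y) = stB σ b x y)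
    (hd : LinearMap.det (z : (Fin b → F) →ₗ[F] (Fin b → F)) = 1) : rowE a z ∈ M :=
  hM.ge _ (rowE_iso hz) (by rw [rowE_det, hd, one_pow]) (isTens_rowE z)

theorem Over.colE_mem {M : Subgroup (Mat a b F ≃ₗ[F] Mat a b F)} (hM : Over σ M)
    {y : (Fin a → F) ≃ₗ[F] (Fin a → F)} (hy : ∀ x x', stB σ a (y x) (y x') = stB σ a x x')
    (hd : LinearMap.det (y : (Fin a → F) →ₗ[F] (Fin a → F)) = 1) : colE b y ∈ M :=
  hM.ge _ (colE_iso hy) (by rw [colE_det, hd, one_pow]) (isTens_colE y)

end Basic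

end Cfsg.Agent.H880
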