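import Cfsg.Agent.H880.UAdj

/-!
**Small dimensions, part 1.** Generation for `b ≥ 3`, `q ≥ 3` (`gen_all3`) and the analogue `claimA2` of `claimA` for
`b ≥ 2`.
-/

set_option autoImplicit false
set_option linter.unusedSectionVars false

namespace Cfsg.Agent.H880

open Module Cfsg.Agent.ClassicalGeometry Matrix

section Gen

variable {F : Type*} [Field F] {σ : F →+* F} [Finite F] {a b : ℕ} {M : Subgroup (Mat a b F ≃ₗ[F] Mat a b F)}

/-- An element `β` with `σ β - β` a given skew element. -/
theorem exists_skew_part (hσ : σ ≠ RingHom.id F) (hσ2 : ∀ x : F, σ (σ x) = x) {s : F} (hs : s + σ s = 0) :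
    ∃ β, σ β - β = s := by
  obtain ⟨l, hl0, hl⟩ := exists_skew hσ hσ2
  have hσl : σ l = -l := by linear_combination hl
  have hσs : σ s = -s := by linear_combination hs
  obtain ⟨t, ht⟩ := HermWitt.trace_surj σ hσ hσ2 (-(s / l)) (by
    rw [map_neg, map_div₀, hσl, hσs]; field_simp)
  refine ⟨l * t, ?_⟩
  rw [map_mul, hσl]
  have h : s = -(l * (t + σ t)) := by rw [ht]; field_simp
  rw [h]; ring

/-- All pure tensors `u ⊗ w` with `u` isotropic are centres (`b ≥ 3`, `q ≥ 3`). -/
theorem gen_pure3 (hσ : σ ≠ RingHom.id F) (hσ2 : ∀ x : F, σ (σ x) = x) (hb : 3 ≤ b)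
    (hq : ∃ ρ : F, σ ρ = ρ ∧ ρ ≠ 0 ∧ ρ ≠ -1) (hM : Over σ M)
    (h0 : ∀ u w, stB σ a u u = 0 → stB σ b w w = 0 → HasT (BV σ a b) M (vecMulVec u w))
    (u : Fin a → F) (hu : stB σ a u u = 0) (w : Fin b → F) : HasT (BV σ a b) M (vecMulVec u w) := by
  have hSa := stB_symm hσ2 a
  have hSb := stB_symm hσ2 b
  have hSV := BV_symm hσ2 a b
  by_cases hu0 : u = 0
  · subst hu0
    rw [zero_pure]; exact HasT.zero
  by_cases hw : stB σ b w w = 0
  · exact h0 u w hu hw
  obtain ⟨u', huu', hu'⟩ := exists_partner_std hσ hσ2 hu0 hu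
  have hu'u : stB σ a u' u = 1 := by rw [← hSa.eq, huu', map_one]
  -- coordinates in `W`
  obtain ⟨p, _, hp0, hp⟩ := exists_isotropic (B := stB σ b) hσ hσ2 hSb ⊤ (by rw [finrank_top, finrank_fin_fun]; omega)
  obtain ⟨h, hph, hh⟩ := exists_partner_std hσ hσ2 hp0 hp
  have hhp : stB σ b h p = 1 := by rw [← hSb.eq, hph, map_one]
  obtain ⟨e, hpe, hhe, hee⟩ : ∃ e, stB σ b p e = 0 ∧ stB σ b h e = 0 ∧ stB σ b e e = 1 := by
    have hX : ∀ x ∈ Submodule.span F {p, h}, (∀ y ∈ Submodule.span F {p, h}, stB σ b x y = 0) → x = 0 := by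
      intro x hx hxy
      obtain ⟨c, d, rfl⟩ := Submodule.mem_span_pair.mp hx
      have f1 := hxy p (Submodule.subset_span (by simp))
      have f2 := hxy h (Submodule.subset_span (by simp))
      simp only [map_add, LinearMap.add_apply, LinearMap.map_smulₛₗ₂, smul_eq_mul, hp, hph, hhp, hh, mul_zero,
        mul_one, zero_add, add_zero] at f1 f2
      rw [(map_eq_zero σ).mp f1, (map_eq_zero σ).mp f2, zero_smul, zero_smul, add_zero]
    have hne : Submodule.span F {p, h} ≠ ⊤ := by
      classical
      intro htop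
      have h5 : finrank F (Submodule.span F (({p, h} : Finset (Fin b → F)) : Set (Fin b → F))) ≤ 2 :=
        (finrank_span_finset_le_card _).trans Finset.card_le_two
      rw [Finset.coe_insert, Finset.coe_singleton, htop, finrank_top, finrank_fin_fun] at h5
      omega
    obtain ⟨e, _, he, hee⟩ := HermWitt.exists_unit_perp σ (stB σ b) hσ hσ2 hSb (stB_sepLeft b) _ hX hne
    exact ⟨e, symm_zero hSb (he p (Submodule.subset_span (by simp))),
      symm_zero hSb (he h (Submodule.subset_span (by simp))), hee⟩
  have hep := symm_zero hSb hpe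
  have heh := symm_zero hSb hhe
  obtain ⟨l, hl0, hl⟩ := exists_skew hσ hσ2
  have hσl : σ l = -l := by linear_combination hl
  obtain ⟨ρ, hρ, hρ0, hρ1⟩ := hq
  have hσn : σ (stB σ b w w) = stB σ b w w := hSb.eq _ _
  -- `γ` with `-ρ⁻¹ N(γ) = B(w, w)`
  obtain ⟨γ, _, hγ⟩ := HermWitt.norm_surj σ hσ hσ2 (-ρ * stB σ b w w) (by rw [map_mul, map_neg, hρ, hσn])
    (mul_ne_zero (neg_ne_zero.mpr hρ0) hw)
  -- the form on `u ⊗ x + u' ⊗ x'`
  have hval : ∀ x x' y y' : Fin b → F, BV σ a b (vecMulVec u x + vecMulVec u' x') (vecMulVec u y + vecMulVec u' y')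
      = stB σ b x y' + stB σ b x' y := by
    intro x x' y y'
    simp only [map_add, LinearMap.add_apply, BV_pure, hu, hu', huu', hu'u]
    ring
  have hsum : ∀ x x', stB σ b x x = 0 → stB σ b x' x' = 0 → stB σ b x x' ≠ 0 → stB σ b x x' + stB σ b x' x = 0 →
      HasT (BV σ a b) M (vecMulVec u x + vecMulVec u' x') := by
    intro x x' hx hx' hne hxx'
    refine HasT.add hSV hM.iso (h0 u x hu hx) (h0 u' x' hu' hx') ?_ ?_
    · rw [BV_pure, hu'u, one_mul]
      intro h
      exact hne (symm_zero hSb h)
    · rw [hval]; exact hxx'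
  -- first vector: `x₁ = l p`, `x₁' = h`
  have hx1 : stB σ b (l • p) (l • p) = 0 := by rw [LinearMap.map_smulₛₗ₂, map_smul, hp, smul_zero, smul_zero]
  have e1 : stB σ b (l • p) h = -l := by rw [LinearMap.map_smulₛₗ₂, hph, hσl, smul_eq_mul, mul_one]
  have e1' : stB σ b h (l • p) = l := by rw [map_smul, hhp, smul_eq_mul, mul_one]
  have hv1 := hsum (l • p) h hx1 hh (by rw [e1]; exact neg_ne_zero.mpr hl0) (by rw [e1, e1']; ring)
  -- second vector: `x₂ = ρ l p + β h + γ e`, `x₂' = - h`
  obtain ⟨β, hβ⟩ := exists_skew_part hσ hσ2 (s := -(γ * σ γ) / (ρ * l)) (by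
    rw [map_div₀, map_neg, map_mul, map_mul, hσ2, hρ, hσl]; field_simp; ring)
  have hβ' : ρ * l * (σ β - β) = -(γ * σ γ) := by rw [hβ]; field_simp
  set x2 : Fin b → F := (ρ * l) • p + β • h + γ • e with hx2_def
  have hx2 : stB σ b x2 x2 = 0 := by
    rw [hx2_def]
    simp only [map_add, LinearMap.add_apply, LinearMap.map_smulₛₗ₂, map_smul, smul_eq_mul, hp, hph, hpe, hhp, hh, hhe,
      hep, heh, hee, map_mul, hρ, hσl]
    linear_combination hβ'
  have e2 : stB σ b x2 (-h) = ρ * l := by
    rw [hx2_def]
    simp only [map_add, LinearMap.add_apply, LinearMap.map_smulₛₗ₂, map_neg, smul_eq_mul, hph, hh, heh, map_mul, hρ,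
      hσl]
    ring
  have e2' : stB σ b (-h) x2 = -(ρ * l) := by
    rw [← hSb.eq, e2, map_mul, hρ, hσl]; ring
  have hv2 := hsum x2 (-h) hx2 (by rw [map_neg, map_neg, LinearMap.neg_apply, hh, neg_zero, neg_zero]) (by rw [e2]; exact mul_ne_zero hρ0 hl0) (by rw [e2, e2']; ring)
  have e : vecMulVec u (l • p) + vecMulVec u' h + (vecMulVec u x2 + vecMulVec u' (-h)) =
      vecMulVec u (l • p + x2) := by
    rw [Matrix.vecMulVec_neg, Matrix.vecMulVec_add u (l • p) x2]; abel
  have hd := HasT.add hSV hM.iso hv1 hv2 (by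
      rw [hval]
      have e3 : stB σ b x2 h = -(ρ * l) := by
        have := e2
        rw [map_neg] at this
        linear_combination -this
      have e4 : stB σ b (-h) (l • p) = -l := by rw [map_neg, LinearMap.neg_apply, e1']
      rw [e3, e4]
      intro h5
      have h6 : l * (ρ + 1) = 0 := by linear_combination -h5
      rcases mul_eq_zero.mp h6 with h7 | h7
      · exact hl0 h7
      · exact hρ1 (eq_neg_of_add_eq_zero_left h7)) (by
      rw [e, BV_pure, hu, zero_mul])
  rw [e] at hd
  have hnorm : stB σ b (l • p + x2) (l • p + x2) = stB σ b w w := by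
    rw [hx2_def]
    simp only [map_add, LinearMap.add_apply, LinearMap.map_smulₛₗ₂, map_smul, smul_eq_mul, hp, hph, hpe, hhp, hh, hhe,
      hep, heh, hee, map_mul, hρ, hσl]
    have h6 : ρ * (l * (σ β - β)) = ρ * stB σ b w w := by
      have : ρ * (l * (σ β - β)) = -(γ * σ γ) := by rw [← hβ']; ring
      rw [this, hγ]; ring
    have h7 := mul_left_cancel₀ hρ0 h6
    linear_combination h7 + hβ'
  have hw0 : w ≠ 0 := by
    rintro rfl
    exact hw (by simp)
  have hwn0 : l • p + x2 ≠ 0 := by
    intro h
    rw [h] at hnorm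
    exact hw (by rw [← hnorm]; simp)
  obtain ⟨z, hz, hzd, hzw⟩ := exists_su hσ hσ2 hb hwn0 hw0 hnorm
  have h2 := hd.map (hM.rowE_mem hz hzd) (rowE_iso hz)
  rw [rowE_pure, hzw] at h2
  exact h2

/-- **All isotropic vectors are centres**, if the pure ones `u ⊗ w` with `u` isotropic are (`b ≥ 3`). -/
theorem gen_all_of_pure (hσ : σ ≠ RingHom.id F) (hσ2 : ∀ x : F, σ (σ x) = x) (ha : 2 ≤ a) (hb : 3 ≤ b)
    (hM : Over σ M) (h1' : ∀ u w, stB σ a u u = 0 → HasT (BV σ a b) M (vecMulVec u w))
    (X : Mat a b F) (hX : BV σ a b X X = 0) : HasT (BV σ a b) M X := by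
  classical
  have hSb := stB_symm hσ2 b
  have hSV := BV_symm hσ2 a b
  -- induction on the number of non-zero rows
  induction hN : (Finset.univ.filter fun i => X i ≠ 0).card using Nat.strong_induction_on generalizing X with
  | _ N ih =>
    by_cases hN2 : N ≤ 2
    · -- at most two rows
      obtain ⟨S, hS, hSc⟩ := Finset.exists_superset_card_eq (s := Finset.univ.filter fun i => X i ≠ 0) (n := 2)
        (by omega) (by simpa using ha)
      obtain ⟨i, j, hij, rfl⟩ := Finset.card_eq_two.mp hSc
      have hz : ∀ k, k ≠ i → k ≠ j → X k = 0 := by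
        intro k hki hkj
        by_contra h
        have := hS (Finset.mem_filter.mpr ⟨Finset.mem_univ k, h⟩)
        rw [Finset.mem_insert, Finset.mem_singleton] at this
        rcases this with h | h
        · exact hki h
        · exact hkj h
      have e : X = vecMulVec (Pi.single i 1) (X i) + vecMulVec (Pi.single j 1) (X j) := by
        funext k
        show X k = (Pi.single i (1 : F) : Fin a → F) k • X i + (Pi.single j (1 : F) : Fin a → F) k • X j
        by_cases hki : k = i
        · subst hki
          rw [Pi.single_eq_same, Pi.single_eq_of_ne hij, one_smul, zero_smul, add_zero]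
        · by_cases hkj : k = j
          · subst hkj
            rw [Pi.single_eq_same, Pi.single_eq_of_ne hki, one_smul, zero_smul, zero_add]
          · rw [hz k hki hkj, Pi.single_eq_of_ne hki, Pi.single_eq_of_ne hkj, zero_smul, zero_smul, add_zero]
      rw [e]
      apply gen_rows_two hσ hσ2 hM h1' hij
      rw [BV_apply, ← Finset.sum_subset (Finset.subset_univ {i, j})] at hX
      · rw [Finset.sum_pair hij] at hX
        exact hX
      · intro k _ hk
        rw [Finset.mem_insert, Finset.mem_singleton, not_or] at hk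
        rw [hz k hk.1 hk.2, map_zero]
    · -- at least three rows
      obtain ⟨k, hk, j, hj, hkj⟩ := Finset.one_lt_card.mp (show 1 < (Finset.univ.filter fun i => X i ≠ 0).card by omega)
      have hk0 : X k ≠ 0 := (Finset.mem_filter.mp hk).2
      have hj0 : X j ≠ 0 := (Finset.mem_filter.mp hj).2
      set s := ∑ i ∈ (Finset.univ.erase k).erase j, stB σ b (X i) (X i) with hs
      have hσs : σ s = s := by
        rw [hs, map_sum]
        exact Finset.sum_congr rfl fun i _ => hSb.eq _ _
      obtain ⟨l, hl0, hl⟩ := exists_skew hσ hσ2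
      have hσl : σ l = -l := by linear_combination hl
      obtain ⟨x, hx1, hx2⟩ := exists_vec (B := stB σ b) hσ hσ2 hSb (stB_sepLeft b) (by rw [finrank_fin_fun]; omega)
        hk0 (l - s) (-s) (by rw [map_neg, hσs])
      have hx1' : stB σ b x (X k) = -l - s := by rw [← hSb.eq, hx1, map_sub, hσl, hσs]
      have hsplit : ∀ f : Fin a → F, ∑ i, f i = f k + (f j + ∑ i ∈ (Finset.univ.erase k).erase j, f i) := by
        intro f
        rw [← Finset.add_sum_erase _ f (Finset.mem_univ k),
          ← Finset.add_sum_erase (Finset.univ.erase k) f (Finset.mem_erase.mpr ⟨Ne.symm hkj, Finset.mem_univ j⟩)]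
      have hXs : stB σ b (X k) (X k) + (stB σ b (X j) (X j) + s) = 0 := by
        rw [← hX, BV_apply, hsplit]
      let X' : Mat a b F := fun i => if i = k then x else if i = j then 0 else X i
      let X'' : Mat a b F := fun i => if i = k then X k - x else if i = j then X j else 0
      have e : X' + X'' = X := by
        funext i
        show X' i + X'' i = X i
        by_cases hik : i = k
        · subst hik
          simp only [X', X'', if_true, add_sub_cancel]
        · by_cases hij : i = j
          · subst hij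
            simp only [X', X'', if_neg hik, if_true, zero_add]
          · simp only [X', X'', if_neg hik, if_neg hij, add_zero]
      have eX'k : X' k = x := if_pos rfl
      have eX'j : X' j = 0 := by simp only [X', if_neg (Ne.symm hkj), if_true]
      have eX''k : X'' k = X k - x := if_pos rfl
      have eX''j : X'' j = X j := by simp only [X'', if_neg (Ne.symm hkj), if_true]
      have hmem : ∀ i ∈ (Finset.univ.erase k).erase j, i ≠ j ∧ i ≠ k := by
        intro i hi
        rw [Finset.mem_erase, Finset.mem_erase] at hi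
        exact ⟨hi.1, hi.2.1⟩
      have eX'i : ∀ i ∈ (Finset.univ.erase k).erase j, X' i = X i := by
        intro i hi
        obtain ⟨h1, h2⟩ := hmem i hi
        simp only [X', if_neg h1, if_neg h2]
      have eX''i : ∀ i ∈ (Finset.univ.erase k).erase j, X'' i = 0 := by
        intro i hi
        obtain ⟨h1, h2⟩ := hmem i hi
        simp only [X'', if_neg h1, if_neg h2]
      have hX'0 : BV σ a b X' X' = 0 := by
        rw [BV_apply, hsplit, eX'k, eX'j, Finset.sum_congr rfl fun i hi => by rw [eX'i i hi], map_zero, hx2, ← hs]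
        ring
      have hX''0 : BV σ a b X'' X'' = 0 := by
        rw [BV_apply, hsplit, eX''k, eX''j, Finset.sum_congr rfl fun i hi => by rw [eX''i i hi, map_zero],
          Finset.sum_const_zero]
        simp only [map_sub, LinearMap.sub_apply, hx1, hx1', hx2]
        linear_combination hXs
      have hX'' : BV σ a b X'' X' ≠ 0 := by
        rw [BV_apply, hsplit, eX''k, eX''j, eX'k, eX'j, Finset.sum_congr rfl fun i hi => by
          rw [eX''i i hi, map_zero, LinearMap.zero_apply], Finset.sum_const_zero]
        simp only [map_sub, LinearMap.sub_apply, hx1, hx2, map_zero]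
        intro h
        exact hl0 (by linear_combination h)
      have c1 : (Finset.univ.filter fun i => X' i ≠ 0).card < N := by
        rw [← hN]
        apply Finset.card_lt_card
        rw [Finset.ssubset_iff_of_subset]
        · refine ⟨j, hj, fun h => (Finset.mem_filter.mp h).2 eX'j⟩
        · intro i hi
          have hi0 := (Finset.mem_filter.mp hi).2
          refine Finset.mem_filter.mpr ⟨Finset.mem_univ i, fun h => ?_⟩
          by_cases hik : i = k
          · exact hk0 (hik ▸ h)
          · by_cases hij : i = j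
            · exact hj0 (hij ▸ h)
            · apply hi0
              simp only [X', if_neg hik, if_neg hij, h]
      have c2 : (Finset.univ.filter fun i => X'' i ≠ 0).card < N := by
        have h3 : (Finset.univ.filter fun i => X'' i ≠ 0).card ≤ ({k, j} : Finset (Fin a)).card := by
          apply Finset.card_le_card
          intro i hi
          have hi0 := (Finset.mem_filter.mp hi).2
          rw [Finset.mem_insert, Finset.mem_singleton]
          by_contra h
          rw [not_or] at h
          apply hi0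
          simp only [X'', if_neg h.1, if_neg h.2]
        have h4 : ({k, j} : Finset (Fin a)).card ≤ 2 := Finset.card_le_two
        omega
      have r1 := ih _ c1 X' hX'0 (by congr)
      have r2 := ih _ c2 X'' hX''0 (by congr)
      have r3 := HasT.add hSV hM.iso r1 r2 hX'' (by rw [e]; exact hX)
      rw [e] at r3
      exact r3

/-- **All isotropic vectors are centres** (`b ≥ 3`, `q ≥ 3`). -/
theorem gen_all3 (hσ : σ ≠ RingHom.id F) (hσ2 : ∀ x : F, σ (σ x) = x) (ha : 2 ≤ a) (hb : 3 ≤ b)
    (hq : ∃ ρ : F, σ ρ = ρ ∧ ρ ≠ 0 ∧ ρ ≠ -1) (hM : Over σ M)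
    (h0 : ∀ u w, stB σ a u u = 0 → stB σ b w w = 0 → HasT (BV σ a b) M (vecMulVec u w))
    (X : Mat a b F) (hX : BV σ a b X X = 0) : HasT (BV σ a b) M X :=
  gen_all_of_pure hσ hσ2 ha hb hM (fun u w hu => gen_pure3 hσ hσ2 hb hq hM h0 u hu w) X hX

end Gen

end Cfsg.Agent.H880
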