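import Cfsg.Agent.H880.UMain
import Cfsg.Agent.H880.UTwoA
import Cfsg.Agent.H189.TraceFix

/-!
**Overgroups of the unitary tensor stabiliser, `q ≥ 3`, `2 ≤ a < b`** (in particular `(a, b) = (2, 3)`). The relative
trace of the partial trace `End (U ⊗ W) → End U` (`H189.TraceFix.exists_trace`) is the partial trace itself, because the
root groups `1 ⊗ T_w` are TI; so the overgroup normalises `End U ⊗ 1`.
-/

set_option autoImplicit false
set_option linter.unusedSectionVars false

namespace Cfsg.Agent.H880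

open Module Cfsg.Agent.ClassicalGeometry Matrix

section Ptr

variable {F : Type*} [Field F] {σ : F →+* F} {a b : ℕ}

/-- `A ⊗ 1`. -/
def lam (A : (Fin a → F) →ₗ[F] (Fin a → F)) : Mat a b F →ₗ[F] Mat a b F where
  toFun X := fun i j => A (fun i' => X i' j) i
  map_add' X Y := by
    funext i j
    exact congrFun (map_add A (fun i' => X i' j) (fun i' => Y i' j)) i
  map_smul' c X := by
    funext i j
    exact congrFun (map_smul A c (fun i' => X i' j)) i

theorem lam_pure (A : (Fin a → F) →ₗ[F] (Fin a → F)) (u : Fin a → F) (w : Fin b → F) :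
    lam A (vecMulVec u w) = vecMulVec (A u) w := by
  funext i j
  show A (fun i' => u i' * w j) i = A u i * w j
  have h : (fun i' => u i' * w j) = w j • u := by
    funext i'
    rw [Pi.smul_apply, smul_eq_mul, mul_comm]
  rw [h, map_smul, Pi.smul_apply, smul_eq_mul, mul_comm]

/-- The rows. -/
def rowP (i : Fin a) : Mat a b F →ₗ[F] (Fin b → F) where
  toFun X := X i
  map_add' _ _ := rfl
  map_smul' _ _ := rfl

theorem rowP_apply (i : Fin a) (X : Mat a b F) : rowP i X = X i := rfl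

/-- **The partial trace.** -/
noncomputable def ptr (Z : Mat a b F →ₗ[F] Mat a b F) : (Fin a → F) →ₗ[F] (Fin a → F) where
  toFun u := fun i => LinearMap.trace F (Fin b → F) (rowP i ∘ₗ Z ∘ₗ pureR u)
  map_add' u u' := by
    funext i
    rw [Pi.add_apply, ← map_add]
    congr 1
    refine LinearMap.ext fun w => ?_
    rw [LinearMap.add_apply]
    show rowP i (Z (vecMulVec (u + u') w)) = rowP i (Z (vecMulVec u w)) + rowP i (Z (vecMulVec u' w))
    rw [Matrix.add_vecMulVec, map_add, map_add]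
  map_smul' c u := by
    funext i
    rw [RingHom.id_apply, Pi.smul_apply, ← map_smul]
    congr 1
    refine LinearMap.ext fun w => ?_
    rw [LinearMap.smul_apply]
    show rowP i (Z (vecMulVec (c • u) w)) = c • rowP i (Z (vecMulVec u w))
    rw [Matrix.smul_vecMulVec, map_smul, map_smul]

theorem ptr_apply (Z : Mat a b F →ₗ[F] Mat a b F) (u : Fin a → F) (i : Fin a) :
    ptr Z u i = LinearMap.trace F (Fin b → F) (rowP i ∘ₗ Z ∘ₗ pureR u) := rfl

/-- The partial trace is equivariant. -/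
theorem ptr_conj {h : Mat a b F ≃ₗ[F] Mat a b F} {y : (Fin a → F) ≃ₗ[F] (Fin a → F)}
    {z : (Fin b → F) ≃ₗ[F] (Fin b → F)} (hyz : ∀ u w, h (vecMulVec u w) = vecMulVec (y u) (z w))
    (Z : Mat a b F →ₗ[F] Mat a b F) (u : Fin a → F) :
    ptr ((h : Mat a b F →ₗ[F] Mat a b F) ∘ₗ Z ∘ₗ (h.symm : Mat a b F →ₗ[F] Mat a b F)) (y u) = y (ptr Z u) := by
  have hrow : ∀ (i : Fin a) (X : Mat a b F), rowP i (h X) = ∑ i', (y (Pi.single i' 1)) i • z (rowP i' X) := by
    intro i X
    conv_lhs => rw [sum_rows X]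
    rw [map_sum, map_sum]
    refine Finset.sum_congr rfl fun i' _ => ?_
    rw [hyz]
    rfl
  have hinv : ∀ w, h.symm (vecMulVec (y u) w) = vecMulVec u (z.symm w) := by
    intro w
    rw [LinearEquiv.symm_apply_eq, hyz, LinearEquiv.apply_symm_apply]
  funext i
  rw [ptr_apply]
  have e1 : rowP i ∘ₗ ((h : Mat a b F →ₗ[F] Mat a b F) ∘ₗ Z ∘ₗ (h.symm : Mat a b F →ₗ[F] Mat a b F)) ∘ₗ pureR (y u) =
      ∑ i', (y (Pi.single i' 1)) i • z.conj (rowP i' ∘ₗ Z ∘ₗ pureR u) := by
    refine LinearMap.ext fun w => ?_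
    rw [LinearMap.sum_apply]
    show rowP i (h (Z (h.symm (vecMulVec (y u) w)))) = _
    rw [hrow, hinv]
    refine Finset.sum_congr rfl fun i' _ => ?_
    rw [LinearMap.smul_apply, LinearEquiv.conj_apply_apply]
    rfl
  rw [e1, map_sum]
  have e2 : y (ptr Z u) = ∑ i', (ptr Z u) i' • y (Pi.single i' 1) := by
    conv_lhs => rw [pi_eq_sum_univ' (ptr Z u)]
    rw [map_sum]
    refine Finset.sum_congr rfl fun i' _ => ?_
    rw [map_smul]
  rw [e2, Finset.sum_apply]
  refine Finset.sum_congr rfl fun i' _ => ?_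
  rw [map_smul, LinearMap.trace_conj', Pi.smul_apply, smul_eq_mul, smul_eq_mul, ptr_apply, mul_comm]

/-- `X ↦ A (con w' X) ⊗ w`. -/
def rk (σ : F →+* F) (A : (Fin a → F) →ₗ[F] (Fin a → F)) (w w' : Fin b → F) : Mat a b F →ₗ[F] Mat a b F :=
  pureL w ∘ₗ A ∘ₗ con σ w'

theorem rk_apply (A : (Fin a → F) →ₗ[F] (Fin a → F)) (w w' : Fin b → F) (X : Mat a b F) :
    rk σ A w w' X = vecMulVec (A (con σ w' X)) w := rfl

theorem ptr_rk (A : (Fin a → F) →ₗ[F] (Fin a → F)) (w w' : Fin b → F) :
    ptr (rk σ A w w') = stB σ b w' w • A := by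
  refine LinearMap.ext fun u => ?_
  funext i
  rw [ptr_apply]
  have e : rowP i ∘ₗ rk σ A w w' ∘ₗ pureR u = LinearMap.smulRight (A u i • stB σ b w') w := by
    refine LinearMap.ext fun x => ?_
    show (vecMulVec (A (con σ w' (vecMulVec u x))) w) i = _
    rw [con_pure, map_smul, pure_row, Pi.smul_apply, LinearMap.smulRight_apply, LinearMap.smul_apply, smul_eq_mul,
      smul_eq_mul, mul_comm]
  rw [e, LinearMap.trace_smulRight, LinearMap.smul_apply, LinearMap.smul_apply, Pi.smul_apply, smul_eq_mul,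
    smul_eq_mul, mul_comm]

/-- The partial trace followed by `A ↦ A ⊗ 1`. -/
noncomputable def pt (a b : ℕ) (F : Type*) [Field F] : Module.End F (Module.End F (Mat a b F)) where
  toFun Z := lam (ptr Z)
  map_add' Z Z' := by
    apply ext_pure
    intro u w
    rw [LinearMap.add_apply, lam_pure, lam_pure, lam_pure, ← Matrix.add_vecMulVec]
    congr 1
    funext i
    rw [Pi.add_apply, ptr_apply, ptr_apply, ptr_apply, ← map_add]
    rfl
  map_smul' c Z := by
    apply ext_pure
    intro u w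
    rw [RingHom.id_apply, LinearMap.smul_apply, lam_pure, lam_pure, ← Matrix.smul_vecMulVec]
    congr 1
    funext i
    rw [Pi.smul_apply, ptr_apply, ptr_apply, ← map_smul]
    rfl

theorem pt_apply (Z : Module.End F (Mat a b F)) : pt a b F Z = lam (ptr Z) := rfl

/-- Conjugation. -/
def cj (M : Subgroup (Mat a b F ≃ₗ[F] Mat a b F)) : M →* Module.End F (Module.End F (Mat a b F)) where
  toFun g :=
    { toFun := fun Z => (g.1 : Mat a b F →ₗ[F] Mat a b F) ∘ₗ Z ∘ₗ (g.1.symm : Mat a b F →ₗ[F] Mat a b F)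
      map_add' := fun Z Z' => by rw [LinearMap.add_comp, LinearMap.comp_add]
      map_smul' := fun c Z => by rw [LinearMap.smul_comp, LinearMap.comp_smul, RingHom.id_apply] }
  map_one' := rfl
  map_mul' g h := rfl

theorem cj_apply (M : Subgroup (Mat a b F ≃ₗ[F] Mat a b F)) (g : M) (Z : Module.End F (Mat a b F))
    (X : Mat a b F) : cj M g Z X = g.1 (Z (g.1.symm X)) := rfl

theorem pt_comm (M : Subgroup (Mat a b F ≃ₗ[F] Mat a b F)) (g : M) (hg : IsTens g.1) :
    cj M g * pt a b F = pt a b F * cj M g := by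
  obtain ⟨y, z, hyz⟩ := hg
  refine LinearMap.ext fun Z => ?_
  rw [Module.End.mul_apply, Module.End.mul_apply, pt_apply, pt_apply]
  apply ext_pure
  intro u w
  obtain ⟨u, rfl⟩ := y.surjective u
  obtain ⟨w, rfl⟩ := z.surjective w
  rw [cj_apply, lam_pure]
  have h1 : g.1.symm (vecMulVec (y u) (z w)) = vecMulVec u w := by
    rw [LinearEquiv.symm_apply_eq, hyz]
  rw [h1, lam_pure, hyz]
  congr 1
  exact (ptr_conj hyz Z u).symm

/-- The columns. -/
theorem sum_cols (X : Mat a b F) : X = ∑ j, vecMulVec (con σ (Pi.single j 1) X) (Pi.single j (1 : F)) := by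
  ext i k
  rw [Matrix.sum_apply, Finset.sum_eq_single k]
  · rw [vecMulVec_apply, Pi.single_eq_same, mul_one, con_apply, stB_single_left]
  · intro j _ hj; rw [vecMulVec_apply, Pi.single_eq_of_ne (Ne.symm hj), mul_zero]
  · intro h; exact absurd (Finset.mem_univ k) h

/-- Decomposition of the endomorphisms. -/
theorem sum_rk (Z : Mat a b F →ₗ[F] Mat a b F) :
    Z = ∑ j, ∑ k, rk σ (con σ (Pi.single k 1) ∘ₗ Z ∘ₗ pureL (Pi.single j 1)) (Pi.single k 1) (Pi.single j 1) := by
  ext1 X
  conv_lhs => rw [sum_cols (σ := σ) X]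
  rw [map_sum, LinearMap.sum_apply]
  refine Finset.sum_congr rfl fun j _ => ?_
  rw [LinearMap.sum_apply]
  exact sum_cols _

end Ptr

section Sesq

variable {F : Type*} [Field F] {σ : F →+* F} [Finite F] {b : ℕ}

/-- A sesquilinear map that vanishes on the unit vectors is zero (dimension at least three). -/
theorem sesq_zero (hσ : σ ≠ RingHom.id F) (hσ2 : ∀ x : F, σ (σ x) = x) (hb : 3 ≤ b) {X : Type*} [AddCommGroup X]
    [Module F X] (β : (Fin b → F) → (Fin b → F) → X) (hadd : ∀ w w' v, β (w + w') v = β w v + β w' v)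
    (hadd' : ∀ v w w', β v (w + w') = β v w + β v w') (hs : ∀ (c : F) w v, β (c • w) v = c • β w v)
    (hs' : ∀ (c : F) w v, β w (c • v) = σ c • β w v) (h1 : ∀ e, stB σ b e e = 1 → β e e = 0) :
    ∀ w w', β w w' = 0 := by
  have hSb := stB_symm hσ2 b
  obtain ⟨p, hp⟩ := exists_fix_ne hσ
  have hp0 : p ≠ 0 := by
    rintro rfl
    exact hp (map_zero σ)
  have hp1 : p + 1 ≠ 0 := by
    intro h
    apply hp
    have h2 : p = -1 := by linear_combination h
    rw [h2, map_neg, map_one]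
  -- non-isotropic vectors
  have hn : ∀ e, stB σ b e e ≠ 0 → β e e = 0 := by
    intro e he
    obtain ⟨γ, hγ0, hγ⟩ := HermWitt.norm_surj σ hσ hσ2 (stB σ b e e)⁻¹ (by rw [map_inv₀, hSb.eq]) (inv_ne_zero he)
    have h2 := h1 (γ • e) (by
      rw [LinearMap.map_smulₛₗ₂, map_smul, smul_eq_mul, smul_eq_mul]
      have : σ γ * (γ * stB σ b e e) = (γ * σ γ) * stB σ b e e := by ring
      rw [this, hγ, inv_mul_cancel₀ he])
    rw [hs, hs', smul_smul, hγ] at h2
    rcases smul_eq_zero.mp h2 with h3 | h3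
    · exact absurd h3 (inv_ne_zero he)
    · exact h3
  -- isotropic vectors
  have hall : ∀ w, β w w = 0 := by
    intro w
    by_cases hw : stB σ b w w = 0
    · obtain ⟨e, hwe, hee⟩ := exists_unit_perp_of_ne (B := stB σ b) hσ hσ2 hSb (stB_sepLeft b)
        (by rw [finrank_fin_fun]; omega) w
      have hew := symm_zero hSb hwe
      have key : ∀ c : F, c ≠ 0 → β w w + σ c • β w e + c • β e w = 0 := by
        intro c hc
        have h2 := hn (w + c • e) (by
          simp only [map_add, LinearMap.add_apply, LinearMap.map_smulₛₗ₂, map_smul, smul_eq_mul, hw, hwe, hew, hee,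
            mul_zero, zero_add, mul_one]
          exact mul_ne_zero hc ((map_ne_zero σ).mpr hc))
        rw [hadd, hadd', hadd', hs, hs, hs', hs', h1 e hee, smul_zero, smul_zero, add_zero] at h2
        rw [← h2]
      have k1 := key 1 one_ne_zero
      have k2 := key p hp0
      have k3 := key (p + 1) hp1
      rw [map_one, one_smul, one_smul] at k1
      rw [map_add, map_one, add_smul, add_smul, one_smul, one_smul] at k3
      have h5 : β w w = (β w w + β w e + β e w) + (β w w + σ p • β w e + p • β e w) -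
          (β w w + (σ p • β w e + β w e) + (p • β e w + β e w)) := by abel
      rw [h5, k1, k2, k3, add_zero, sub_zero]
    · exact hn w hw
  intro w w'
  have hpol : ∀ c : F, σ c • β w w' + c • β w' w = 0 := by
    intro c
    have h2 := hall (w + c • w')
    rw [hadd, hadd', hadd', hs, hs, hs', hs', hall, hall, smul_zero, smul_zero, add_zero, zero_add] at h2
    exact h2
  have k1 := hpol 1
  have k2 := hpol p
  rw [map_one, one_smul, one_smul] at k1
  have h6 : (σ p - p) • β w w' = 0 := by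
    have h7 : (σ p - p) • β w w' = (σ p • β w w' + p • β w' w) - p • (β w w' + β w' w) := by
      rw [sub_smul, smul_add]; abel
    rw [h7, k1, k2, smul_zero, sub_zero]
  rcases smul_eq_zero.mp h6 with h7 | h7
  · exact absurd (sub_eq_zero.mp h7) hp
  · exact h7

/-- Two isotropic vectors orthogonal to a unit vector. -/
theorem exists_pair_perp (hσ : σ ≠ RingHom.id F) (hσ2 : ∀ x : F, σ (σ x) = x) (hb : 3 ≤ b) {e : Fin b → F}
    (he : stB σ b e e = 1) : ∃ w w', stB σ b w w = 0 ∧ stB σ b w' w' = 0 ∧ stB σ b w w' = 1 ∧ stB σ b w e = 0 ∧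
      stB σ b w' e = 0 := by
  have hSb := stB_symm hσ2 b
  have hd := finrank_perp_one (B := stB σ b) e
  rw [finrank_fin_fun] at hd
  obtain ⟨w, hwe, hw0, hw⟩ := exists_isotropic (B := stB σ b) hσ hσ2 hSb (perp (stB σ b) {e}) (by omega)
  have hew : stB σ b e w = 0 := hwe e rfl
  have hwe' : stB σ b w e = 0 := symm_zero hSb hew
  obtain ⟨z, hz⟩ := exists_one_std (σ := σ) hw0
  obtain ⟨c, d, h1, h2⟩ := exists_partner hσ hσ2 hSb hw (z := z - stB σ b e z • e) (by
    rw [map_sub, map_smul, hwe', smul_zero, sub_zero, hz]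
    exact one_ne_zero)
  refine ⟨w, _, hw, h2, h1, hwe', ?_⟩
  apply symm_zero hSb
  rw [map_add, map_smul, map_smul, map_sub, map_smul, he, hew, smul_eq_mul, smul_eq_mul, mul_one,
    sub_self, mul_zero, smul_zero, add_zero]

end Sesq

section Root

variable {F : Type*} [Field F] {σ : F →+* F} {a b : ℕ} {M : Subgroup (Mat a b F ≃ₗ[F] Mat a b F)}

theorem IsRT.apply' {w : Fin b → F} {l : F} {s : Mat a b F ≃ₗ[F] Mat a b F} (h : IsRT σ w l s) (X : Mat a b F) :
    s X = X + l • rk σ LinearMap.id w w X := by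
  rw [h X, Matrix.smul_vecMulVec]
  rfl

theorem rk_rk {w : Fin b → F} (hw : stB σ b w w = 0) (X : Mat a b F) :
    rk σ LinearMap.id w w (rk σ LinearMap.id w w X) = 0 := by
  rw [rk_apply, rk_apply, con_pure, hw, zero_smul, map_zero, zero_pure]

theorem IsRT.mul {w : Fin b → F} (hw : stB σ b w w = 0) {l l' : F} {s s' : Mat a b F ≃ₗ[F] Mat a b F}
    (h : IsRT σ w l s) (h' : IsRT σ w l' s') : IsRT σ w (l + l') (s * s') := by
  intro X
  rw [Matrix.smul_vecMulVec]
  show s (s' X) = X + (l + l') • rk σ LinearMap.id w w X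
  rw [h.apply', h'.apply', map_add, map_smul, rk_rk hw, smul_zero, add_zero, add_smul]
  abel

theorem IsRT.symm_apply {w : Fin b → F} (hw : stB σ b w w = 0) {l : F} {s : Mat a b F ≃ₗ[F] Mat a b F}
    (h : IsRT σ w l s) (X : Mat a b F) : s.symm X = X - l • rk σ LinearMap.id w w X := by
  rw [LinearEquiv.symm_apply_eq, h.apply', map_sub, map_smul, rk_rk hw, smul_zero, sub_zero]
  abel

theorem IsRT.inv {w : Fin b → F} (hw : stB σ b w w = 0) {l : F} {s : Mat a b F ≃ₗ[F] Mat a b F}
    (h : IsRT σ w l s) : IsRT σ w (-l) s⁻¹ := by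
  intro X
  rw [Matrix.smul_vecMulVec]
  show s.symm X = X + (-l) • rk σ LinearMap.id w w X
  rw [h.symm_apply hw, neg_smul, sub_eq_add_neg]

theorem IsRT.ext {w : Fin b → F} {l : F} {s s' : Mat a b F ≃ₗ[F] Mat a b F}
    (h : IsRT σ w l s) (h' : IsRT σ w l s') : s = s' := by
  apply LinearEquiv.ext
  intro X
  rw [h, h']

theorem IsRT.unique (ha : 1 ≤ a) {w : Fin b → F} (hw0 : w ≠ 0) {l l' : F} {s : Mat a b F ≃ₗ[F] Mat a b F}
    (h : IsRT σ w l s) (h' : IsRT σ w l' s) : l = l' := by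
  obtain ⟨X, hX⟩ := con_surj (σ := σ) hw0 (Pi.single (⟨0, ha⟩ : Fin a) (1 : F))
  have h1 := (h X).symm.trans (h' X)
  have h2 := add_left_cancel h1
  rw [Matrix.smul_vecMulVec, Matrix.smul_vecMulVec, ← sub_eq_zero, ← sub_smul] at h2
  rcases smul_eq_zero.mp h2 with h3 | h3
  · exact sub_eq_zero.mp h3
  · exfalso
    refine pure_ne_zero ?_ hw0 h3
    show con σ w X ≠ 0
    rw [hX]
    intro h4
    have h5 := congrFun h4 ⟨0, ha⟩
    rw [Pi.single_eq_same] at h5
    exact one_ne_zero h5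

/-- The root group `1 ⊗ T_w`. -/
def rg (σ : F →+* F) (M : Subgroup (Mat a b F ≃ₗ[F] Mat a b F)) (w : Fin b → F) (hw : stB σ b w w = 0) :
    Subgroup M where
  carrier := {s | ∃ l, l + σ l = 0 ∧ IsRT σ w l s.1}
  mul_mem' := by
    rintro s s' ⟨l, hl, h⟩ ⟨l', hl', h'⟩
    exact ⟨l + l', by rw [map_add]; linear_combination hl + hl', h.mul hw h'⟩
  one_mem' := ⟨0, by rw [map_zero, add_zero], fun X => by rw [zero_smul, zero_pure, add_zero]; rfl⟩
  inv_mem' := by
    rintro s ⟨l, hl, h⟩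
    exact ⟨-l, by rw [map_neg]; linear_combination -hl, h.inv hw⟩

variable [Finite F]

/-- Sums over the skew elements. -/
theorem skew_sums (hσ : σ ≠ RingHom.id F) (hσ2 : ∀ x : F, σ (σ x) = x) (hq : ∃ ρ : F, σ ρ = ρ ∧ ρ ≠ 0 ∧ ρ ≠ 1)
    [Fintype {l : F // l + σ l = 0}] :
    (∑ _l : {l : F // l + σ l = 0}, (1 : F)) = 0 ∧ (∑ l : {l : F // l + σ l = 0}, (l : F)) = 0 := by
  obtain ⟨ρ, hρ, hρ0, hρ1⟩ := hq
  obtain ⟨l0, hl0, hl⟩ := exists_skew hσ hσ2
  constructor
  · let e : {l : F // l + σ l = 0} ≃ {l : F // l + σ l = 0} :=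
      { toFun := fun l => ⟨l.1 + l0, by rw [map_add]; linear_combination l.2 + hl⟩
        invFun := fun l => ⟨l.1 - l0, by rw [map_sub]; linear_combination l.2 - hl⟩
        left_inv := fun l => Subtype.ext (by show l.1 + l0 - l0 = l.1; ring)
        right_inv := fun l => Subtype.ext (by show l.1 - l0 + l0 = l.1; ring) }
    have h1 := Equiv.sum_comp e (fun l => (l : F))
    have h2 : ∑ l : {l : F // l + σ l = 0}, ((e l : {l : F // l + σ l = 0}) : F) =
        (∑ l : {l : F // l + σ l = 0}, (l : F)) + (∑ _l : {l : F // l + σ l = 0}, (1 : F)) * l0 := by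
      rw [Finset.sum_mul, ← Finset.sum_add_distrib]
      refine Finset.sum_congr rfl fun l _ => ?_
      rw [one_mul]
      rfl
    rw [h2] at h1
    have h3 : (∑ _l : {l : F // l + σ l = 0}, (1 : F)) * l0 = 0 := by linear_combination h1
    rcases mul_eq_zero.mp h3 with h4 | h4
    · exact h4
    · exact absurd h4 hl0
  · let e : {l : F // l + σ l = 0} ≃ {l : F // l + σ l = 0} :=
      { toFun := fun l => ⟨ρ * l.1, by rw [map_mul, hρ]; linear_combination ρ * l.2⟩
        invFun := fun l => ⟨ρ⁻¹ * l.1, by rw [map_mul, map_inv₀, hρ]; linear_combination ρ⁻¹ * l.2⟩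
        left_inv := fun l => Subtype.ext (by
          show ρ⁻¹ * (ρ * l.1) = l.1
          rw [inv_mul_cancel_left₀ hρ0])
        right_inv := fun l => Subtype.ext (by
          show ρ * (ρ⁻¹ * l.1) = l.1
          rw [mul_inv_cancel_left₀ hρ0]) }
    have h1 := Equiv.sum_comp e (fun l => (l : F))
    have h2 : ∑ l : {l : F // l + σ l = 0}, ((e l : {l : F // l + σ l = 0}) : F) =
        ρ * ∑ l : {l : F // l + σ l = 0}, (l : F) := by
      rw [Finset.mul_sum]
      rfl
    rw [h2] at h1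
    have h3 : (ρ - 1) * ∑ l : {l : F // l + σ l = 0}, (l : F) = 0 := by linear_combination h1
    rcases mul_eq_zero.mp h3 with h4 | h4
    · exact absurd (sub_eq_zero.mp h4) hρ1
    · exact h4

/-- Traces over the root group. -/
theorem sum_rg (hσ : σ ≠ RingHom.id F) (hσ2 : ∀ x : F, σ (σ x) = x) (ha : 1 ≤ a) (hM : Over σ M)
    (hq : ∃ ρ : F, σ ρ = ρ ∧ ρ ≠ 0 ∧ ρ ≠ 1) {w : Fin b → F} (hw0 : w ≠ 0) (hw : stB σ b w w = 0)
    [Fintype (rg σ M w hw)] (Z : Module.End F (Mat a b F)) (X : Mat a b F) :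
    ∃ u, (∑ c : rg σ M w hw, cj M c Z) X = vecMulVec u w := by
  classical
  have : Fintype {l : F // l + σ l = 0} := Fintype.ofFinite _
  obtain ⟨s1, s2⟩ := skew_sums hσ hσ2 hq
  choose L hL hLs using fun c : rg σ M w hw => c.2
  let e : rg σ M w hw → {l : F // l + σ l = 0} := fun c => ⟨L c, hL c⟩
  have he : Function.Bijective e := by
    constructor
    · intro c c' h
      have h1 : L c = L c' := congrArg Subtype.val h
      have h2 := hLs c
      rw [h1] at h2
      exact Subtype.ext (Subtype.ext (h2.ext (hLs c')))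
    · rintro ⟨l, hl⟩
      obtain ⟨s, hs, _, hsr⟩ := exists_rt hσ2 hM hw hl
      let c : rg σ M w hw := ⟨⟨s, hs⟩, l, hl, hsr⟩
      refine ⟨c, Subtype.ext ?_⟩
      exact (hLs c).unique ha hw0 hsr
  let n : Mat a b F →ₗ[F] Mat a b F := rk σ LinearMap.id w w
  have hterm : ∀ c : rg σ M w hw, cj M c Z X =
      Z X + L c • (n (Z X) - Z (n X)) - (L c * L c) • n (Z (n X)) := by
    intro c
    rw [cj_apply, (hLs c).symm_apply hw, (hLs c).apply']
    show Z (X - L c • n X) + L c • n (Z (X - L c • n X)) = _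
    simp only [map_sub, map_smul, smul_sub, smul_smul]
    abel
  rw [LinearMap.sum_apply, Finset.sum_congr rfl fun c _ => hterm c, Finset.sum_sub_distrib, Finset.sum_add_distrib,
    ← Finset.sum_smul, ← Finset.sum_smul]
  have t1 : ∑ c : rg σ M w hw, Z X = 0 := by
    have h1 : ∑ c : rg σ M w hw, Z X = (∑ _c : rg σ M w hw, (1 : F)) • Z X := by
      rw [Finset.sum_smul]
      simp only [one_smul]
    rw [h1, Fintype.sum_bijective e he (fun _ => (1 : F)) (fun _ => (1 : F)) (fun _ => rfl), s1, zero_smul]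
  have t2 : ∑ c : rg σ M w hw, L c = 0 := by
    rw [Fintype.sum_bijective e he (fun c => L c) (fun l => (l : F)) (fun _ => rfl), s2]
  rw [t1, t2, zero_smul, add_zero, zero_sub]
  refine ⟨-((∑ c : rg σ M w hw, L c * L c) • con σ w (Z (n X))), ?_⟩
  rw [Matrix.neg_vecMulVec, Matrix.smul_vecMulVec]
  rfl

end Root

section Main

variable {F : Type*} [Field F] {σ : F →+* F} [Finite F] {a b : ℕ} {M : Subgroup (Mat a b F ≃ₗ[F] Mat a b F)}

/-- `M` normalises `End U ⊗ 1` if all root groups `1 ⊗ T_w` are TI. -/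
theorem norm_lam (hσ : σ ≠ RingHom.id F) (hσ2 : ∀ x : F, σ (σ x) = x) (ha : 1 ≤ a) (hb : 3 ≤ b)
    (hM : Over σ M) (hq : ∃ ρ : F, σ ρ = ρ ∧ ρ ≠ 0 ∧ ρ ≠ 1)
    (hTI : ∀ w : Fin b → F, w ≠ 0 → stB σ b w w = 0 → ∀ (l : F) (s : Mat a b F ≃ₗ[F] Mat a b F), l ≠ 0 →
      IsRT σ w l s → ∀ g ∈ M, IsTens (g * s * g⁻¹) → IsTens g)
    {g : Mat a b F ≃ₗ[F] Mat a b F} (hg : g ∈ M) (A : (Fin a → F) →ₗ[F] (Fin a → F)) :
    ∃ A' : (Fin a → F) →ₗ[F] (Fin a → F), ∀ X, g (lam A X) = lam A' (g X) := by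
  classical
  have hSb := stB_symm hσ2 b
  let H : Subgroup M := (tensM M).subgroupOf M
  have hH : ∀ h : M, h ∈ H ↔ IsTens h.1 := fun h => ⟨fun h1 => h1.2, fun h1 => ⟨h.2, h1⟩⟩
  obtain ⟨Φ, hΦ, hC⟩ := H189.TraceFix.exists_trace (cj M) H (pt a b F) (fun h hh => pt_comm M h ((hH h).mp hh))
  -- the difference is small on the fixed points of the root groups
  have key : ∀ (w : Fin b → F), w ≠ 0 → ∀ hw : stB σ b w w = 0, ∀ Z : Module.End F (Mat a b F),
      (∀ c ∈ rg σ M w hw, cj M c Z = Z) → ∀ X, ∃ u, (Φ Z - pt a b F Z) X = vecMulVec u w := by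
    intro w hw0 hw Z hZ X
    have : Fintype (rg σ M w hw) := Fintype.ofFinite _
    obtain ⟨Y, hY⟩ := hC (rg σ M w hw) (by
        rintro c ⟨l, hl, hc⟩
        rw [hH]
        obtain ⟨s, _, hst, hsr⟩ := exists_rt hσ2 hM hw hl
        rw [hc.ext hsr]
        exact hst) (by
        rintro g hg c ⟨l, hl, hc⟩ h
        by_cases hl0 : l = 0
        · subst hl0
          apply Subtype.ext
          refine hc.ext (s' := 1) fun X => ?_
          rw [zero_smul, zero_pure, add_zero]; rfl
        · exfalso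
          apply hg
          rw [hH] at h ⊢
          have h1 := hTI w hw0 hw l c.1 hl0 hc g.1⁻¹ (M.inv_mem g.2) (by rw [inv_inv]; exact h)
          simpa using h1.inv) Z hZ
    rw [hY, add_sub_cancel_left]
    exact sum_rg hσ hσ2 ha hM hq hw0 hw Y X
  -- `Φ` is the partial trace on `A ⊗ e e^*`
  have hunit : ∀ (A : (Fin a → F) →ₗ[F] (Fin a → F)) (e : Fin b → F), stB σ b e e = 1 →
      (Φ - pt a b F) (rk σ A e e) = 0 := by
    intro A e he
    obtain ⟨w, w', hw, hw', hww', hwe, hw'e⟩ := exists_pair_perp hσ hσ2 hb he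
    have hfix : ∀ (w : Fin b → F) (hw : stB σ b w w = 0), stB σ b w e = 0 →
        ∀ c ∈ rg σ M w hw, cj M c (rk σ A e e) = rk σ A e e := by
      rintro w hw hwe c ⟨l, hl, hc⟩
      refine LinearMap.ext fun X => ?_
      have hew := symm_zero hSb hwe
      rw [cj_apply, hc.symm_apply hw, rk_apply, map_sub, map_smul, rk_apply, con_pure, hew, zero_smul, smul_zero,
        sub_zero, hc, con_pure, hwe, zero_smul, smul_zero, zero_pure, add_zero]
      rfl
    have hw0 : w ≠ 0 := by
      rintro rfl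
      rw [map_zero, LinearMap.zero_apply] at hww'
      exact zero_ne_one hww'
    have hw'0 : w' ≠ 0 := by
      rintro rfl
      rw [map_zero] at hww'
      exact zero_ne_one hww'
    refine LinearMap.ext fun X => ?_
    obtain ⟨u, hu⟩ := key w hw0 hw _ (hfix w hw hwe) X
    obtain ⟨u', hu'⟩ := key w' hw'0 hw' _ (hfix w' hw' hw'e) X
    have h1 := congrArg (con σ w) (hu.symm.trans hu')
    rw [con_pure, con_pure, hw, hww', zero_smul, one_smul] at h1
    rw [← h1, zero_pure] at hu'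
    exact hu'
  have hrk : ∀ (A : (Fin a → F) →ₗ[F] (Fin a → F)) (w w' : Fin b → F), (Φ - pt a b F) (rk σ A w w') = 0 := by
    intro A
    refine sesq_zero hσ hσ2 hb (fun w w' => (Φ - pt a b F) (rk σ A w w')) ?_ ?_ ?_ ?_ (hunit A)
    · intro w w' v
      rw [← map_add]
      congr 1
      refine LinearMap.ext fun X => ?_
      rw [LinearMap.add_apply, rk_apply, rk_apply, rk_apply, Matrix.vecMulVec_add]
    · intro v w w'
      rw [← map_add]
      congr 1
      refine LinearMap.ext fun X => ?_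
      rw [LinearMap.add_apply, rk_apply, rk_apply, rk_apply, con_add, map_add, Matrix.add_vecMulVec]
    · intro c w v
      rw [← map_smul]
      congr 1
      refine LinearMap.ext fun X => ?_
      rw [LinearMap.smul_apply, rk_apply, rk_apply, Matrix.vecMulVec_smul]
    · intro c w v
      rw [← map_smul]
      congr 1
      refine LinearMap.ext fun X => ?_
      rw [LinearMap.smul_apply, rk_apply, rk_apply, con_smul, map_smul, Matrix.smul_vecMulVec]
  have hall : Φ = pt a b F := by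
    rw [← sub_eq_zero]
    refine LinearMap.ext fun Z => ?_
    rw [sum_rk (σ := σ) Z, map_sum]
    simp only [map_sum, hrk]
    simp
  subst hall
  -- the algebra `End U ⊗ 1` is normalised
  obtain ⟨w', hw'⟩ := exists_one_std (σ := σ) (w := (Pi.single (⟨0, by omega⟩ : Fin b) (1 : F) : Fin b → F)) (by
    intro h
    have := congrFun h ⟨0, by omega⟩
    rw [Pi.single_eq_same] at this
    exact one_ne_zero this)
  set Z : Module.End F (Mat a b F) := rk σ A w' (Pi.single (⟨0, by omega⟩ : Fin b) (1 : F)) with hZ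
  have hZA : ptr Z = A := by rw [hZ, ptr_rk, hw', one_smul]
  refine ⟨ptr (cj M ⟨g, hg⟩ Z), fun X => ?_⟩
  have h1 := LinearMap.congr_fun (LinearMap.congr_fun (hΦ ⟨g, hg⟩) Z) (g X)
  rw [Module.End.mul_apply, Module.End.mul_apply, cj_apply, pt_apply, pt_apply, hZA] at h1
  show g (lam A X) = _
  rw [← h1]
  show _ = g (lam A (g.symm (g X)))
  rw [LinearEquiv.symm_apply_apply]

/-- Normalisers of `End U ⊗ 1` are tensors. -/
theorem isTens_of_norm (ha : 1 ≤ a) (hab : a < b) {g : Mat a b F ≃ₗ[F] Mat a b F}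
    (hn : ∀ A : (Fin a → F) →ₗ[F] (Fin a → F), ∃ A' : (Fin a → F) →ₗ[F] (Fin a → F), ∀ X, g (lam A X) = lam A' (g X)) :
    IsTens g := by
  apply isTens_of_pres ha hab
  intro u w
  let i0 : Fin a := ⟨0, ha⟩
  let A : (Fin a → F) →ₗ[F] (Fin a → F) := (LinearMap.proj i0).smulRight u
  have hA : ∀ x, A x = x i0 • u := fun x => rfl
  have hAX : ∀ X : Mat a b F, lam A X = vecMulVec u (X i0) := by
    intro X
    funext i j
    show A (fun i' => X i' j) i = u i * X i0 j
    rw [hA, Pi.smul_apply, smul_eq_mul, mul_comm]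
  obtain ⟨A', hA'⟩ := hn A
  -- `A'` has rank at most one
  have hdep : ∀ x x', ¬ LinearIndependent F ![A' x, A' x'] := by
    intro x x' hli
    let f : ((Fin b → F) × (Fin b → F)) →ₗ[F] Mat a b F := (pureR (A' x)).coprod (pureR (A' x'))
    have hf : Function.Injective f := by
      rw [← LinearMap.ker_eq_bot, LinearMap.ker_eq_bot']
      rintro ⟨v, v'⟩ h
      have h1 : ∀ j, v j • A' x + v' j • A' x' = 0 := by
        intro j
        funext i
        have h2 := congrFun (congrFun h i) j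
        have h3 : (pureR (A' x) v + pureR (A' x') v' : Mat a b F) i j = 0 := h2
        have h4 : (pureR (A' x) v + pureR (A' x') v' : Mat a b F) i j = A' x i * v j + A' x' i * v' j := rfl
        rw [h4] at h3
        rw [Pi.add_apply, Pi.smul_apply, Pi.smul_apply, smul_eq_mul, smul_eq_mul, Pi.zero_apply]
        linear_combination h3
      rw [LinearIndependent.pair_iff] at hli
      ext j
      · exact (hli _ _ (h1 j)).1
      · exact (hli _ _ (h1 j)).2
    let k : ((Fin b → F) × (Fin b → F)) →ₗ[F] Mat a b F := (g.symm : Mat a b F →ₗ[F] Mat a b F) ∘ₗ f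
    have hk : Function.Injective k := g.symm.injective.comp hf
    have hrange : LinearMap.range k ≤ LinearMap.range (pureR (b := b) u) := by
      rintro _ ⟨⟨v, v'⟩, rfl⟩
      have h1 : f (v, v') = lam A' (vecMulVec x v + vecMulVec x' v') := by
        rw [map_add, lam_pure, lam_pure]
        rfl
      have h2 : k (v, v') = lam A (g.symm (vecMulVec x v + vecMulVec x' v')) := by
        show g.symm (f (v, v')) = _
        rw [h1, LinearEquiv.symm_apply_eq, hA', LinearEquiv.apply_symm_apply]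
      rw [h2, hAX]
      exact ⟨_, rfl⟩
    have h1 := LinearMap.finrank_range_of_inj hk
    have h2 := Submodule.finrank_mono hrange
    have h3 := LinearMap.finrank_range_le (pureR (a := a) (b := b) u)
    rw [Module.finrank_prod] at h1
    rw [finrank_fin_fun] at h1 h3
    omega
  obtain ⟨u', hu'⟩ : ∃ u', ∀ x, ∃ c : F, A' x = c • u' := by
    by_cases h0 : ∀ x, A' x = 0
    · exact ⟨0, fun x => ⟨0, by rw [h0, smul_zero]⟩⟩
    · push Not at h0
      obtain ⟨x, hx⟩ := h0
      refine ⟨A' x, fun x' => ?_⟩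
      by_contra hcon
      push Not at hcon
      apply hdep x x'
      rw [LinearIndependent.pair_iff' hx]
      intro c hc
      exact hcon c hc.symm
  choose c hc using hu'
  refine ⟨u', fun j => c (fun i' => g (vecMulVec (Pi.single i0 1) w) i' j), ?_⟩
  have h5 : (vecMulVec u w : Mat a b F) = lam A (vecMulVec (Pi.single i0 1) w) := by
    rw [lam_pure, hA, Pi.single_eq_same, one_smul]
  rw [h5, hA']
  funext i j
  show A' (fun i' => g (vecMulVec (Pi.single i0 1) w) i' j) i = _
  rw [hc, Pi.smul_apply, smul_eq_mul, mul_comm, vecMulVec_apply]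

/-- **Overgroups of the unitary tensor stabiliser**, `q ≥ 3`, `2 ≤ a < b`. -/
theorem main_tens3 (hσ : σ ≠ RingHom.id F) (hσ2 : ∀ x : F, σ (σ x) = x) (ha : 2 ≤ a) (hab : a < b)
    (hq : ∃ ρ : F, σ ρ = ρ ∧ ρ ≠ 0 ∧ ρ ≠ 1) (hM : Over σ M) :
    (∀ g ∈ M, IsTens g) ∨ ∀ X, BV σ a b X X = 0 → HasT (BV σ a b) M X := by
  by_cases hK : ∀ w : Fin b → F, w ≠ 0 → stB σ b w w = 0 → ∀ κ : (Fin a → F) →ₗ[F] (Fin a → F), InK σ M w κ →
      ∃ c : F, ∀ x, κ x = c • x
  · left
    intro g hg
    apply isTens_of_norm (by omega) hab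
    intro A
    exact norm_lam hσ hσ2 (by omega) (by omega) hM hq (fun w hw0 hw l s hl0 hs g hg h =>
      ti_row hσ hσ2 (by omega) hab (by omega) hM hK hw0 hw hl0 hs hg h) hg A
  · right
    push Not at hK
    obtain ⟨w, hw0, hw, κ, hκ, hns⟩ := hK
    obtain ⟨ρ, hρ, hρ0, hρ1⟩ := hq
    exact gen_all3 hσ hσ2 ha (by omega)
      ⟨-ρ, by rw [map_neg, hρ], neg_ne_zero.mpr hρ0, fun h => hρ1 (neg_injective h)⟩ hM
      (claimA hσ hσ2 ha (by omega) (Or.inr ⟨ρ, hρ, hρ0, hρ1⟩) hM hw0 hw hκ (by push Not; exact hns))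

end Main

end Cfsg.Agent.H880
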