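import Cfsg.Agent.H880.UFinal
import Cfsg.Agent.H880.UTrace

/-!
**The stabiliser of a tensor decomposition into unitary spaces of dimensions `2 ≤ n₁ < n₂` is maximal in `SU_n(q)` for
`q ≥ 3`** (`tensor_maximal3`; it covers `(n₁, n₂) = (2, 3)`, which `tensor_maximal` does not).
-/

set_option autoImplicit false
set_option linter.unusedSectionVars false

namespace Cfsg.Agent.H880

open Module Matrix Cfsg.Geo Cfsg.Agent.LieClassical.HermBasic
open scoped Kronecker

section Final

variable {F : Type*} [Field F] [Fintype F] {n q : ℕ}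

/-- **Maximality of the stabilisers of tensor decompositions in `SU_n(q)`.** -/
theorem tensor_maximal3 (hF : Fintype.card F = q ^ 2) {n₁ n₂ : ℕ} (h1 : 2 ≤ n₁) (h12 : n₁ < n₂)
    (hq3 : 3 ≤ q) (e : Fin n ≃ Fin n₁ × Fin n₂) (P : Matrix.GeneralLinearGroup (Fin n) F)
    (f₁ : (Fin n₁ → F) → (Fin n₁ → F) → F) (f₂ : (Fin n₂ → F) → (Fin n₂ → F) → F)
    (hf₁ : IsUnitaryFormPow q f₁) (hf₂ : IsUnitaryFormPow q f₂)
    (hT : IsTensorFormStructure (fun x : F => x ^ q) (Cfsg.hermForm n F q) f₁ f₂ e P) :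
    IsMaximalIn (Cfsg.GU n F q ⊓ Cfsg.Geo.specialLinear (Fin n) F)
      (tensorProductSubgroup n₁ n₂ e P ⊓ (Cfsg.GU n F q ⊓ Cfsg.Geo.specialLinear (Fin n) F)) := by
  set σ : F →+* F := ((conj hF : F ≃+* F) : F →+* F) with hσ_def
  have hσx : ∀ x, σ x = x ^ q := fun x => rfl
  have hσ : σ ≠ RingHom.id F := by
    intro h
    obtain ⟨x, hx⟩ := exists_not_fixed hF
    exact hx (by rw [← hσx, h]; rfl)
  have hσ2 : ∀ x, σ (σ x) = x := fun x => by rw [hσx, hσx, pow_q_pow_q hF]
  have hn : 6 ≤ n := by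
    have h := Fintype.card_congr e
    rw [Fintype.card_prod, Fintype.card_fin, Fintype.card_fin, Fintype.card_fin] at h
    rw [h]
    calc 6 = 2 * 3 := by norm_num
      _ ≤ n₁ * n₂ := Nat.mul_le_mul h1 (by omega)
  obtain ⟨Ψ, hΨ, hΨT⟩ := exists_coords hF (by omega) (by omega) e P f₁ f₂ hf₁ hf₂ hT
  have hq : ∃ ρ : F, σ ρ = ρ ∧ ρ ≠ 0 ∧ ρ ≠ 1 := by
      by_contra hcon
      push Not at hcon
      have hcard := card_fixed hF
      have hle : Nat.card {x : F // x ^ q = x} ≤ 2 := by
        classical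
        have hsub : ∀ x : {x : F // x ^ q = x}, (x : F) = 0 ∨ (x : F) = 1 := by
          intro x
          by_cases h0 : (x : F) = 0
          · exact Or.inl h0
          · exact Or.inr (hcon x x.2 h0)
        let φ : {x : F // x ^ q = x} → Bool := fun x => decide ((x : F) = 0)
        have hφ : Function.Injective φ := by
          intro x y hxy
          have h5 : ((x : F) = 0) ↔ ((y : F) = 0) := by simpa [φ] using hxy
          apply Subtype.ext
          rcases hsub x with hx | hx
          · rw [hx, h5.mp hx]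
          · rcases hsub y with hy | hy
            · rw [h5.mpr hy] at hx
              exact absurd hx zero_ne_one
            · rw [hx, hy]
        have := Nat.card_le_card_of_injective φ hφ
        simpa using this
      omega
  refine ⟨lt_of_le_of_ne inf_le_right ?_, ?_⟩
  · intro h
    have h5 : H918.SUg n F q ≤ tensorProductSubgroup n₁ n₂ e P := by
      have h6 : H918.SUg n F q = tensorProductSubgroup n₁ n₂ e P ⊓ (Cfsg.GU n F q ⊓ Cfsg.Geo.specialLinear (Fin n) F) := h.symm
      rw [h6]
      exact inf_le_left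
    exact H918.SUg_not_le_tensorProductSubgroup hF (by omega) h1 (by omega) e P h5
  · intro M hHM hM
    let M' : Subgroup (Mat n₁ n₂ F ≃ₗ[F] Mat n₁ n₂ F) := M.comap (ofMat Ψ)
    have hM'mem : ∀ k, k ∈ M' ↔ ofMat Ψ k ∈ M := fun k => Iff.rfl
    have hOver : Over σ M' :=
      { iso := fun k hk X Y => by
          have h5 := (H918.mem_SUg.mp (hM ((hM'mem k).mp hk))).1 (Ψ Y) (Ψ X)
          rw [ofMat_mulVec, ofMat_mulVec, hΨ, hΨ] at h5
          exact h5
        det := fun k hk => by
          have h5 := (H918.mem_SUg.mp (hM ((hM'mem k).mp hk))).2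
          rw [ofMat_det] at h5
          exact h5
        ge := fun k h5 h6 h7 => by
          rw [hM'mem]
          apply hHM
          refine ⟨hΨT k h7, H918.mem_SUg.mpr ⟨fun u v => ?_, by rw [ofMat_det, h6]⟩⟩
          obtain ⟨X, rfl⟩ := Ψ.surjective u
          obtain ⟨Y, rfl⟩ := Ψ.surjective v
          rw [ofMat_mulVec, ofMat_mulVec, hΨ, hΨ, h5] }
    rcases main_tens3 hσ hσ2 h1 h12 hq hOver with hl | hr
    · left
      refine le_antisymm (fun g hg => ⟨?_, hM hg⟩) hHM
      obtain ⟨k, rfl⟩ := ofMat_surjective Ψ g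
      exact hΨT k (hl k hg)
    · right
      refine le_antisymm hM ?_
      apply H918.SUg_le_of_tv hF (by omega)
      intro v c hv hc
      obtain ⟨X, rfl⟩ := Ψ.surjective v
      obtain ⟨k, hk, hkx⟩ := (hr X (by rw [← hΨ]; exact hv)).2 c (by rw [hσx]; exact hc)
      have h5 : ofMat Ψ k = H918.tv hF (Ψ X) c hv hc := by
        apply Units.ext
        apply Matrix.mulVec_injective
        funext x
        obtain ⟨Y, rfl⟩ := Ψ.surjective x
        rw [ofMat_mulVec, hkx, H918.tv_mulVec, map_add, map_smul, hΨ]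
      rw [← h5]
      exact hk

end Final

end Cfsg.Agent.H880
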