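import Cfsg.Agent.H880.UStab
import Cfsg.Agent.H880.TI

/-!
**TI property** of the elements `1 ⊗ t` and `t ⊗ 1`, `t` a unitary transvection, in an overgroup `M` of the tensor
stabiliser: if `g s g⁻¹` is a tensor for such an element `s` and `g ∈ M`, then `g` is a tensor.
-/

set_option autoImplicit false
set_option linter.unusedSectionVars false

namespace Cfsg.Agent.H880

open Module Cfsg.Agent.ClassicalGeometry Matrix

section Pre

variable {F : Type*} [Field F] {σ : F →+* F} {a b : ℕ}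

theorem scalar_of_forall {V : Type*} [AddCommGroup V] [Module F V] (f : V →ₗ[F] V) (h : ∀ u, ∃ c : F, f u = c • u) :
    ∃ c : F, ∀ x, f x = c • x := by
  obtain ⟨c, hc⟩ := LinearMap.exists_eq_smul_id_of_forall_notLinearIndependent (f := f) (by
    intro v hv
    obtain ⟨c, hc⟩ := h v
    rw [LinearIndependent.pair_iff] at hv
    have := hv c (-1) (by rw [hc]; module)
    exact one_ne_zero (neg_eq_zero.mp this.2))
  exact ⟨c, fun x => by rw [hc]; rfl⟩

/-- Equality of pure tensors. -/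
theorem pure_eq_pure {u u' : Fin a → F} {v v' : Fin b → F} (h : (vecMulVec u v : Mat a b F) = vecMulVec u' v')
    (hv : v ≠ 0) : ∃ c : F, u = c • u' := by
  obtain ⟨j, hj⟩ : ∃ j, v j ≠ 0 := by
    by_contra hcon
    push Not at hcon
    exact hv (funext hcon)
  refine ⟨v' j / v j, ?_⟩
  funext i
  have h1 := congrFun (congrFun h i) j
  rw [vecMulVec_apply, vecMulVec_apply] at h1
  rw [Pi.smul_apply, smul_eq_mul]
  field_simp
  linear_combination h1

theorem pure_ne_zero {u : Fin a → F} {v : Fin b → F} (hu : u ≠ 0) (hv : v ≠ 0) :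
    (vecMulVec u v : Mat a b F) ≠ 0 := by
  intro h
  obtain ⟨i, hi⟩ : ∃ i, u i ≠ 0 := by
    by_contra hcon
    push Not at hcon
    exact hu (funext hcon)
  obtain ⟨j, hj⟩ : ∃ j, v j ≠ 0 := by
    by_contra hcon
    push Not at hcon
    exact hv (funext hcon)
  have h1 := congrFun (congrFun h i) j
  rw [vecMulVec_apply] at h1
  exact mul_ne_zero hi hj h1

end Pre

section TI

variable {F : Type*} [Field F] {σ : F →+* F} [Finite F] {a b : ℕ} {M : Subgroup (Mat a b F ≃ₗ[F] Mat a b F)}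

/-- `s = 1 ⊗ t`, `t` a transvection with isotropic centre `w`. -/
def IsRT (σ : F →+* F) (w : Fin b → F) (l : F) (s : Mat a b F ≃ₗ[F] Mat a b F) : Prop :=
  ∀ X, s X = X + vecMulVec (l • con σ w X) w

theorem exists_rt (hσ2 : ∀ x : F, σ (σ x) = x) (hM : Over σ M) {w : Fin b → F} (hw : stB σ b w w = 0) {l : F}
    (hl : l + σ l = 0) : ∃ s ∈ M, IsTens s ∧ IsRT σ w l s := by
  obtain ⟨t, ht, _, hti, htd⟩ := exists_tv (B := stB σ b) (stB_symm hσ2 b) hw hl
  refine ⟨rowE a t, hM.rowE_mem hti htd, isTens_rowE t, fun X => ?_⟩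
  funext i
  rw [rowE_apply, ht]
  rfl

/-- **TI property of `1 ⊗ t`.** -/
theorem ti_row (hσ : σ ≠ RingHom.id F) (hσ2 : ∀ x : F, σ (σ x) = x) (ha : 1 ≤ a) (hab : a < b) (hb : 3 ≤ b)
    (hM : Over σ M)
    (hK : ∀ w : Fin b → F, w ≠ 0 → stB σ b w w = 0 → ∀ κ : (Fin a → F) →ₗ[F] (Fin a → F), InK σ M w κ →
      ∃ c : F, ∀ x, κ x = c • x)
    {w : Fin b → F} (hw0 : w ≠ 0) (hw : stB σ b w w = 0) {l : F} (hl0 : l ≠ 0)
    {s : Mat a b F ≃ₗ[F] Mat a b F} (hs : IsRT σ w l s) {g : Mat a b F ≃ₗ[F] Mat a b F} (hg : g ∈ M)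
    (h : IsTens (g * s * g⁻¹)) : IsTens g := by
  have hSb := stB_symm hσ2 b
  obtain ⟨y, z, hyz⟩ := h
  -- `(x - 1) X = g (Θ X ⊗ w)`
  let Θ : Mat a b F →ₗ[F] (Fin a → F) := (l • con σ w) ∘ₗ (g.symm : Mat a b F →ₗ[F] Mat a b F)
  have hΘ : ∀ X, (g * s * g⁻¹) X = X + g (vecMulVec (Θ X) w) := by
    intro X
    show g (s (g.symm X)) = _
    rw [hs, map_add, LinearEquiv.apply_symm_apply]
    rfl
  have hx : ∀ u v, vecMulVec (y u) (z v) = vecMulVec u v + g (vecMulVec (Θ (vecMulVec u v)) w) := by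
    intro u v
    rw [← hyz, hΘ]
  -- `y` is scalar
  obtain ⟨c, hc⟩ := scalar_of_forall (y : (Fin a → F) →ₗ[F] (Fin a → F)) (by
    intro u
    let θ : (Fin b → F) →ₗ[F] (Fin a → F) := Θ ∘ₗ pureR u
    obtain ⟨v, hv0, hv⟩ : ∃ v, v ≠ 0 ∧ θ v = 0 := by
      by_contra hcon
      push Not at hcon
      have hinj : Function.Injective θ := by
        rw [← LinearMap.ker_eq_bot, LinearMap.ker_eq_bot']
        intro v hv
        by_contra h0
        exact hcon v h0 hv
      have := LinearMap.finrank_le_finrank_of_injective hinj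
      rw [finrank_fin_fun, finrank_fin_fun] at this
      omega
    have h1 := hx u v
    have h2 : Θ (vecMulVec u v) = 0 := hv
    rw [h2, zero_pure, map_zero, add_zero] at h1
    exact pure_eq_pure h1 ((LinearEquiv.map_ne_zero_iff z).mpr hv0))
  have hx' : ∀ u v, vecMulVec u (c • z v - v) = g (vecMulVec (Θ (vecMulVec u v)) w) := by
    intro u v
    have h1 := hx u v
    have h2 : y u = c • u := hc u
    rw [h2, Matrix.smul_vecMulVec, ← Matrix.vecMulVec_smul] at h1
    rw [Matrix.vecMulVec_sub, h1, add_sub_cancel_left]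
  -- a non-zero image vector
  obtain ⟨v, hv⟩ : ∃ v, c • z v - v ≠ 0 := by
    by_contra hcon
    push Not at hcon
    obtain ⟨X, hX⟩ := con_surj (σ := σ) hw0 (Pi.single (⟨0, ha⟩ : Fin a) (1 : F))
    have h1 : ∀ u v, Θ (vecMulVec u v) = 0 := by
      intro u v
      by_contra h0
      have h2 := hx' u v
      rw [hcon, pure_zero] at h2
      exact pure_ne_zero h0 hw0 ((LinearEquiv.map_eq_zero_iff g).mp h2.symm)
    have h2 : Θ = 0 := ext_pure fun u v => by rw [h1]; rfl
    have h3 : Θ (g X) = l • Pi.single (⟨0, ha⟩ : Fin a) (1 : F) := by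
      show l • con σ w (g.symm (g X)) = _
      rw [LinearEquiv.symm_apply_apply, hX]
    rw [h2] at h3
    have h4 := congrFun h3 ⟨0, ha⟩
    rw [Pi.smul_apply, Pi.single_eq_same, smul_eq_mul, mul_one] at h4
    exact hl0 h4.symm
  set w1 := c • z v - v with hw1
  let θ : (Fin a → F) →ₗ[F] (Fin a → F) := Θ ∘ₗ pureL v
  have hθ : ∀ u, g (vecMulVec (θ u) w) = vecMulVec u w1 := fun u => (hx' u v).symm
  have hinj : Function.Injective θ := by
    rw [← LinearMap.ker_eq_bot, LinearMap.ker_eq_bot']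
    intro u hu
    by_contra h0
    have h1 := hθ u
    rw [hu, zero_pure, map_zero] at h1
    exact pure_ne_zero h0 hv h1.symm
  let θe := LinearEquiv.ofInjectiveEndo θ hinj
  have hθe : ∀ u, θe u = θ u := fun u => rfl
  have hgw : ∀ u, g (vecMulVec u w) = vecMulVec (θe.symm u) w1 := by
    intro u
    rw [← hθ, ← hθe, LinearEquiv.apply_symm_apply]
  have hw1iso : stB σ b w1 w1 = 0 := by
    have h1 := hM.iso g hg (vecMulVec (θe (Pi.single (⟨0, ha⟩ : Fin a) 1)) w)
      (vecMulVec (θe (Pi.single (⟨0, ha⟩ : Fin a) 1)) w)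
    rw [hgw, LinearEquiv.symm_apply_apply, BV_pure, BV_pure, hw, mul_zero, stB_single_left, Pi.single_eq_same,
      one_mul] at h1
    exact h1
  obtain ⟨z2, hz2, hz2d, hz2w⟩ := exists_su hσ hσ2 hb hv hw0 (by rw [hw1iso, hw])
  have hz2M := hM.rowE_mem (a := a) hz2 hz2d
  have hfin : IsTens (rowE a z2 * g) := by
    refine claimD hσ hσ2 ha hb hM hw0 hw (hK w hw0 hw) (M.mul_mem hz2M hg) θe.symm fun u => ?_
    show rowE a z2 (g _) = _
    rw [hgw, rowE_pure, hz2w]
  have h5 := (isTens_rowE (a := a) z2).inv.mul hfin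
  rwa [inv_mul_cancel_left] at h5

/-! ### Transposition -/

/-- Transposition of maps. -/
def conT (g : Mat b a F ≃ₗ[F] Mat b a F) : Mat a b F ≃ₗ[F] Mat a b F :=
  (trE a b F).trans (g.trans (trE b a F))

theorem conT_apply (g : Mat b a F ≃ₗ[F] Mat b a F) (X : Mat a b F) :
    conT g X = trE b a F (g (trE a b F X)) := rfl

theorem conT_mul (g h : Mat b a F ≃ₗ[F] Mat b a F) : conT (g * h) = conT g * conT h := rfl

theorem conT_one : conT (1 : Mat b a F ≃ₗ[F] Mat b a F) = 1 := rfl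

theorem conT_inv (g : Mat b a F ≃ₗ[F] Mat b a F) : conT g⁻¹ = (conT g)⁻¹ := rfl

theorem conT_conT (g : Mat b a F ≃ₗ[F] Mat b a F) : conT (conT g) = g := rfl

theorem conT_iso {g : Mat b a F ≃ₗ[F] Mat b a F} (hg : ∀ X Y, BV σ b a (g X) (g Y) = BV σ b a X Y)
    (X Y : Mat a b F) : BV σ a b (conT g X) (conT g Y) = BV σ a b X Y := by
  rw [conT_apply, conT_apply, BV_trE, hg, BV_trE]

theorem conT_det (g : Mat b a F ≃ₗ[F] Mat b a F) :
    LinearMap.det (conT g : Mat a b F →ₗ[F] Mat a b F) = LinearMap.det (g : Mat b a F →ₗ[F] Mat b a F) := by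
  rw [← LinearMap.det_conj (g : Mat b a F →ₗ[F] Mat b a F) (trE b a F)]
  rfl

theorem conT_isTens {g : Mat b a F ≃ₗ[F] Mat b a F} (h : IsTens g) : IsTens (conT g) := by
  obtain ⟨y, z, hyz⟩ := h
  refine ⟨z, y, fun u w => ?_⟩
  rw [conT_apply, trE_pure, hyz, trE_pure]

/-- The transposed group. -/
def trM (M : Subgroup (Mat a b F ≃ₗ[F] Mat a b F)) : Subgroup (Mat b a F ≃ₗ[F] Mat b a F) where
  carrier := {g | conT g ∈ M}
  mul_mem' := fun {g h} hg hh => M.mul_mem hg hh
  one_mem' := M.one_mem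
  inv_mem' := fun {g} hg => M.inv_mem hg

theorem mem_trM {g : Mat b a F ≃ₗ[F] Mat b a F} : g ∈ trM M ↔ conT g ∈ M := Iff.rfl

theorem Over.tr (hM : Over σ M) : Over σ (trM M) where
  iso := fun g hg X Y => by
    have h := hM.iso (conT g) hg
    have h2 := conT_iso (g := conT g) h X Y
    exact h2
  det := fun g hg => by
    rw [← conT_det]
    exact hM.det _ hg
  ge := fun g h1 h2 h3 => hM.ge (conT g) (conT_iso h1) (by rw [conT_det]; exact h2) (conT_isTens h3)

theorem hasT_tr {u : Fin a → F} {w : Fin b → F} (h : HasT (BV σ b a) (trM M) (vecMulVec w u)) :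
    HasT (BV σ a b) M (vecMulVec u w) := by
  have e : ∀ X Y, BV σ a b X Y = BV σ b a (trE a b F X) (trE a b F Y) := fun X Y => (BV_trE X Y).symm
  refine ⟨by rw [e, trE_pure]; exact h.1, fun l hl => ?_⟩
  obtain ⟨g, hg, hgx⟩ := h.2 l hl
  refine ⟨conT g, hg, fun X => ?_⟩
  rw [conT_apply, hgx, map_add, map_smul, trE_pure, e, trE_pure]
  rfl

/-- `s = t ⊗ 1`, `t` a transvection with isotropic centre `u`. -/
def IsCT (σ : F →+* F) (u : Fin a → F) (l : F) (s : Mat a b F ≃ₗ[F] Mat a b F) : Prop :=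
  ∀ X, s X = X + vecMulVec u (l • con σ u (trE a b F X))

theorem exists_ct (hσ2 : ∀ x : F, σ (σ x) = x) (hM : Over σ M) {u : Fin a → F} (hu : stB σ a u u = 0) {l : F}
    (hl : l + σ l = 0) : ∃ s ∈ M, IsTens s ∧ IsCT σ u l s := by
  obtain ⟨s, hs, hst, hsr⟩ := exists_rt hσ2 hM.tr hu hl
  refine ⟨conT s, hs, conT_isTens hst, fun X => ?_⟩
  rw [conT_apply, hsr, map_add, trE_pure]
  rfl

theorem finrank_mat (a b : ℕ) : finrank F (Mat a b F) = a * b := by
  rw [Module.finrank_matrix]; simp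

/-- **TI property of `t ⊗ 1`** for `b = a + 1`. -/
theorem ti_col (hσ : σ ≠ RingHom.id F) (hσ2 : ∀ x : F, σ (σ x) = x) (ha : 3 ≤ a) (hab : b = a + 1)
    (hM : Over σ M)
    (hK : ∀ u : Fin a → F, u ≠ 0 → stB σ a u u = 0 → ∀ κ : (Fin b → F) →ₗ[F] (Fin b → F), InK σ (trM M) u κ →
      ∃ c : F, ∀ x, κ x = c • x)
    {u0 : Fin a → F} (hu00 : u0 ≠ 0) (hu0 : stB σ a u0 u0 = 0) {l : F} (hl0 : l ≠ 0)
    {s : Mat a b F ≃ₗ[F] Mat a b F} (hs : IsCT σ u0 l s) {g : Mat a b F ≃ₗ[F] Mat a b F} (hg : g ∈ M)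
    (h : IsTens (g * s * g⁻¹)) : IsTens g := by
  have hSa := stB_symm hσ2 a
  obtain ⟨y, z, hyz⟩ := h
  let Θ : Mat a b F →ₗ[F] (Fin b → F) := (l • con σ u0) ∘ₗ (trE a b F : Mat a b F →ₗ[F] Mat b a F) ∘ₗ
    (g.symm : Mat a b F →ₗ[F] Mat a b F)
  have hΘ : ∀ X, (g * s * g⁻¹) X = X + g (vecMulVec u0 (Θ X)) := by
    intro X
    show g (s (g.symm X)) = _
    rw [hs, map_add, LinearEquiv.apply_symm_apply]
    rfl
  have hΘs : Function.Surjective Θ := by
    intro v
    obtain ⟨X, hX⟩ := con_surj (σ := σ) (a := b) hu00 (l⁻¹ • v)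
    refine ⟨g (trE b a F X), ?_⟩
    show l • con σ u0 (trE a b F (g.symm (g (trE b a F X)))) = v
    rw [LinearEquiv.symm_apply_apply]
    have : trE a b F (trE b a F X) = X := rfl
    rw [this, hX, smul_smul, mul_inv_cancel₀ hl0, one_smul]
  have hx : ∀ u v, vecMulVec (y u) (z v) = vecMulVec u v + g (vecMulVec u0 (Θ (vecMulVec u v))) := by
    intro u v
    rw [← hyz, hΘ]
  have hbpos : 0 < b := by omega
  by_cases hy : ∃ c : F, ∀ u, y u = c • u
  · -- `y` scalar: impossible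
    exfalso
    obtain ⟨c, hc⟩ := hy
    let N : (Fin b → F) →ₗ[F] (Fin b → F) := c • (z : (Fin b → F) →ₗ[F] (Fin b → F)) - LinearMap.id
    have hN : ∀ v, N v = c • z v - v := fun v => rfl
    have hx' : ∀ u v, vecMulVec u (N v) = g (vecMulVec u0 (Θ (vecMulVec u v))) := by
      intro u v
      have h1 := hx u v
      rw [hc, Matrix.smul_vecMulVec, ← Matrix.vecMulVec_smul] at h1
      rw [hN, Matrix.vecMulVec_sub, h1, add_sub_cancel_left]
    have hx2 : ∀ X : Mat a b F, (fun i => N (X i) : Mat a b F) = g (vecMulVec u0 (Θ X)) := by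
      intro X
      conv_rhs => rw [sum_rows X]
      rw [map_sum, ← pureR_apply, map_sum, map_sum]
      conv_lhs => rw [sum_rows (fun i => N (X i) : Mat a b F)]
      refine Finset.sum_congr rfl fun i _ => ?_
      rw [pureR_apply, ← hx']
    -- the kernel of `Θ`
    let K := LinearMap.ker N
    let ψ : (Fin a → K) →ₗ[F] Mat a b F :=
      { toFun := fun k => fun i => (k i : Fin b → F)
        map_add' := fun _ _ => rfl
        map_smul' := fun _ _ => rfl }
    have hψ : Function.Injective ψ := by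
      intro k k' h
      funext i
      exact Subtype.ext (congrFun h i)
    have hker : LinearMap.range ψ = LinearMap.ker Θ := by
      ext X
      rw [LinearMap.mem_ker]
      constructor
      · rintro ⟨k, rfl⟩
        have h1 := hx2 (ψ k)
        have h2 : (fun i => N ((ψ k) i) : Mat a b F) = 0 := by
          funext i
          exact (k i).2
        rw [h2] at h1
        by_contra h0
        exact pure_ne_zero hu00 h0 ((LinearEquiv.map_eq_zero_iff g).mp h1.symm)
      · intro hX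
        have h1 := hx2 X
        rw [hX, pure_zero, map_zero] at h1
        exact ⟨fun i => ⟨X i, congrFun h1 i⟩, rfl⟩
    have h1 := LinearMap.finrank_range_add_finrank_ker Θ
    rw [LinearMap.range_eq_top.mpr hΘs, finrank_top, finrank_fin_fun, finrank_mat, ← hker,
      LinearMap.finrank_range_of_inj hψ, Module.finrank_pi_fintype, Finset.sum_const, Finset.card_univ,
      Fintype.card_fin, smul_eq_mul] at h1
    have h2 : a ∣ 1 := by
      have h3 : a ∣ b + a * finrank F K := by rw [h1]; exact dvd_mul_right a _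
      have h4 : a ∣ b := (Nat.dvd_add_left (dvd_mul_right a _)).mp h3
      have h5 : a ∣ a + 1 := by rw [← hab]; exact h4
      exact (Nat.dvd_add_right (dvd_refl a)).mp h5
    have := Nat.dvd_one.mp h2
    omega
  -- `y` not scalar, so `z` is scalar
  obtain ⟨u1, hu1⟩ : ∃ u1, ∀ c : F, y u1 ≠ c • u1 := by
    by_contra hcon
    push Not at hcon
    exact hy (scalar_of_forall (y : (Fin a → F) →ₗ[F] (Fin a → F)) hcon)
  have hu10 : u1 ≠ 0 := by
    rintro rfl
    exact hu1 0 (by rw [map_zero, smul_zero])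
  have hzc : ∃ c : F, ∀ v, z v = c • v := by
    -- a functional vanishing on `u1, y u1`
    obtain ⟨p, hp0, hp1, hp2⟩ : ∃ p : Fin a → F, p ≠ 0 ∧ stB σ a p u1 = 0 ∧ stB σ a p (y u1) = 0 := by
      have hd := finrank_perp_range (B := stB σ a) ![u1, y u1]
      rw [Fintype.card_fin, finrank_fin_fun] at hd
      obtain ⟨⟨p, hp⟩, hp0⟩ := Module.finrank_pos_iff_exists_ne_zero.mp
        (show 0 < finrank F (perp (stB σ a) (Set.range ![u1, y u1])) by omega)
      refine ⟨p, fun h => hp0 (Subtype.ext h), symm_zero hSa (hp _ ⟨0, rfl⟩), symm_zero hSa (hp _ ⟨1, rfl⟩)⟩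
    -- `θ : v ↦ Θ (u1 ⊗ v)` is bijective
    let θ : (Fin b → F) →ₗ[F] (Fin b → F) := Θ ∘ₗ pureR u1
    have hinj : Function.Injective θ := by
      rw [← LinearMap.ker_eq_bot, LinearMap.ker_eq_bot']
      intro v hv
      by_contra h0
      have h1 := hx u1 v
      have h2 : Θ (vecMulVec u1 v) = 0 := hv
      rw [h2, pure_zero, map_zero, add_zero] at h1
      obtain ⟨c, hc⟩ := pure_eq_pure h1 ((LinearEquiv.map_ne_zero_iff z).mpr h0)
      exact hu1 c hc
    have hsurj := LinearMap.injective_iff_surjective.mp hinj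
    -- all `g (u0 ⊗ v)` are killed by `p`
    have hJ : ∀ v, con σ p (trE a b F (g (vecMulVec u0 v))) = 0 := by
      intro v
      obtain ⟨v', rfl⟩ := hsurj v
      have h1 : g (vecMulVec u0 (θ v')) = vecMulVec (y u1) (z v') - vecMulVec u1 v' := by
        rw [hx u1 v', add_sub_cancel_left]; rfl
      rw [h1, map_sub, map_sub, trE_pure, trE_pure, con_pure, con_pure, hp1, hp2, zero_smul, zero_smul, sub_self]
    have hrel : ∀ u v, stB σ a p (y u) • z v = stB σ a p u • v := by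
      intro u v
      have h1 := congrArg (fun X => con σ p (trE a b F X)) (hx u v)
      simp only [map_add, hJ, add_zero, trE_pure, con_pure] at h1
      exact h1
    obtain ⟨u2, hu2⟩ := exists_one_std (σ := σ) hp0
    have h1 := hrel u2
    simp only [hu2, one_smul] at h1
    have hne : stB σ a p (y u2) ≠ 0 := by
      intro h0
      have h2 := h1 (Pi.single ⟨0, hbpos⟩ 1)
      rw [h0, zero_smul] at h2
      have h3 := congrFun h2 ⟨0, hbpos⟩
      rw [Pi.single_eq_same] at h3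
      exact zero_ne_one h3
    exact ⟨(stB σ a p (y u2))⁻¹, fun v => by rw [← h1 v, smul_smul, inv_mul_cancel₀ hne, one_smul]; exact (h1 v).symm ▸ rfl⟩
  obtain ⟨c, hc⟩ := hzc
  set u2 := c • y u1 - u1 with hu2
  have hu20 : u2 ≠ 0 := by
    intro h0
    have hc0 : c ≠ 0 := by
      rintro rfl
      have h1 := hc (Pi.single ⟨0, hbpos⟩ 1)
      rw [zero_smul, LinearEquiv.map_eq_zero_iff] at h1
      have h3 := congrFun h1 ⟨0, hbpos⟩
      rw [Pi.single_eq_same] at h3
      exact one_ne_zero h3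
    apply hu1 c⁻¹
    have h1 : c • y u1 = u1 := sub_eq_zero.mp h0
    conv_rhs => rw [← h1]
    rw [smul_smul, inv_mul_cancel₀ hc0, one_smul]
  let θ : (Fin b → F) →ₗ[F] (Fin b → F) := Θ ∘ₗ pureR u1
  have hθ : ∀ v, g (vecMulVec u0 (θ v)) = vecMulVec u2 v := by
    intro v
    have h1 := hx u1 v
    rw [hc, Matrix.vecMulVec_smul, ← Matrix.smul_vecMulVec] at h1
    rw [hu2, Matrix.sub_vecMulVec, h1, add_sub_cancel_left]
    rfl
  have hinj : Function.Injective θ := by
    rw [← LinearMap.ker_eq_bot, LinearMap.ker_eq_bot']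
    intro v hv
    by_contra h0
    have h1 := hθ v
    rw [hv, pure_zero, map_zero] at h1
    exact pure_ne_zero hu20 h0 h1.symm
  let θe := LinearEquiv.ofInjectiveEndo θ hinj
  have hθe : ∀ v, θe v = θ v := fun v => rfl
  have hgu : ∀ v, g (vecMulVec u0 v) = vecMulVec u2 (θe.symm v) := by
    intro v
    rw [← hθ, ← hθe, LinearEquiv.apply_symm_apply]
  have hu2iso : stB σ a u2 u2 = 0 := by
    have h1 := hM.iso g hg (vecMulVec u0 (θe (Pi.single ⟨0, hbpos⟩ 1))) (vecMulVec u0 (θe (Pi.single ⟨0, hbpos⟩ 1)))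
    rw [hgu, LinearEquiv.symm_apply_apply, BV_pure, BV_pure, hu0, zero_mul, stB_single_left, Pi.single_eq_same,
      mul_one] at h1
    exact h1
  obtain ⟨y2, hy2, hy2d, hy2u⟩ := exists_su hσ hσ2 ha hu20 hu00 (by rw [hu2iso, hu0])
  have hy2M := hM.colE_mem (b := b) hy2 hy2d
  have hfin : IsTens (conT (colE b y2 * g)) := by
    refine claimD hσ hσ2 (by omega) ha hM.tr hu00 hu0 (hK u0 hu00 hu0) (M.mul_mem hy2M hg) θe.symm fun v => ?_
    show trE a b F (colE b y2 (g (trE b a F (vecMulVec v u0)))) = _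
    rw [trE_pure, hgu, colE_pure, hy2u, trE_pure]
  have h5 := (isTens_colE (b := b) y2).inv.mul (conT_isTens hfin)
  rw [conT_conT] at h5
  rwa [inv_mul_cancel_left] at h5

end TI

end Cfsg.Agent.H880
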