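import Cfsg.Agent.H880.UTens

/-!
Special isometries of the standard hermitian space: determinants, transitivity on vectors of equal norm.
-/

set_option autoImplicit false

namespace Cfsg.Agent.H880

open Module Cfsg.Agent.ClassicalGeometry Matrix

section

variable {F : Type*} [Field F] {σ : F →+* F} {n : ℕ}

theorem iso_det {z : (Fin n → F) ≃ₗ[F] (Fin n → F)} (hz : ∀ x y, stB σ n (z x) (z y) = stB σ n x y) :
    σ (LinearMap.det (z : (Fin n → F) →ₗ[F] (Fin n → F))) * LinearMap.det (z : (Fin n → F) →ₗ[F] (Fin n → F)) = 1 := by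
  let A := LinearMap.toMatrix' (z : (Fin n → F) →ₗ[F] (Fin n → F))
  have hA : (σ.mapMatrix A)ᵀ * A = 1 := by
    ext j k
    have h := hz (Pi.single j 1) (Pi.single k 1)
    rw [stB_single_left, stB_apply] at h
    rw [Matrix.mul_apply]
    have h1 : ∀ i, (σ.mapMatrix A)ᵀ j i * A i k = σ (z (Pi.single j 1) i) * z (Pi.single k 1) i := by
      intro i
      rw [Matrix.transpose_apply, RingHom.mapMatrix_apply, Matrix.map_apply]
      rfl
    rw [Finset.sum_congr rfl fun i _ => h1 i, h, Matrix.one_apply, Pi.single_apply]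
  have h2 := congrArg Matrix.det hA
  rw [Matrix.det_mul, Matrix.det_transpose, ← RingHom.map_det, Matrix.det_one] at h2
  rw [← LinearMap.det_toMatrix']
  exact h2

variable [Finite F]

/-- The quasi-reflection `x ↦ x + (δ - 1) B(e, x) e`. -/
theorem exists_refl {V : Type*} [AddCommGroup V] [Module F V] [FiniteDimensional F V]
    {B : V →ₛₗ[σ] V →ₗ[F] F} (hS : B.IsSymm) {e : V} (he : B e e = 1) {δ : F} (hδ : σ δ * δ = 1) :
    ∃ r : V ≃ₗ[F] V, (∀ x, r x = x + ((δ - 1) * B e x) • e) ∧ (∀ x y, B (r x) (r y) = B x y) ∧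
      LinearMap.det (r : V →ₗ[F] V) = δ := by
  have hδ0 : δ ≠ 0 := by
    rintro rfl
    rw [mul_zero] at hδ
    exact zero_ne_one hδ
  let f : Dual F V := (δ - 1) • B e
  have hdet : (LinearMap.transvection f e).det = δ := by
    rw [LinearMap.transvection.det]
    show 1 + (δ - 1) * B e e = δ
    rw [he]; ring
  have hinj : Function.Injective (LinearMap.transvection f e) := by
    intro x y hxy
    have h1 : LinearMap.transvection f e (x - y) = 0 := by rw [map_sub, hxy, sub_self]
    have h2 : (x - y) + ((δ - 1) * B e (x - y)) • e = 0 := h1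
    have h3 : B e (x - y) = 0 := by
      have := congrArg (B e) h2
      rw [map_add, map_smul, he, map_zero, smul_eq_mul, mul_one] at this
      have h4 : δ * B e (x - y) = 0 := by linear_combination this
      rcases mul_eq_zero.mp h4 with h | h
      · exact absurd h hδ0
      · exact h
    rw [h3, mul_zero, zero_smul, add_zero] at h2
    exact sub_eq_zero.mp h2
  refine ⟨LinearEquiv.ofInjectiveEndo _ hinj, fun x => rfl, ?_, hdet⟩
  intro x y
  show B (x + ((δ - 1) * B e x) • e) (y + ((δ - 1) * B e y) • e) = B x y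
  simp only [map_add, LinearMap.add_apply, LinearMap.map_smulₛₗ₂, map_smul, smul_eq_mul, he, mul_one, map_mul,
    map_sub, map_one, hS.eq]
  linear_combination (B e y * B x e) * hδ

/-- `SU_n` is transitive on non-zero vectors of given norm, `n ≥ 3`. -/
theorem exists_su (hσ : σ ≠ RingHom.id F) (hσ2 : ∀ x : F, σ (σ x) = x) (hn : 3 ≤ n) {v v' : Fin n → F}
    (hv : v ≠ 0) (hv' : v' ≠ 0) (h : stB σ n v v = stB σ n v' v') :
    ∃ z : (Fin n → F) ≃ₗ[F] (Fin n → F), (∀ x y, stB σ n (z x) (z y) = stB σ n x y) ∧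
      LinearMap.det (z : (Fin n → F) →ₗ[F] (Fin n → F)) = 1 ∧ z v = v' := by
  have hS := stB_symm hσ2 n
  have hB := stB_sepLeft (σ := σ) n
  let ev := LinearEquiv.toSpanNonzeroSingleton F (Fin n → F) v hv
  let f : Submodule.span F {v} →ₗ[F] (Fin n → F) := (LinearMap.toSpanSingleton F (Fin n → F) v').comp
    (ev.symm : Submodule.span F {v} →ₗ[F] F)
  have hf : ∀ c : F, f (ev c) = c • v' := by
    intro c
    show LinearMap.toSpanSingleton F (Fin n → F) v' (ev.symm (ev c)) = c • v'
    rw [LinearEquiv.symm_apply_apply]; rfl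
  have hev : ∀ c : F, ((ev c : Submodule.span F {v}) : Fin n → F) = c • v := fun c => rfl
  obtain ⟨g, hg, hgf⟩ := HermWitt.exists_extension σ (stB σ n) hσ hσ2 hS hB (Submodule.span F {v}) f
    (by
      intro x y hxy
      obtain ⟨c, rfl⟩ := ev.surjective x
      obtain ⟨d, rfl⟩ := ev.surjective y
      rw [hf, hf] at hxy
      rw [smul_left_injective F hv' hxy])
    (by
      intro x y
      obtain ⟨c, rfl⟩ := ev.surjective x
      obtain ⟨d, rfl⟩ := ev.surjective y
      rw [hf, hf, hev, hev]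
      simp only [LinearMap.map_smulₛₗ₂, map_smul, h])
  have hgv : g v = v' := by
    have h1 := hgf (ev 1)
    rw [hev, hf, one_smul, one_smul] at h1
    exact h1
  have hd := iso_det hg
  set d := LinearMap.det (g : (Fin n → F) →ₗ[F] (Fin n → F)) with hd_def
  have hd0 : d ≠ 0 := by
    intro h0
    rw [h0, mul_zero] at hd
    exact zero_ne_one hd
  obtain ⟨e, hve, hee⟩ := exists_unit_perp_of_ne hσ hσ2 hS hB (by simpa using hn) v'
  have hev' : stB σ n e v' = 0 := symm_zero hS hve
  obtain ⟨r, hr, hriso, hrdet⟩ := exists_refl (B := stB σ n) hS hee (δ := d⁻¹) (by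
    rw [map_inv₀, ← mul_inv, hd, inv_one])
  refine ⟨g.trans r, fun x y => ?_, ?_, ?_⟩
  · show stB σ n (r (g x)) (r (g y)) = _
    rw [hriso, hg]
  · have h1 : ((g.trans r : (Fin n → F) ≃ₗ[F] (Fin n → F)) : (Fin n → F) →ₗ[F] (Fin n → F))
        = (r : (Fin n → F) →ₗ[F] (Fin n → F)) ∘ₗ (g : (Fin n → F) →ₗ[F] (Fin n → F)) := rfl
    rw [h1, LinearMap.det_comp, hrdet, ← hd_def, inv_mul_cancel₀ hd0]
  · show r (g v) = v'
    rw [hgv, hr, hev', mul_zero, zero_smul, add_zero]

end

end Cfsg.Agent.H880
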